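import Groth.Agent.RegImm.K559.Gen
import Groth.Agent.Flat2H.KoszulDescent

/-!
# Faithfully flat descent of Koszul-regular immersions
-/

set_option autoImplicit false
universe u

open CategoryTheory CategoryTheory.Limits AlgebraicGeometry
open K559.Gen

namespace K559.KoszulDesc

/-- The property of being a Koszul-regular sequence. -/
abbrev KS (R : Type u) [CommRing R] (l : List R) : Prop := LCI.IsKoszulRegularSeq R l

lemma flatStable : FlatStable KS.{u} := fun _ _ _ _ φ hφ _ hl =>
  Groth.Agent.Flat2H.KoszulBC.IsKoszulRegularSeq_map_of_flat hl φ hφ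

lemma sIdeal_iff {R : Type u} [CommRing R] (I : Ideal R) :
    SIdeal KS I ↔ LCI.IsKoszulRegularIdeal I :=
  Groth.Agent.Flat2H.KoszulIdeal.isKoszulRegularIdeal_iff.symm

theorem descent_ideal (A B : Type u) [CommRing A] [CommRing B] [Algebra A B]
    [Module.FaithfullyFlat A B] (I : Ideal A) (h : SIdeal KS (I.map (algebraMap A B))) :
    SIdeal KS I := by
  rw [sIdeal_iff] at h ⊢
  exact Groth.Agent.Flat2H.KoszulDescent.IsKoszulRegularIdeal.of_faithfullyFlat h

variable {X Y X' Y' : Scheme.{u}}

theorem descent (i : Y ⟶ X) [IsImmersion i] (g : X' ⟶ X) [Flat g] [Surjective g] [QuasiCompact g]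
    (i' : Y' ⟶ X') (g' : Y' ⟶ Y) (hsq : IsPullback g' i' i g)
    (h : RegImm.IsRegularImmersion .koszul i') : RegImm.IsRegularImmersion .koszul i :=
  ⟨inferInstance, Gen.descent flatStable descent_ideal hsq h.2⟩

end K559.KoszulDesc
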