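import Groth.Agent.RegImm.K559.H1Flat
import Mathlib.RingTheory.Localization.AtPrime.Basic

/-!
# Quasi-regular sequences: flat base change, descent, localization
-/

set_option autoImplicit false
universe u

open MvPolynomial

namespace K559.QuasiFlat

variable {A B : Type u} [CommRing A] [CommRing B]

lemma span_map {c : ℕ} (φ : A →+* B) (f : Fin c → A) :
    Ideal.span (Set.range fun i => φ (f i)) = (Ideal.span (Set.range f)).map φ := by
  rw [Ideal.map_span, ← Set.range_comp]
  rfl

lemma prod_mem_pow {c : ℕ} (f : Fin c → A) (d : Fin c →₀ ℕ) :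
    ∏ i, f i ^ d i ∈ Ideal.span (Set.range f) ^ (Finsupp.degree d) := by
  have h2 : Finsupp.degree d = ∑ i, d i := by
    rw [Finsupp.degree_eq_sum]
  rw [h2]
  have hprod : ∀ (s : Finset (Fin c)), ∏ i ∈ s, f i ^ d i ∈ Ideal.span (Set.range f) ^ (∑ i ∈ s, d i) := by
    intro s
    induction s using Finset.induction_on with
    | empty => simp
    | insert a s ha ih =>
      rw [Finset.prod_insert ha, Finset.sum_insert ha, pow_add]
      have hga : f a ∈ Ideal.span (Set.range f) := Ideal.subset_span ⟨a, rfl⟩
      exact Ideal.mul_mem_mul (Ideal.pow_mem_pow hga _) ih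
  exact hprod _

lemma eval₂_eq {c : ℕ} (φ : A →+* B) (f : Fin c → A) (P : MvPolynomial (Fin c) A) :
    eval₂ φ (fun i => φ (f i)) P = φ (eval f P) := by
  have := eval₂_comp_left φ (RingHom.id A) f P
  rw [RingHom.comp_id] at this
  exact this.symm

/-- Faithfully flat descent for quasi-regular sequences. -/
theorem isQuasiRegular_of_faithfullyFlat [Algebra A B] [Module.FaithfullyFlat A B] {c : ℕ}
    {f : Fin c → A} (hf : CAlgX.IsQuasiRegular (fun i => algebraMap A B (f i))) :
    CAlgX.IsQuasiRegular f := by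
  intro n P hP hPJ d
  have h1 := hf n (P.map (algebraMap A B)) (hP.map _) (by
    rw [MvPolynomial.eval_map, span_map, ← Ideal.map_pow, eval₂_eq]
    exact Ideal.mem_map_of_mem _ hPJ) d
  rw [MvPolynomial.coeff_map, span_map] at h1
  rwa [← Ideal.comap_map_eq_self_of_faithfullyFlat (B := B) (Ideal.span (Set.range f)),
    Ideal.mem_comap]

/-- Quasi-regularity can be checked at the primes containing the ideal. -/
theorem isQuasiRegular_of_localization {c : ℕ} {f : Fin c → A}
    (h : ∀ (p : Ideal A) [p.IsPrime], Ideal.span (Set.range f) ≤ p →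
      CAlgX.IsQuasiRegular (fun i => algebraMap A (Localization.AtPrime p) (f i))) :
    CAlgX.IsQuasiRegular f := by
  intro n P hP hPJ d
  by_contra hne
  let J := Ideal.span (Set.range f)
  let K : Ideal A := J.colon {P.coeff d}
  have hK : ∀ x, x ∈ K ↔ x * P.coeff d ∈ J := fun x => by
    rw [Submodule.mem_colon_singleton]; rfl
  have hKt : K ≠ ⊤ := fun h => hne (by
    have := (hK 1).1 (h ▸ trivial)
    rwa [one_mul] at this)
  obtain ⟨m, hm, hle⟩ := Ideal.exists_le_maximal K hKt
  have := hm.isPrime
  have hJ : J ≤ m := fun x hx => hle ((hK x).2 (Ideal.mul_mem_right _ _ hx))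
  have h1 := h m hJ n (P.map (algebraMap A (Localization.AtPrime m))) (hP.map _) (by
    rw [MvPolynomial.eval_map, span_map, ← Ideal.map_pow, eval₂_eq]
    exact Ideal.mem_map_of_mem _ hPJ) d
  rw [MvPolynomial.coeff_map, span_map,
    IsLocalization.algebraMap_mem_map_algebraMap_iff m.primeCompl] at h1
  obtain ⟨s, hs, h2⟩ := h1
  exact hs (hle ((hK s).2 h2))

/-- Flat base change for quasi-regular sequences. -/
theorem isQuasiRegular_of_flat [Algebra A B] [Module.Flat A B] {c : ℕ} {f : Fin c → A}
    (hf : CAlgX.IsQuasiRegular f) : CAlgX.IsQuasiRegular (fun i => algebraMap A B (f i)) := by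
  classical
  intro n P hP hPJ d
  by_cases hd : P.coeff d = 0
  · rw [hd]; exact zero_mem _
  obtain ⟨Q, hQ, hQP⟩ := Groth.Agent.CalgB.QuasiRegular.exists_mem_pow_eval (n + 1) _ hPJ
  rw [mem_pow_idealOfVars_iff] at hQ
  let ι := P.support ⊕ Q.support
  let g : ι → A := Sum.elim (fun x => ∏ i, f i ^ x.1 i) (fun x => ∏ i, f i ^ x.1 i)
  let b : ι → B := Sum.elim (fun x => P.coeff x.1) (fun x => - Q.coeff x.1)
  have h0 : ∑ k, g k • b k = 0 := by
    rw [Fintype.sum_sum_type]
    have h1 : ∑ x : P.support, g (Sum.inl x) • b (Sum.inl x) =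
        eval (fun i => algebraMap A B (f i)) P := by
      rw [MvPolynomial.eval_eq', ← Finset.sum_coe_sort P.support
        (fun d => P.coeff d * ∏ i, algebraMap A B (f i) ^ d i)]
      refine Finset.sum_congr rfl fun x _ => ?_
      simp only [g, b, Sum.elim_inl, Algebra.smul_def, map_prod, map_pow]
      rw [mul_comm]
    have h2 : ∑ x : Q.support, g (Sum.inr x) • b (Sum.inr x) =
        - eval (fun i => algebraMap A B (f i)) Q := by
      rw [MvPolynomial.eval_eq', ← Finset.sum_coe_sort Q.support
        (fun d => Q.coeff d * ∏ i, algebraMap A B (f i) ^ d i), ← Finset.sum_neg_distrib]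
      refine Finset.sum_congr rfl fun x _ => ?_
      simp only [g, b, Sum.elim_inr, Algebra.smul_def, map_prod, map_pow, mul_neg]
      rw [mul_comm]
    rw [h1, h2, hQP, add_neg_cancel]
  obtain ⟨k, a, y, hy, ha⟩ := Module.Flat.isTrivialRelation_of_sum_smul_eq_zero h0
  -- the coefficients `a (inl x) j` lie in the ideal
  have key : ∀ (x : P.support) (j : Fin k), a (Sum.inl x) j ∈ Ideal.span (Set.range f) := by
    intro x j
    let R : MvPolynomial (Fin c) A := ∑ z : P.support, monomial z.1 (a (Sum.inl z) j)
    have hR : R.IsHomogeneous n := by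
      refine IsHomogeneous.sum _ _ _ fun z _ => ?_
      refine isHomogeneous_monomial _ ?_
      exact Groth.Agent.CalgB.QuasiRegular.degree_of_isHomogeneous hP (mem_support_iff.1 z.2)
    have hRe : eval f R ∈ Ideal.span (Set.range f) ^ (n + 1) := by
      have h1 : eval f R = ∑ z : P.support, g (Sum.inl z) * a (Sum.inl z) j := by
        rw [map_sum]
        refine Finset.sum_congr rfl fun z _ => ?_
        rw [eval_monomial, mul_comm]
        simp only [g, Sum.elim_inl]
        rw [Finsupp.prod_fintype _ _ (by simp)]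
      have h2 := ha j
      rw [Fintype.sum_sum_type] at h2
      rw [h1, eq_neg_of_add_eq_zero_left h2]
      refine neg_mem (sum_mem fun z _ => Ideal.mul_mem_right _ _ ?_)
      simp only [g, Sum.elim_inr]
      exact Ideal.pow_le_pow_right (hQ z.1 z.2) (prod_mem_pow f z.1)
    have h3 := hf n R hR hRe x.1
    have h4 : R.coeff x.1 = a (Sum.inl x) j := by
      rw [coeff_sum, Finset.sum_eq_single x]
      · simp
      · intro z _ hz
        rw [coeff_monomial, if_neg (fun h => hz (Subtype.ext h))]
      · simp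
    rwa [h4] at h3
  have h5 := hy (Sum.inl ⟨d, mem_support_iff.2 hd⟩)
  simp only [b, Sum.elim_inl] at h5
  rw [h5, span_map]
  refine sum_mem fun j _ => ?_
  rw [Algebra.smul_def]
  exact Ideal.mul_mem_right _ _ (Ideal.mem_map_of_mem _ (key _ j))

end K559.QuasiFlat
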