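import Groth.Agent.RegImm.K559.GenDesc
import Groth.Agent.RegImm.K559.QuasiFlat
import Groth.Agent.RegImm.K559.KoszulDesc

/-!
# The kinds `H_1`-regular and quasi-regular satisfy the formal properties for descent
-/

set_option autoImplicit false
universe u

open K559.Gen K559.GenDesc K559.H1Flat K559.QuasiFlat
open CategoryTheory CategoryTheory.Limits AlgebraicGeometry

namespace K559.KindsDesc

lemma h1_congr {A : Type u} [CommRing A] {c d : ℕ} (h : c = d) (f : Fin c → A) (g : Fin d → A)
    (hfg : ∀ i, g (Fin.cast h i) = f i) : CAlgX.IsH1Regular f ↔ CAlgX.IsH1Regular g := by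
  subst h
  have : f = g := funext fun i => (hfg i).symm
  rw [this]

lemma q_congr {A : Type u} [CommRing A] {c d : ℕ} (h : c = d) (f : Fin c → A) (g : Fin d → A)
    (hfg : ∀ i, g (Fin.cast h i) = f i) : CAlgX.IsQuasiRegular f ↔ CAlgX.IsQuasiRegular g := by
  subst h
  have : f = g := funext fun i => (hfg i).symm
  rw [this]

lemma h1_map {A B : Type u} [CommRing A] [CommRing B] (φ : A →+* B) (l : List A) :
    CAlgX.IsH1Regular (l.map φ).get ↔ CAlgX.IsH1Regular (fun i => φ (l.get i)) :=
  (h1_congr (by simp) _ _ (fun i => by simp)).symm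

lemma q_map {A B : Type u} [CommRing A] [CommRing B] (φ : A →+* B) (l : List A) :
    CAlgX.IsQuasiRegular (l.map φ).get ↔ CAlgX.IsQuasiRegular (fun i => φ (l.get i)) :=
  (q_congr (by simp) _ _ (fun i => by simp)).symm

lemma ofList_eq {A : Type u} [CommRing A] (l : List A) :
    Ideal.ofList l = Ideal.span (Set.range l.get) := by
  rw [Ideal.ofList]
  congr 1
  ext y
  simp [List.mem_iff_get]

theorem good_h1 : Good.{u} (fun _ _ l => CAlgX.IsH1Regular l.get) where
  flat A B _ _ φ hφ l hl := by
    algebraize [φ]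
    rw [h1_map]
    exact isH1Regular_of_flat (B := B) hl
  coeff A _ l hl c hc i := by
    rw [ofList_eq]
    exact coeff_mem_of_mem_triv (hl c hc) i
  desc A B _ _ _ _ l hl := by
    rw [h1_map] at hl
    exact isH1Regular_of_faithfullyFlat hl
  loc A _ l hl := isH1Regular_of_localization fun p _ hp => by
    have := hl p (by rwa [ofList_eq])
    rwa [h1_map] at this
  exch A _ _ l l' hl h hm hlen := by
    rw [ofList_eq, ofList_eq] at h
    rw [ofList_eq] at hm
    have h1 : CAlgX.IsH1Regular (fun i : Fin l.length => l'.get (Fin.cast hlen.symm i)) := by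
      refine isH1Regular_of_span_eq hl ?_ hm
      rw [← h]
      congr 1
      ext x
      constructor
      · rintro ⟨i, rfl⟩
        exact ⟨_, rfl⟩
      · rintro ⟨i, rfl⟩
        exact ⟨Fin.cast hlen i, rfl⟩
    exact (h1_congr hlen.symm _ _ (fun i => rfl)).1 h1

theorem good_q : Good.{u} (fun _ _ l => CAlgX.IsQuasiRegular l.get) where
  flat A B _ _ φ hφ l hl := by
    algebraize [φ]
    rw [q_map]
    exact isQuasiRegular_of_flat (B := B) hl
  coeff A _ l hl c hc i := by
    rw [ofList_eq]
    exact Groth.Agent.Ega4late.H521.QRegSpan.mem_of_sum_mem hl c (by rw [hc]; exact zero_mem _) i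
  desc A B _ _ _ _ l hl := by
    rw [q_map] at hl
    exact isQuasiRegular_of_faithfullyFlat hl
  loc A _ l hl := isQuasiRegular_of_localization fun p _ hp => by
    have := hl p (by rwa [ofList_eq])
    rwa [q_map] at this
  exch A _ _ l l' hl h hm hlen := by
    rw [ofList_eq, ofList_eq] at h
    have h1 : CAlgX.IsQuasiRegular (fun i : Fin l.length => l'.get (Fin.cast hlen.symm i)) := by
      refine Groth.Agent.Ega4late.H521.QRegSpan.isQuasiRegular_of_span_eq _ _ hl ?_
      rw [← h]
      congr 1
      ext x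
      constructor
      · rintro ⟨i, rfl⟩
        exact ⟨_, rfl⟩
      · rintro ⟨i, rfl⟩
        exact ⟨Fin.cast hlen i, rfl⟩
    exact (q_congr hlen.symm _ _ (fun i => rfl)).1 h1

/-- Descent of regular immersions of the kinds Koszul, `H_1`, quasi. -/
theorem descent {X Y X' Y' : Scheme.{u}} (k : RegImm.Kind) (hk : k ≠ .regular)
    (i : Y ⟶ X) [IsImmersion i] (g : X' ⟶ X) [Flat g] [Surjective g] [QuasiCompact g]
    (i' : Y' ⟶ X') (g' : Y' ⟶ Y) (hsq : IsPullback g' i' i g)
    (h : RegImm.IsRegularImmersion k i') : RegImm.IsRegularImmersion k i := by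
  cases k with
  | regular => exact absurd rfl hk
  | koszul => exact KoszulDesc.descent i g i' g' hsq h
  | h1 =>
    exact ⟨inferInstance, Gen.descent good_h1.flat (fun _ _ _ _ _ _ _ h => GenDesc.descent good_h1 h)
      hsq h.2⟩
  | quasi =>
    exact ⟨inferInstance, Gen.descent good_q.flat (fun _ _ _ _ _ _ _ h => GenDesc.descent good_q h)
      hsq h.2⟩

end K559.KindsDesc
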