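import Groth.Agent.RegImm.K559.StIdeal

/-!
# The sequence of conormal sheaves of a composition of immersions
-/

set_option autoImplicit false
universe u

open CategoryTheory CategoryTheory.Limits AlgebraicGeometry Opposite TopologicalSpace
open Groth.Agent.Sga67.KosStalk Groth.Agent.Sga67.KosImm Groth.Agent.Sga67.KosConormal
open K559.ConSt K559.Koszul K559.StIdeal
open Groth.Agent.CycB.StalkExact (stalkLin)

namespace K559.ConSeq

variable {X Y Z : Scheme.{u}}

/-- Two versions of the map on stalks. -/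
lemma stalkLin_eq_stM {M N : X.Modules} (f : M ⟶ N) (x : X) (t : StM M x) :
    stalkLin f x t = stM f x t := by
  obtain ⟨V, -, hV, m, rfl⟩ := exists_gm _ (U := ⊤) (Opens.mem_top x) t
  exact (Groth.Agent.CycB.StalkExact.stalkLin_germ f x hV m).trans (stM_gm f hV m).symm

lemma stM_comp {M N K : X.Modules} (f : M ⟶ N) (g : N ⟶ K) (x : X) (t : StM M x) :
    stM (f ≫ g) x t = stM g x (stM f x t) := by
  obtain ⟨V, -, hV, m, rfl⟩ := exists_gm _ (U := ⊤) (Opens.mem_top x) t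
  rw [stM_gm, stM_gm, stM_gm, ap_comp]

variable {i : Y ⟶ X} {j : Z ⟶ Y}
  [IsPreimmersion i] [IsPreimmersion j] [QuasiCompact i] [QuasiCompact j]
  {φ₁ : (Scheme.Modules.pullback j).obj (Omega.conormal i) ⟶ Omega.conormal (j ≫ i)}
  (hφ₁ : OmegaSh.IsConormalMap (j ≫ i) i (𝟙 X) j φ₁)
  {φ₂ : (Scheme.Modules.pullback (𝟙 Z)).obj (Omega.conormal (j ≫ i)) ⟶ Omega.conormal j}
  (hφ₂ : OmegaSh.IsConormalMap j (j ≫ i) i (𝟙 Z) φ₂)

include hφ₁ in
/-- The first map on classes. -/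
theorem stM_φ₁ (z : Z) (e : StM (ClSub.idealMod i.ker) (i (j z)))
    (e' : StM (ClSub.idealMod (j ≫ i).ker) ((j ≫ i) z))
    (h : vx (j ≫ i).ker ((j ≫ i) z) e' = vx i.ker (i (j z)) e) :
    stM φ₁ z (cn j (Omega.conormal i) z (cl i (j z) e)) =
      cl (j ≫ i) z e' := by
  obtain ⟨U, -, hU, s', rfl⟩ := exists_gm _ (U := ⊤) (Opens.mem_top (i (j z))) e
  have h1 : (j ≫ i).app U (vl i.ker s') = 0 := by
    have h2 : i.app U (vl i.ker s') = 0 := (app_eq_zero_iff i U _).2 ⟨s', rfl⟩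
    have h3 : (j ≫ i).app U (vl i.ker s') = j.app (i ⁻¹ᵁ U) (i.app U (vl i.ker s')) :=
      congr($(Scheme.Hom.comp_app j i U) (vl i.ker s'))
    exact h3.trans ((congrArg _ h2).trans (map_zero _))
  obtain ⟨s, hs⟩ := (app_eq_zero_iff (j ≫ i) U _).1 h1
  have h2 : e' = gm _ (show (j ≫ i) z ∈ U from hU) s := by
    apply vx_injective
    rw [h, vx_gm, vx_gm, hs]
    rfl
  rw [h2]
  exact stM_conormalMap' hφ₁ z U hU hU s' s hs

include hφ₂ in
/-- The second map on classes. -/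
theorem stM_φ₂ (z : Z) (e : StM (ClSub.idealMod (j ≫ i).ker) ((j ≫ i) z))
    (e' : StM (ClSub.idealMod j.ker) (j z))
    (h : vx j.ker (j z) e' = i.stalkMap (j z) (vx (j ≫ i).ker ((j ≫ i) z) e)) :
    stM ((Scheme.Modules.pullbackId Z).inv.app (Omega.conormal (j ≫ i)) ≫ φ₂) z
      (cl (j ≫ i) z e) = cl j z e' := by
  obtain ⟨U, -, hU, s', rfl⟩ := exists_gm _ (U := ⊤) (Opens.mem_top ((j ≫ i) z)) e
  have h1 : j.app (i ⁻¹ᵁ U) (i.app U (vl (j ≫ i).ker s')) = 0 := by
    have h2 : (j ≫ i).app U (vl (j ≫ i).ker s') = 0 := (app_eq_zero_iff (j ≫ i) U _).2 ⟨s', rfl⟩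
    have h3 : (j ≫ i).app U (vl (j ≫ i).ker s') =
        j.app (i ⁻¹ᵁ U) (i.app U (vl (j ≫ i).ker s')) :=
      congr($(Scheme.Hom.comp_app j i U) (vl (j ≫ i).ker s'))
    exact h3.symm.trans h2
  obtain ⟨s, hs⟩ := (app_eq_zero_iff j (i ⁻¹ᵁ U) _).1 h1
  have h2 : e' = gm _ (show j z ∈ i ⁻¹ᵁ U from hU) s := by
    apply vx_injective
    rw [h, vx_gm, vx_gm, hs]
    exact stalkMap_gO i (j z) hU _
  rw [h2, stM_comp, stM_pullbackId_inv]
  exact stM_conormalMap' hφ₂ z U hU hU s' s hs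

include hφ₁ hφ₂ in
theorem comp_apply_zero (z : Z) (t : StM ((Scheme.Modules.pullback j).obj (Omega.conormal i)) z) :
    stM ((Scheme.Modules.pullbackId Z).inv.app (Omega.conormal (j ≫ i)) ≫ φ₂) z (stM φ₁ z t) = 0 := by
  obtain ⟨t, rfl⟩ := ConSt.cn_surjective j _ z t
  obtain ⟨e, rfl⟩ := ConSt.cl_surjective i (j z) t
  have h1 : i.stalkMap (j z) (vx i.ker (i (j z)) e) = 0 := stalkMap_vx i (j z) e
  obtain ⟨e', he'⟩ := exists_vx_eq (j ≫ i) z (vx i.ker (i (j z)) e) (by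
    exact (stalkMap_comp_apply i j z _).trans ((congrArg (j.stalkMap z) h1).trans (map_zero _)))
  rw [stM_φ₁ hφ₁ z e e' he', stM_φ₂ hφ₂ z e' 0 (by
    rw [map_zero, he']; exact h1.symm), map_zero]

include hφ₁ hφ₂ in
theorem comp_zero : φ₁ ≫ ((Scheme.Modules.pullbackId Z).inv.app (Omega.conormal (j ≫ i)) ≫ φ₂) =
    0 := by
  refine Groth.Agent.Dcoh.StalkMod.hom_ext_stalk _ _ fun z => ?_
  ext t
  rw [stalkLin_eq_stM, stM_comp, comp_apply_zero hφ₁ hφ₂ z t,
    Groth.Agent.Dcoh.StalkMod.stalkLin_zero]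
  rfl

include hφ₂ in
/-- The second map is surjective. -/
theorem surjective_φ₂ (z : Z) : Function.Surjective
    (stM ((Scheme.Modules.pullbackId Z).inv.app (Omega.conormal (j ≫ i)) ≫ φ₂) z) := by
  intro t
  obtain ⟨e, rfl⟩ := ConSt.cl_surjective j z t
  obtain ⟨r, hr⟩ := i.stalkMap_surjective (j z) (vx j.ker (j z) e)
  obtain ⟨e', he'⟩ := exists_vx_eq (j ≫ i) z r (by
    refine (stalkMap_comp_apply i j z r).trans ?_
    rw [hr, stalkMap_vx])
  exact ⟨_, stM_φ₂ hφ₂ z e' e (by rw [he']; exact hr.symm)⟩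

include hφ₁ hφ₂ in
/-- Exactness in the middle. -/
theorem exact_middle (z : Z) (t : StM (Omega.conormal (j ≫ i)) z)
    (ht : stM ((Scheme.Modules.pullbackId Z).inv.app (Omega.conormal (j ≫ i)) ≫ φ₂) z t = 0) :
    ∃ s, stM φ₁ z s = t := by
  obtain ⟨e, rfl⟩ := ConSt.cl_surjective (j ≫ i) z t
  have h0 : (vx (j ≫ i).ker ((j ≫ i) z) e : X.presheaf.stalk (i (j z))) ∈ krc i j z := by
    rw [← kr_comp]
    exact stalkMap_vx (j ≫ i) z e
  set v : X.presheaf.stalk (i (j z)) := vx (j ≫ i).ker ((j ≫ i) z) e with hv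
  obtain ⟨e', he'⟩ := exists_vx_eq j z (i.stalkMap (j z) v) h0
  rw [stM_φ₂ hφ₂ z e e' he'] at ht
  replace ht := (cl_eq_zero_iff j z e').1 ht
  rw [he'] at ht
  -- the image lies in `kr j ^ 2`, so modify by an element of the ideal of `Y`
  have h1 : kr j z * kr j z = (krc i j z * krc i j z).map (i.stalkMap (j z)).hom := by
    rw [Ideal.map_mul, krc, Ideal.map_comap_of_surjective _ (i.stalkMap_surjective (j z))]
  rw [h1] at ht
  obtain ⟨q, hq, hqt⟩ := (Ideal.mem_map_iff_of_surjective _ (i.stalkMap_surjective (j z))).1 ht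
  have h2 : i.stalkMap (j z) (v - q) = 0 := by
    rw [map_sub, sub_eq_zero]
    exact hqt.symm
  obtain ⟨f, hf⟩ := exists_vx_eq i (j z) _ h2
  obtain ⟨f', hf'⟩ := exists_vx_eq (j ≫ i) z (vx i.ker (i (j z)) f) (by
    refine (stalkMap_comp_apply i j z _).trans ?_
    rw [stalkMap_vx, map_zero])
  refine ⟨cn j (Omega.conormal i) z (cl i (j z) f), ?_⟩
  rw [stM_φ₁ hφ₁ z f f' hf', ← sub_eq_zero, ← map_sub, cl_eq_zero_iff]
  have h3 : vx (j ≫ i).ker ((j ≫ i) z) (f' - e) = - q := by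
    rw [map_sub, hf', hf]
    exact sub_sub_cancel_left _ _
  rw [h3, kr_comp]
  exact neg_mem hq

include hφ₁ in
/-- Injectivity of the first map. -/
theorem injective_φ₁ {p : ℕ → Prop} (z : Z) (hz : KAt p j (j z)) :
    Function.Injective (stM φ₁ z) := by
  rw [injective_iff_map_eq_zero]
  intro t ht
  obtain ⟨t, rfl⟩ := ConSt.cn_surjective j _ z t
  obtain ⟨e, rfl⟩ := ConSt.cl_surjective i (j z) t
  obtain ⟨e', he'⟩ := exists_vx_eq (j ≫ i) z (vx i.ker (i (j z)) e) (by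
    refine (stalkMap_comp_apply i j z _).trans ?_
    rw [stalkMap_vx, map_zero])
  rw [stM_φ₁ hφ₁ z e e' he'] at ht
  replace ht := (cl_eq_zero_iff (j ≫ i) z e').1 ht
  rw [he'] at ht
  have h1 : vx i.ker (i (j z)) e ∈ kr i (j z) * krc i j z := by
    refine inf_le_mul hz ⟨stalkMap_vx i (j z) e, ?_⟩
    rw [kr_comp] at ht
    exact ht
  -- elements of `kr i * krc` give zero
  have key : ∀ t ∈ kr i (j z) * krc i j z, ∀ e : StM (ClSub.idealMod i.ker) (i (j z)),
      vx i.ker (i (j z)) e = t →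
        cn j (Omega.conormal i) z (cl i (j z) e) = 0 := by
    intro t ht
    induction ht using Submodule.mul_induction_on' with
    | mem_mul_mem a ha b hb =>
      intro e he
      obtain ⟨e', he'⟩ := exists_vx_eq i (j z) a ha
      have : e = b • e' := by
        apply vx_injective
        rw [map_smul, he', he, smul_eq_mul, mul_comm]
      rw [this, cl_smul, cn_smul, show j.stalkMap z (i.stalkMap (j z) b) = 0 from hb, zero_smul]
    | add a ha b hb iha ihb =>
      intro e he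
      obtain ⟨e1, he1⟩ := exists_vx_eq i (j z) a (Ideal.mul_le_left ha)
      obtain ⟨e2, he2⟩ := exists_vx_eq i (j z) b (Ideal.mul_le_left hb)
      have : e = e1 + e2 := by
        apply vx_injective
        rw [map_add, he, he1, he2]
      rw [this, map_add, map_add, iha e1 he1, ihb e2 he2, add_zero]
  exact key _ h1 e rfl

include hφ₁ hφ₂ in
/-- The conormal sequence of a composition is right exact (for quasi-compact immersions). -/
theorem exact_epi : (ShortComplex.mk φ₁ ((Scheme.Modules.pullbackId Z).inv.app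
      (Omega.conormal (j ≫ i)) ≫ φ₂) (comp_zero hφ₁ hφ₂)).Exact ∧
    Epi ((Scheme.Modules.pullbackId Z).inv.app (Omega.conormal (j ≫ i)) ≫ φ₂) := by
  constructor
  · refine Groth.Agent.Dcoh.StalkMod.exact_of_stalks _ fun z t => ⟨fun h => ?_, ?_⟩
    · obtain ⟨s, hs⟩ := exact_middle hφ₁ hφ₂ z t ((stalkLin_eq_stM _ z t).symm.trans h)
      exact ⟨s, (stalkLin_eq_stM _ z s).trans hs⟩
    · rintro ⟨s, rfl⟩
      refine (stalkLin_eq_stM _ z _).trans ?_
      refine (congrArg _ (stalkLin_eq_stM _ z s)).trans ?_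
      exact comp_apply_zero hφ₁ hφ₂ z s
  · refine Groth.Agent.Dcoh.StalkMod.epi_of_surjective _ fun z t => ?_
    obtain ⟨s, hs⟩ := surjective_φ₂ hφ₂ z t
    exact ⟨s, (stalkLin_eq_stM _ z s).trans hs⟩

include hφ₁ hφ₂ in
/-- The conormal sequence of a composition is exact when the first immersion is Koszul-regular. -/
theorem shortExact (hj : RegImm.IsRegularImmersion .koszul j) :
    (ShortComplex.mk φ₁ ((Scheme.Modules.pullbackId Z).inv.app
      (Omega.conormal (j ≫ i)) ≫ φ₂) (comp_zero hφ₁ hφ₂)).ShortExact := by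
  obtain ⟨h1, h2⟩ := exact_epi hφ₁ hφ₂
  have h3 : Mono φ₁ := by
    refine Groth.Agent.Dcoh.StalkMod.mono_of_injective _ fun z s t hst => ?_
    refine injective_φ₁ hφ₁ z (((isRegularImmersion_iff j).1 hj).2 z) ?_
    exact (stalkLin_eq_stM _ z s).symm.trans (hst.trans (stalkLin_eq_stM _ z t))
  exact { exact := h1, mono_f := h3, epi_g := h2 }

end K559.ConSeq
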