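import Groth.Prelude.Def_RegImm
import Mathlib.AlgebraicGeometry.Morphisms.Immersion
import Mathlib.AlgebraicGeometry.Morphisms.Flat
import Mathlib.AlgebraicGeometry.Morphisms.ClosedImmersion

/-!
# Immersions over affine opens: kernels and base change

For a morphism `i : Y ⟶ X` and an affine open `U` of `X` over which `i` is a closed immersion, the kernel
of `Γ(X, U) → Γ(Y, i⁻¹U)` is compatible with base change.
-/

set_option autoImplicit false
universe u

open CategoryTheory CategoryTheory.Limits AlgebraicGeometry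

namespace K559.Basic

/-- In a pushout square of rings with surjective first map, the parallel map is surjective and its
kernel is the extension of the kernel. -/
lemma surjective_of_isPushout {A B C P : CommRingCat.{u}} {f : A ⟶ B} {g : A ⟶ C} {inl : B ⟶ P}
    {inr : C ⟶ P} (h : IsPushout f g inl inr) (hf : Function.Surjective f.hom) :
    Function.Surjective inr.hom ∧ RingHom.ker inr.hom = (RingHom.ker f.hom).map g.hom := by
  let J := (RingHom.ker f.hom).map g.hom
  let Q := CommRingCat.of (C ⧸ J)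
  let q : C ⟶ Q := CommRingCat.ofHom (Ideal.Quotient.mk J)
  let b : B →+* C ⧸ J := RingHom.liftOfSurjective f.hom hf ⟨(Ideal.Quotient.mk J).comp g.hom, by
    intro x hx
    rw [RingHom.mem_ker, RingHom.comp_apply, Ideal.Quotient.eq_zero_iff_mem]
    exact Ideal.mem_map_of_mem _ hx⟩
  have hb : b.comp f.hom = (Ideal.Quotient.mk J).comp g.hom :=
    RingHom.liftOfSurjective_comp f.hom hf ⟨(Ideal.Quotient.mk J).comp g.hom, _⟩
  have hw : f ≫ CommRingCat.ofHom b = g ≫ q := by
    ext x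
    exact DFunLike.congr_fun hb x
  let d : P ⟶ Q := h.desc (CommRingCat.ofHom b) q hw
  have hd : inr ≫ d = q := h.inr_desc _ _ _
  have hker : RingHom.ker inr.hom = J := by
    apply le_antisymm
    · intro x hx
      have h1 := congr($hd x)
      rw [CommRingCat.comp_apply] at h1
      have h2 : inr.hom x = 0 := hx
      have h3 : Ideal.Quotient.mk J x = 0 := by
        refine h1.symm.trans ?_
        change d.hom (inr.hom x) = 0
        rw [h2, map_zero]
      exact Ideal.Quotient.eq_zero_iff_mem.1 h3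
    · refine Ideal.map_le_iff_le_comap.2 fun x hx => ?_
      rw [Ideal.mem_comap, RingHom.mem_ker]
      have h1 := congr($h.w x)
      rw [CommRingCat.comp_apply, CommRingCat.comp_apply] at h1
      refine h1.symm.trans ?_
      change inl.hom (f.hom x) = 0
      rw [show f.hom x = 0 from hx, map_zero]
  refine ⟨?_, hker⟩
  -- surjectivity: the range of `inr` contains the range of `inl`
  let R := CommRingCat.of inr.hom.range
  let r : C ⟶ R := CommRingCat.ofHom inr.hom.rangeRestrict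
  have hk : ∀ x : A, f.hom x = 0 → inr.hom.rangeRestrict (g.hom x) = 0 := by
    intro x hx
    ext
    have h1 := congr($h.w x)
    rw [CommRingCat.comp_apply, CommRingCat.comp_apply] at h1
    refine h1.symm.trans ?_
    change inl.hom (f.hom x) = 0
    rw [hx, map_zero]
  let c : B →+* inr.hom.range := RingHom.liftOfSurjective f.hom hf
    ⟨inr.hom.rangeRestrict.comp g.hom, hk⟩
  have hc : c.comp f.hom = inr.hom.rangeRestrict.comp g.hom :=
    RingHom.liftOfSurjective_comp f.hom hf ⟨inr.hom.rangeRestrict.comp g.hom, _⟩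
  have hw' : f ≫ CommRingCat.ofHom c = g ≫ r := by
    ext x
    exact congrArg Subtype.val (DFunLike.congr_fun hc x)
  let s : P ⟶ R := h.desc (CommRingCat.ofHom c) r hw'
  let ι : R ⟶ P := CommRingCat.ofHom inr.hom.range.subtype
  have hs : s ≫ ι = 𝟙 P := by
    apply h.hom_ext
    · rw [← Category.assoc, h.inl_desc, Category.comp_id]
      ext y
      obtain ⟨x, rfl⟩ := hf y
      have h1 := congrArg Subtype.val (DFunLike.congr_fun hc x)
      refine h1.trans ?_
      have h2 := congr($h.w x)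
      rw [CommRingCat.comp_apply, CommRingCat.comp_apply] at h2
      exact h2.symm
    · rw [← Category.assoc, h.inr_desc, Category.comp_id]
      rfl
  intro y
  obtain ⟨z, hz⟩ := (s.hom y).2
  refine ⟨z, hz.trans ?_⟩
  exact congr($hs y)

variable {X Y X' Y' : Scheme.{u}} {i : Y ⟶ X} {g : X' ⟶ X} {i' : Y' ⟶ X'} {g' : Y' ⟶ Y}

/-- Over an open `V` mapping into `U`, the base change of `i` is the base change of `i ∣_ U`. -/
lemma isPullback_restrict (hsq : IsPullback g' i' i g) {U : X.Opens} {V : X'.Opens}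
    (e : V ≤ g ⁻¹ᵁ U) : ∃ k, IsPullback k (i' ∣_ V) (i ∣_ U) (g.resLE U V e) := by
  have h1 : IsPullback ((i' ⁻¹ᵁ V).ι ≫ g') (i' ∣_ V) i (V.ι ≫ g) :=
    (isPullback_morphismRestrict i' V).flip.paste_horiz hsq
  have h2 : IsPullback (i ⁻¹ᵁ U).ι (i ∣_ U) i U.ι := (isPullback_morphismRestrict i U).flip
  rw [← Scheme.Hom.resLE_comp_ι g e] at h1
  let k := h2.lift ((i' ⁻¹ᵁ V).ι ≫ g') (i' ∣_ V ≫ g.resLE U V e) (by rw [h1.w, Category.assoc])
  have hk1 : k ≫ (i ⁻¹ᵁ U).ι = (i' ⁻¹ᵁ V).ι ≫ g' := h2.lift_fst _ _ _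
  have hk2 : k ≫ i ∣_ U = i' ∣_ V ≫ g.resLE U V e := h2.lift_snd _ _ _
  rw [← hk1] at h1
  exact ⟨k, IsPullback.of_right h1 hk2 h2⟩

lemma isClosedImmersion_restrict (hsq : IsPullback g' i' i g) {U : X.Opens} {V : X'.Opens}
    (e : V ≤ g ⁻¹ᵁ U) (hU : IsClosedImmersion (i ∣_ U)) : IsClosedImmersion (i' ∣_ V) := by
  obtain ⟨k, hk⟩ := isPullback_restrict hsq e
  exact MorphismProperty.of_isPullback hk hU

lemma isAffineOpen_preimage {U : X.Opens} (hU : IsAffineOpen U) (hi : IsClosedImmersion (i ∣_ U)) :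
    IsAffineOpen (i ⁻¹ᵁ U) := by
  have : IsAffine (U : Scheme) := hU
  exact isAffine_of_isAffineHom (i ∣_ U)

lemma app_surjective {U : X.Opens} (hU : IsAffineOpen U) (hi : IsClosedImmersion (i ∣_ U)) :
    Function.Surjective (i.app U).hom := by
  have : IsAffine (U : Scheme) := hU
  have h1 : Function.Surjective ((i ∣_ U).app ⊤).hom :=
    (i ∣_ U).app_surjective ⊤ (isAffineOpen_top _)
  rw [morphismRestrict_app'] at h1
  intro y
  have hU2 : U.ι ''ᵁ ⊤ = U := by simp
  have hV2 : (i ⁻¹ᵁ U).ι ''ᵁ ((i ∣_ U) ⁻¹ᵁ ⊤) = i ⁻¹ᵁ U := by simp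
  obtain ⟨x, hx⟩ : ∃ x : Γ(X, U.ι ''ᵁ ⊤),
      (i.appLE (U.ι ''ᵁ ⊤) ((i ⁻¹ᵁ U).ι ''ᵁ ((i ∣_ U) ⁻¹ᵁ ⊤)) (by rw [hU2, hV2])).hom x =
        (Y.presheaf.map (eqToHom hV2).op).hom y :=
    h1 ((Y.presheaf.map (eqToHom hV2).op).hom y)
  refine ⟨(X.presheaf.map (eqToHom hU2.symm).op).hom x, ?_⟩
  have h3 : X.presheaf.map (eqToHom hU2.symm).op ≫ i.app U =
    i.appLE (U.ι ''ᵁ ⊤) ((i ⁻¹ᵁ U).ι ''ᵁ ((i ∣_ U) ⁻¹ᵁ ⊤)) (by rw [hU2, hV2]) ≫
      Y.presheaf.map (eqToHom hV2.symm).op := by
    rw [Scheme.Hom.appLE_map, Scheme.Hom.app_eq_appLE, Scheme.Hom.map_appLE]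
  have h4 := congr($h3 x)
  rw [CommRingCat.comp_apply, CommRingCat.comp_apply] at h4
  refine h4.trans ?_
  have h5 := congrArg (Y.presheaf.map (eqToHom hV2.symm).op).hom hx
  refine h5.trans ?_
  have h6 : Y.presheaf.map (eqToHom hV2).op ≫ Y.presheaf.map (eqToHom hV2.symm).op = 𝟙 _ := by
    rw [← Functor.map_comp, ← op_comp, eqToHom_trans, eqToHom_refl, op_id, CategoryTheory.Functor.map_id]
  exact congr($h6 y)

/-- **Base change of the kernel.** -/
theorem ker_app_of_isPullback (hsq : IsPullback g' i' i g) {U : X.Opens} {V : X'.Opens}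
    (hU : IsAffineOpen U) (hV : IsAffineOpen V) (e : V ≤ g ⁻¹ᵁ U)
    (hi : IsClosedImmersion (i ∣_ U)) :
    RingHom.ker (i'.app V).hom = (RingHom.ker (i.app U).hom).map (g.appLE U V e).hom := by
  have hUY : i' ⁻¹ᵁ V = g' ⁻¹ᵁ (i ⁻¹ᵁ U) ⊓ i' ⁻¹ᵁ V := by
    refine (inf_eq_right.2 ?_).symm
    rw [← Scheme.Hom.comp_preimage, hsq.w, Scheme.Hom.comp_preimage]
    exact i'.preimage_mono e
  have h1 := (isIso_pushoutSection_iff hsq e (le_refl (i ⁻¹ᵁ U)) hUY).1
    (isIso_pushoutSection_of_isAffineOpen hsq e le_rfl hUY hU hV (isAffineOpen_preimage hU hi))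
  have h2 : i.appLE U (i ⁻¹ᵁ U) le_rfl = i.app U := Scheme.Hom.appLE_eq_app _
  have h3 : i'.appLE V (i' ⁻¹ᵁ V) le_rfl = i'.app V := Scheme.Hom.appLE_eq_app _
  rw [← h2, ← h3]
  refine (surjective_of_isPushout h1 ?_).2
  rw [h2]
  exact app_surjective hU hi

/-- Restriction to a smaller open. -/
lemma isClosedImmersion_restrict_of_le {U V : X.Opens} (e : V ≤ U)
    (hi : IsClosedImmersion (i ∣_ U)) : IsClosedImmersion (i ∣_ V) :=
  isClosedImmersion_restrict (IsPullback.of_id_fst (f := i)) (i := i) (g := 𝟙 X) (g' := 𝟙 Y)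
    (by simpa using e) hi

lemma ker_app_of_le {U V : X.Opens} (hU : IsAffineOpen U) (hV : IsAffineOpen V) (e : V ≤ U)
    (hi : IsClosedImmersion (i ∣_ U)) :
    RingHom.ker (i.app V).hom =
      (RingHom.ker (i.app U).hom).map (X.presheaf.map (homOfLE e).op).hom := by
  have h := ker_app_of_isPullback (IsPullback.of_id_fst (f := i)) (i := i) (g := 𝟙 X) (g' := 𝟙 Y)
    hU hV (by simpa using e) hi
  rw [h]
  congr 2

/-- restriction from an affine open to a smaller affine open is flat -/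
lemma flat_res {U V : X.Opens} (hU : IsAffineOpen U) (hV : IsAffineOpen V) (h : V ≤ U) :
    (X.presheaf.map (homOfLE h).op).hom.Flat := by
  have := Scheme.Hom.flat_appLE (𝟙 X) hU hV (by simpa using h)
  have h2 : (𝟙 X : X ⟶ X).appLE U V (by simpa using h) = X.presheaf.map (homOfLE h).op := by
    rw [Scheme.Hom.appLE, Scheme.Hom.id_app]
    exact Category.id_comp _
  rwa [h2] at this

/-- An immersion is a closed immersion over every open contained in `coborderRange`. -/
lemma isClosedImmersion_of_le_coborderRange [IsImmersion i] {U : X.Opens}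
    (hU : U ≤ i.coborderRange) : IsClosedImmersion (i ∣_ U) := by
  have h1 : IsPullback (𝟙 Y) i.liftCoborder i i.coborderRange.ι :=
    IsPullback.of_horiz_isIso_mono ⟨by simp⟩
  have h2 := (isPullback_morphismRestrict i i.coborderRange).flip
  refine isClosedImmersion_restrict_of_le hU ?_
  let k := h1.lift (i ⁻¹ᵁ i.coborderRange).ι (i ∣_ i.coborderRange) h2.w
  have hk1 : k ≫ 𝟙 Y = (i ⁻¹ᵁ i.coborderRange).ι := h1.lift_fst _ _ _
  have hk2 : k ≫ i.liftCoborder = i ∣_ i.coborderRange := h1.lift_snd _ _ _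
  have h3 : IsPullback k (i ∣_ i.coborderRange) i.liftCoborder (𝟙 _) := by
    refine IsPullback.of_right (h₁₂ := 𝟙 Y) (h₂₂ := i.coborderRange.ι) (v₁₃ := i) ?_ ?_ h1
    · rwa [hk1, Category.id_comp]
    · rw [hk2, Category.comp_id]
  exact MorphismProperty.of_isPullback h3 inferInstance

lemma mem_coborderRange [IsImmersion i] (y : Y) : i y ∈ i.coborderRange :=
  subset_coborder ⟨y, rfl⟩

/-- Around a point of an immersion there is an affine open over which it is a closed immersion. -/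
lemma exists_affine [IsImmersion i] (y : Y) (W : X.Opens) (hW : i y ∈ W) :
    ∃ U : X.affineOpens, i y ∈ U.1 ∧ U.1 ≤ W ∧ IsClosedImmersion (i ∣_ U.1) := by
  obtain ⟨V, hV, hyV, hVW⟩ := exists_isAffineOpen_mem_and_subset (U := W ⊓ i.coborderRange)
    (x := i y) ⟨hW, mem_coborderRange y⟩
  exact ⟨⟨V, hV⟩, hyV, fun x hx => (hVW hx).1,
    isClosedImmersion_of_le_coborderRange fun x hx => (hVW hx).2⟩

end K559.Basic
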