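import Mathlib.Data.Fin.Parity
import Mathlib.RingTheory.MvPolynomial.Homogeneous
import Mathlib.RingTheory.Ideal.Quotient.Operations
import Mathlib.Algebra.Polynomial.Eval.Coeff

/-!
# The twisted Čech complexes of a blow-up, in terms of numerators

For a family `f : ι → A` with `J = (f_i)`, the sections of `J^n O_{X'}` over the intersection of the standard charts
`σ : Fin q → ι` of the blow-up are the fractions `u / f_σ ^ k`, `u ∈ J ^ (k q + n)`.  `Ex f n` says that the augmented
Čech complex of `J^n O_{X'}` is exact, in terms of numerators.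

* `Ex.of_retract`;
* `exists_colim`: a cocycle multiplied by a large power of `G ∈ J` is a coboundary;
* `Ex.descend`: if `G ∈ J` is a nonzerodivisor, `G x ∈ J^(m+1) → x ∈ J^m` and `Ex` holds in `A / G` for all `n ≥ 1` then it
  holds for all `n ≥ 0`.
-/

set_option autoImplicit false

namespace K559.BlowCech

open Finset

universe v w

variable {ι : Type v} {A : Type w} [CommRing A] (f : ι → A)

/-- The differential on numerators over `f_σ ^ k`. -/
def dk (k : ℕ) {p : ℕ} (s : (Fin p → ι) → A) (σ : Fin (p + 1) → ι) : A :=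
  ∑ j : Fin (p + 1), (-1 : A) ^ (j : ℕ) * (f (σ j) ^ k * s (σ ∘ j.succAbove))

lemma dk_def (k : ℕ) {p : ℕ} (s : (Fin p → ι) → A) (σ : Fin (p + 1) → ι) :
    dk f k s σ = ∑ j : Fin (p + 1), (-1 : A) ^ (j : ℕ) * (f (σ j) ^ k * s (σ ∘ j.succAbove)) := rfl

theorem dk_dk (k : ℕ) {p : ℕ} (s : (Fin p → ι) → A) (i : Fin (p + 2) → ι) :
    dk f k (dk f k s) i = 0 := by
  have h0 : dk f k (dk f k s) i = ∑ j : Fin (p + 2), ∑ l : Fin (p + 1),
      (-1 : A) ^ (j.val + l.val) *
        (f (i j) ^ k * f (i (j.succAbove l)) ^ k * s ((i ∘ j.succAbove) ∘ l.succAbove)) := by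
    rw [dk_def]
    refine Finset.sum_congr rfl fun j _ => ?_
    rw [dk_def, Finset.mul_sum, Finset.mul_sum]
    refine Finset.sum_congr rfl fun l _ => ?_
    rw [pow_add]
    simp only [Function.comp_apply]
    ring
  rw [h0, ← Finset.sum_product' (s := (Finset.univ : Finset (Fin (p + 2))))
    (t := (Finset.univ : Finset (Fin (p + 1))))
    (f := fun j l => (-1 : A) ^ (j.val + l.val) *
        (f (i j) ^ k * f (i (j.succAbove l)) ^ k * s ((i ∘ j.succAbove) ∘ l.succAbove)))]
  refine Finset.sum_involution (fun x _ => (x.1.succAbove x.2, x.2.predAbove x.1)) ?_ ?_ ?_ ?_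
  · rintro ⟨j, l⟩ -
    simp only
    have h : (i ∘ (j.succAbove l).succAbove) ∘ (l.predAbove j).succAbove =
        (i ∘ j.succAbove) ∘ l.succAbove := by
      funext k
      simp only [Function.comp_apply]
      rw [Fin.succAbove_succAbove_succAbove_predAbove]
    have h2 : (-1 : A) ^ ((j.succAbove l : Fin (p + 2)).val + (l.predAbove j).val) =
        -(-1 : A) ^ (j.val + l.val) := by
      have h3 := Fin.neg_one_pow_succAbove_add_predAbove (R := ℤ) j l
      have h4 := congrArg (Int.cast : ℤ → A) h3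
      simpa using h4
    have h5 : (j.succAbove l).succAbove (l.predAbove j) = j := Fin.succAbove_succAbove_predAbove j l
    rw [h, h2, h5]
    ring
  · rintro ⟨j, l⟩ - - h
    exact Fin.succAbove_ne j l (congrArg Prod.fst h)
  · intro x _
    exact Finset.mem_univ _
  · rintro ⟨j, l⟩ -
    simp only
    rw [Prod.mk.injEq]
    exact ⟨Fin.succAbove_succAbove_predAbove j l, Fin.predAbove_predAbove_succAbove j l⟩

lemma dk_sub (k : ℕ) {p : ℕ} (s t : (Fin p → ι) → A) (σ : Fin (p + 1) → ι) :
    dk f k (fun τ => s τ - t τ) σ = dk f k s σ - dk f k t σ := by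
  simp only [dk_def, mul_sub, Finset.sum_sub_distrib]

lemma dk_mul (k : ℕ) {p : ℕ} (c : A) (s : (Fin p → ι) → A) (σ : Fin (p + 1) → ι) :
    dk f k (fun τ => c * s τ) σ = c * dk f k s σ := by
  rw [dk_def, dk_def, Finset.mul_sum]
  refine Finset.sum_congr rfl fun j _ => ?_
  ring

lemma dk_congr (k : ℕ) {p : ℕ} {s t : (Fin p → ι) → A} (h : ∀ τ, s τ = t τ) (σ : Fin (p + 1) → ι) :
    dk f k s σ = dk f k t σ := by
  rw [funext h]

lemma dk_map {B : Type*} [CommRing B] (φ : A →+* B) (k : ℕ) {p : ℕ} (s : (Fin p → ι) → A)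
    (σ : Fin (p + 1) → ι) :
    dk (fun i => φ (f i)) k (fun τ => φ (s τ)) σ = φ (dk f k s σ) := by
  simp only [dk_def, map_sum, map_mul, map_pow, map_neg, map_one]

/-- Change of the exponent. -/
lemma dk_add (k l : ℕ) {p : ℕ} (s : (Fin p → ι) → A) (σ : Fin (p + 1) → ι) :
    dk f (k + l) (fun τ => (∏ j, f (τ j)) ^ l * s τ) σ = (∏ j, f (σ j)) ^ l * dk f k s σ := by
  rw [dk_def, dk_def, Finset.mul_sum]
  refine Finset.sum_congr rfl fun j _ => ?_
  rw [Fin.prod_univ_succAbove (fun i => f (σ i)) j]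
  simp only [Function.comp_apply]
  ring

lemma dk_cons (k : ℕ) {p : ℕ} (s : (Fin (p + 1) → ι) → A) (c : ι) (τ : Fin (p + 1) → ι) :
    dk f k s (Fin.cons c τ : Fin (p + 2) → ι) = f c ^ k * s τ -
      ∑ j : Fin (p + 1), (-1 : A) ^ (j : ℕ) *
        (f (τ j) ^ k * s (Fin.cons c (τ ∘ j.succAbove) : Fin (p + 1) → ι)) := by
  rw [dk_def, Fin.sum_univ_succ, sub_eq_add_neg, ← Finset.sum_neg_distrib]
  congr 1
  · rw [Fin.val_zero, pow_zero, one_mul, Fin.cons_zero]
    congr 2
  · refine Finset.sum_congr rfl fun j _ => ?_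
    rw [Fin.cons_succ, Fin.val_succ, pow_succ]
    have h : (Fin.cons c τ : Fin (p + 2) → ι) ∘ j.succ.succAbove =
        (Fin.cons c (τ ∘ j.succAbove) : Fin (p + 1) → ι) := by
      funext a
      refine Fin.cases ?_ (fun b => ?_) a
      · simp
      · simp [Fin.succ_succAbove_succ]
    rw [h]
    ring

section Ideal

/-- The ideal. -/
abbrev JJ : Ideal A := Ideal.span (Set.range f)

variable {f}

lemma mem_JJ (i : ι) : f i ∈ JJ f := Ideal.subset_span ⟨i, rfl⟩

lemma mul_mem {a b n : ℕ} {x y : A} (hx : x ∈ JJ f ^ a) (hy : y ∈ JJ f ^ b) (h : n ≤ a + b) :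
    x * y ∈ JJ f ^ n :=
  Ideal.pow_le_pow_right h (by rw [pow_add]; exact Ideal.mul_mem_mul hx hy)

lemma pow_mem (i : ι) (k : ℕ) : f i ^ k ∈ JJ f ^ k := Ideal.pow_mem_pow (mem_JJ i) k

lemma prod_mem {q : ℕ} (σ : Fin q → ι) (l : ℕ) : (∏ j, f (σ j)) ^ l ∈ JJ f ^ (l * q) := by
  have h := Ideal.prod_mem_prod (s := (Finset.univ : Finset (Fin q)))
    (I := fun _ => JJ f) (x := fun j => f (σ j)) (fun j _ => mem_JJ (σ j))
  rw [mul_comm, pow_mul]
  exact Ideal.pow_mem_pow (by simpa using h) l

lemma dk_mem {k p m : ℕ} {s : (Fin p → ι) → A} (hs : ∀ τ, s τ ∈ JJ f ^ m) (σ : Fin (p + 1) → ι) :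
    dk f k s σ ∈ JJ f ^ (k + m) := by
  refine Submodule.sum_mem _ fun j _ => Ideal.mul_mem_left _ _ ?_
  exact mul_mem (pow_mem (σ j) k) (hs _) le_rfl

/-- Pigeonhole. -/
theorem exists_sum [Fintype ι] (k : ℕ) (x : A) (hx : x ∈ JJ f ^ (Fintype.card ι * k + 1)) :
    ∃ h : ι → A, (∀ c, h c ∈ JJ f ^ (Fintype.card ι * k + 1 - k)) ∧ x = ∑ c, h c * f c ^ k := by
  classical
  rw [Ideal.mem_span_pow_iff_exists_isHomogeneous] at hx
  obtain ⟨P, hP, rfl⟩ := hx
  have key : ∀ s : Finset (ι →₀ ℕ), s ⊆ P.support →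
      ∃ h : ι → A, (∀ c, h c ∈ JJ f ^ (Fintype.card ι * k + 1 - k)) ∧
        ∑ d ∈ s, P.coeff d * ∏ i, f i ^ d i = ∑ c, h c * f c ^ k := by
    intro s
    induction s using Finset.induction_on with
    | empty =>
      intro _
      exact ⟨0, fun c => Submodule.zero_mem _, by simp⟩
    | insert d s hd ih =>
      intro hs
      obtain ⟨h, hh, he⟩ := ih (fun x hx => hs (Finset.mem_insert_of_mem hx))
      have hdeg : ∑ i, d i = Fintype.card ι * k + 1 := by
        have h1 := hP (MvPolynomial.mem_support_iff.1 (hs (Finset.mem_insert_self d s)))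
        rw [show (Finsupp.weight 1 : (ι →₀ ℕ) →+ ℕ) = Finsupp.degree from
          (Finsupp.degree_eq_weight_one).symm, Finsupp.degree_eq_sum] at h1
        exact h1
      obtain ⟨c, hc⟩ : ∃ c, k < d c := by
        by_contra hcon
        push Not at hcon
        have h2 : ∑ i, d i ≤ ∑ _i : ι, k := Finset.sum_le_sum fun i _ => hcon i
        rw [Finset.sum_const, Finset.card_univ, smul_eq_mul] at h2
        omega
      have hprod : ∏ i, f i ^ d i = (f c ^ (d c - k) * ∏ i ∈ Finset.univ.erase c, f i ^ d i) *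
          f c ^ k := by
        rw [← Finset.mul_prod_erase Finset.univ _ (Finset.mem_univ c)]
        have : f c ^ d c = f c ^ (d c - k) * f c ^ k := by
          rw [← pow_add, Nat.sub_add_cancel hc.le]
        rw [this]
        ring
      have hmem : f c ^ (d c - k) * ∏ i ∈ Finset.univ.erase c, f i ^ d i ∈
          JJ f ^ (Fintype.card ι * k + 1 - k) := by
        have h3 : ∏ i ∈ Finset.univ.erase c, f i ^ d i ∈
            JJ f ^ (∑ i ∈ Finset.univ.erase c, d i) := by
          rw [← Finset.prod_pow_eq_pow_sum]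
          exact Ideal.prod_mem_prod fun i _ => pow_mem i _
        refine mul_mem (pow_mem c _) h3 ?_
        have h4 := Finset.add_sum_erase Finset.univ (fun i => d i) (Finset.mem_univ c)
        omega
      refine ⟨h + Pi.single c (P.coeff d * (f c ^ (d c - k) *
        ∏ i ∈ Finset.univ.erase c, f i ^ d i)), fun i => ?_, ?_⟩
      · rw [Pi.add_apply]
        refine Submodule.add_mem _ (hh i) ?_
        by_cases hic : i = c
        · subst hic
          rw [Pi.single_eq_same]
          exact Ideal.mul_mem_left _ _ hmem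
        · rw [Pi.single_eq_of_ne hic]
          exact Submodule.zero_mem _
      · rw [Finset.sum_insert hd, he]
        simp only [Pi.add_apply, add_mul, Finset.sum_add_distrib]
        rw [add_comm]
        congr 1
        rw [Finset.sum_eq_single c]
        · rw [Pi.single_eq_same, hprod]
          ring
        · intro i _ hi
          rw [Pi.single_eq_of_ne hi, zero_mul]
        · intro hc
          exact absurd (Finset.mem_univ c) hc
  obtain ⟨h, hh, he⟩ := key P.support subset_rfl
  refine ⟨h, hh, ?_⟩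
  rw [← he, MvPolynomial.eval_eq']

variable (f) in
/-- Exactness of the augmented Čech complex of `J ^ n O`, in terms of numerators. -/
def Ex (n : ℕ) : Prop :=
  (∀ (k : ℕ) (x : A), x ∈ JJ f ^ n → (∀ c, f c ^ k * x = 0) → x = 0) ∧
  ∀ (p k : ℕ) (s : (Fin (p + 1) → ι) → A), (∀ σ, s σ ∈ JJ f ^ (k * (p + 1) + n)) →
    (∀ τ : Fin (p + 2) → ι, dk f k s τ = 0) →
      ∃ (l : ℕ) (t : (Fin p → ι) → A), (∀ σ, t σ ∈ JJ f ^ ((k + l) * p + n)) ∧
        ∀ σ, dk f (k + l) t σ = (∏ j, f (σ j)) ^ l * s σ

lemma map_mem {B : Type*} [CommRing B] (φ : A →+* B) {n : ℕ} {x : A} (hx : x ∈ JJ f ^ n) :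
    φ x ∈ JJ (fun i => φ (f i)) ^ n := by
  have h1 := Ideal.mem_map_of_mem φ hx
  rw [Ideal.map_pow, Ideal.map_span, ← Set.range_comp] at h1
  exact h1

theorem Ex.of_retract {B : Type*} [CommRing B] (φ : A →+* B) (π : B →+* A) (h : ∀ x, π (φ x) = x)
    {n : ℕ} (hB : Ex (fun i => φ (f i)) n) : Ex f n := by
  have hf : (fun i => π (φ (f i))) = f := funext fun i => h _
  constructor
  · intro k x hx hx0
    have h1 := hB.1 k (φ x) (map_mem φ hx) (fun c => by rw [← map_pow, ← map_mul, hx0, map_zero])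
    rw [← h x, h1, map_zero]
  · intro p k s hs hcoc
    obtain ⟨l, t, ht, hts⟩ := hB.2 p k (fun σ => φ (s σ)) (fun σ => map_mem φ (hs σ)) (fun τ => by
      rw [dk_map, hcoc, map_zero])
    refine ⟨l, fun σ => π (t σ), fun σ => ?_, fun σ => ?_⟩
    · have h1 := map_mem π (ht σ)
      rwa [hf] at h1
    · have h1 := congrArg π (hts σ)
      rw [← dk_map, hf] at h1
      rw [h1, map_mul, map_pow, map_prod, h]
      simp only [h]

/-- A cocycle times a high power of `G ∈ J` is a coboundary. -/
theorem exists_colim [Fintype ι] {G : A} (hG : G ∈ JJ f) {n p k : ℕ} (s : (Fin (p + 1) → ι) → A)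
    (hs : ∀ σ, s σ ∈ JJ f ^ (k * (p + 1) + n)) (hcoc : ∀ τ : Fin (p + 2) → ι, dk f k s τ = 0) :
    ∃ (N : ℕ) (t : (Fin p → ι) → A), (∀ σ, t σ ∈ JJ f ^ (k * p + n + N)) ∧
      ∀ σ, dk f k t σ = G ^ N * s σ := by
  obtain ⟨h, hh, hsum⟩ := exists_sum k (G ^ (Fintype.card ι * k + 1)) (Ideal.pow_mem_pow hG _)
  refine ⟨Fintype.card ι * k + 1, fun σ => ∑ c, h c * s (Fin.cons c σ), fun σ => ?_, fun τ => ?_⟩
  · refine Submodule.sum_mem _ fun c _ => mul_mem (hh c) (hs _) ?_
    have : 1 ≤ Fintype.card ι := Fintype.card_pos_iff.2 ⟨c⟩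
    have h2 : k ≤ Fintype.card ι * k := Nat.le_mul_of_pos_left k this
    have h3 : k * (p + 1) = k * p + k := by ring
    omega
  · have h1 : dk f k (fun σ => ∑ c, h c * s (Fin.cons c σ : Fin (p + 1) → ι)) τ =
        ∑ c, h c * (∑ j : Fin (p + 1), (-1 : A) ^ (j : ℕ) *
          (f (τ j) ^ k * s (Fin.cons c (τ ∘ j.succAbove) : Fin (p + 1) → ι))) := by
      rw [dk_def]
      simp only [Finset.mul_sum]
      rw [Finset.sum_comm]
      refine Finset.sum_congr rfl fun c _ => Finset.sum_congr rfl fun j _ => ?_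
      ring
    rw [h1, hsum, Finset.sum_mul]
    refine Finset.sum_congr rfl fun c _ => ?_
    have h2 := hcoc (Fin.cons c τ : Fin (p + 2) → ι)
    rw [dk_cons, sub_eq_zero] at h2
    rw [← h2]
    ring

/-- **The descent.** -/
theorem Ex.descend [Fintype ι] {G : A} (hG : G ∈ JJ f) (hG0 : ∀ x, G * x = 0 → x = 0)
    (hGJ : ∀ (m : ℕ) (x : A), G * x ∈ JJ f ^ (m + 1) → x ∈ JJ f ^ m)
    (hEx : ∀ n, 1 ≤ n → Ex (fun i => Ideal.Quotient.mk (Ideal.span {G}) (f i)) n) (n : ℕ) :
    Ex f n := by
  have hG0' : ∀ (N : ℕ) (x : A), G ^ N * x = 0 → x = 0 := by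
    intro N
    induction N with
    | zero => intro x hx; simpa using hx
    | succ N ih => intro x hx; exact ih x (hG0 _ (by rw [← hx]; ring))
  set mk := Ideal.Quotient.mk (Ideal.span {G}) with hmk
  have hmk0 : ∀ x : A, mk x = 0 → ∃ y, x = G * y := by
    intro x hx
    rw [hmk, Ideal.Quotient.eq_zero_iff_mem, Ideal.mem_span_singleton'] at hx
    obtain ⟨y, rfl⟩ := hx
    exact ⟨y, mul_comm _ _⟩
  have hmkG : mk G = 0 := Ideal.Quotient.eq_zero_iff_mem.2 (Ideal.mem_span_singleton_self G)
  have hlift : ∀ (m : ℕ) (y : A ⧸ Ideal.span {G}), y ∈ JJ (fun i => mk (f i)) ^ m →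
      ∃ x ∈ JJ f ^ m, mk x = y := by
    intro m y hy
    have h1 : JJ (fun i => mk (f i)) ^ m = (JJ f ^ m).map mk := by
      rw [Ideal.map_pow, Ideal.map_span, ← Set.range_comp]
      rfl
    rw [h1, Ideal.mem_map_iff_of_surjective _ Ideal.Quotient.mk_surjective] at hy
    exact hy
  refine ⟨?_, ?_⟩
  · intro k x _ hx0
    obtain ⟨h, -, hsum⟩ := exists_sum k (G ^ (Fintype.card ι * k + 1)) (Ideal.pow_mem_pow hG _)
    refine hG0' (Fintype.card ι * k + 1) x ?_
    rw [hsum, Finset.sum_mul]
    refine Finset.sum_eq_zero fun c _ => ?_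
    rw [mul_assoc, hx0, mul_zero]
  · -- descending induction on the power of `G`
    have claim : ∀ (N p k : ℕ) (s : (Fin (p + 1) → ι) → A),
        (∀ σ, s σ ∈ JJ f ^ (k * (p + 1) + n)) → ∀ (t : (Fin p → ι) → A),
        (∀ σ, t σ ∈ JJ f ^ (k * p + n + N)) → (∀ σ, dk f k t σ = G ^ N * s σ) →
        ∃ (l : ℕ) (t' : (Fin p → ι) → A), (∀ σ, t' σ ∈ JJ f ^ ((k + l) * p + n)) ∧
          ∀ σ, dk f (k + l) t' σ = (∏ j, f (σ j)) ^ l * s σ := by
      intro N
      induction N with
      | zero =>
        intro p k s hs t ht hts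
        refine ⟨0, t, fun σ => by simpa using ht σ, fun σ => ?_⟩
        rw [add_zero, hts, pow_zero, pow_zero]
      | succ N ih =>
        intro p k s hs t ht hts
        have hcoc : ∀ σ, dk (fun i => mk (f i)) k (fun τ => mk (t τ)) σ = 0 := by
          intro σ
          rw [dk_map, hts, map_mul, map_pow, hmkG]
          simp
        cases p with
        | zero =>
          obtain ⟨y, hy⟩ := hmk0 (t ![]) ((hEx (n + N + 1) (by omega)).1 k _
            (map_mem mk (by simpa [add_assoc] using ht ![])) (fun c => by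
              have h1 := hcoc ![c]
              rw [dk_def, Fin.sum_univ_one] at h1
              have h2 : (![c] : Fin 1 → ι) ∘ (0 : Fin 1).succAbove = ![] := Subsingleton.elim _ _
              rw [h2] at h1
              simpa using h1))
          have hyJ : y ∈ JJ f ^ (n + N) := hGJ _ _ (by
            rw [← hy]
            simpa [add_assoc] using ht ![])
          obtain ⟨l, t', ht', hts'⟩ := ih 0 k s hs (fun _ => y) (fun σ => by simpa using hyJ)
            (fun σ => by
              have h3 : ∀ τ, t τ = G * y := fun τ => by rw [← hy, Subsingleton.elim τ ![]]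
              have h1 := hts σ
              rw [dk_congr f k h3, dk_mul, pow_succ'] at h1
              have h2 : G * (dk f k (fun _ : Fin 0 → ι => y) σ - G ^ N * s σ) = 0 := by
                rw [mul_sub, h1]
                ring
              exact sub_eq_zero.1 (hG0 _ h2))
          exact ⟨l, t', ht', hts'⟩
        | succ p =>
          obtain ⟨l, w, hw, hwt⟩ := (hEx (n + N + 1) (by omega)).2 p k (fun τ => mk (t τ))
            (fun σ => map_mem mk (by
              have := ht σ
              rwa [show k * (p + 1) + n + (N + 1) = k * (p + 1) + (n + N + 1) by ring] at this))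
            hcoc
          choose w' hw' hw'w using fun σ => hlift _ _ (hw σ)
          have h1 : ∀ σ, ∃ y, (∏ j, f (σ j)) ^ l * t σ - dk f (k + l) w' σ = G * y := by
            intro σ
            apply hmk0
            rw [map_sub, ← dk_map]
            rw [show (fun τ => mk (w' τ)) = w from funext hw'w, hwt]
            rw [map_mul, map_pow, map_prod, sub_self]
          choose y hy using h1
          have hyJ : ∀ σ, y σ ∈ JJ f ^ ((k + l) * (p + 1) + n + N) := by
            intro σ
            apply hGJ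
            rw [← hy]
            refine Submodule.sub_mem _ (mul_mem (prod_mem σ l) (ht σ) ?_) ?_
            · refine le_of_eq ?_
              ring
            · have h2 := dk_mem (f := f) (k := k + l) hw' σ
              refine Ideal.pow_le_pow_right (le_of_eq ?_) h2
              ring
          have hdy : ∀ σ, dk f (k + l) y σ = G ^ N * ((∏ j, f (σ j)) ^ l * s σ) := by
            intro σ
            have h2 : G * (dk f (k + l) y σ - G ^ N * ((∏ j, f (σ j)) ^ l * s σ)) = 0 := by
              rw [mul_sub, ← dk_mul]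
              rw [dk_congr f (k + l) (fun τ => (hy τ).symm), dk_sub, dk_dk, sub_zero, dk_add, hts]
              ring
            exact sub_eq_zero.1 (hG0 _ h2)
          obtain ⟨l', t', ht', hts'⟩ := ih (p + 1) (k + l) (fun σ => (∏ j, f (σ j)) ^ l * s σ)
            (fun σ => by
              refine mul_mem (prod_mem σ l) (hs σ) (le_of_eq ?_)
              ring) y hyJ hdy
          refine ⟨l + l', t', fun σ => by rw [← add_assoc]; exact ht' σ, fun σ => ?_⟩
          rw [← add_assoc, hts']
          ring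
    intro p k s hs hcoc
    obtain ⟨N, t, ht, hts⟩ := exists_colim hG s hs hcoc
    exact claim N p k s hs t ht hts

end Ideal

end K559.BlowCech
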