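import Groth.Agent.RegImm.K559.BlowCech
import Groth.Agent.Flat2H.KoszulWrap
import Groth.Agent.Sga67.KoszulH1
import Groth.Agent.CalgB.QuasiRegular
import Groth.Agent.Models2.KoszulTop
import Mathlib.Algebra.Polynomial.AlgebraMap

/-!
# Exactness of the twisted Čech complexes of the blow-up of a Koszul-regular ideal

`ex_of_koszul`: if `J` is generated by a Koszul-regular sequence of length `≥ 1` then for every finite family generating
`J` and every `n ≥ 0` the augmented Čech complex `Ex f n` is exact.
-/

set_option autoImplicit false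

universe u v

namespace K559.BlowKos

open K559.BlowCech Polynomial

section Quasi

variable {A : Type u} [CommRing A]

lemma range_get (l : List A) : Ideal.span (Set.range l.get) = Ideal.ofList l := by
  unfold Ideal.ofList
  congr 1
  ext x
  simp [List.mem_iff_get]

/-- For a quasi-regular sequence, multiplication by a generator is strict for the `J`-adic filtration. -/
theorem mem_pow_of_mul_get {c : ℕ} {g : Fin c → A} (hg : CAlgX.IsQuasiRegular g) (i : Fin c) (m : ℕ)
    (x : A) (hx : g i * x ∈ Ideal.span (Set.range g) ^ (m + 1)) :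
    x ∈ Ideal.span (Set.range g) ^ m := by
  induction m with
  | zero => simp
  | succ m ih =>
    have h1 := ih (Ideal.pow_le_pow_right (Nat.le_succ _) hx)
    rw [Ideal.mem_span_pow_iff_exists_isHomogeneous] at h1
    obtain ⟨P, hP, rfl⟩ := h1
    have h2 := hg (m + 1) (MvPolynomial.X i * P)
      (by rw [add_comm]; exact (MvPolynomial.isHomogeneous_X _ i).mul hP) (by
      rw [map_mul, MvPolynomial.eval_X]
      exact hx)
    have h3 : ∀ d, MvPolynomial.coeff d P ∈ Ideal.span (Set.range g) := fun d => by
      have := h2 (Finsupp.single i 1 + d)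
      rwa [MvPolynomial.coeff_X_mul] at this
    rw [MvPolynomial.eval_eq']
    refine Submodule.sum_mem _ fun d hd => ?_
    rw [pow_succ']
    refine Ideal.mul_mem_mul (h3 d) ?_
    have h4 : d.degree = m := by
      have := hP (MvPolynomial.mem_support_iff.1 hd)
      rwa [show (Finsupp.weight 1 : (Fin c →₀ ℕ) →+ ℕ) = Finsupp.degree from
        (Finsupp.degree_eq_weight_one).symm] at this
    rw [← h4, Finsupp.degree_eq_sum, ← Finset.prod_pow_eq_pow_sum]
    exact Ideal.prod_mem_prod fun i _ =>
      Ideal.pow_mem_pow (Ideal.subset_span (Set.mem_range_self i)) _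

end Quasi

section Poly

variable {A : Type u} [CommRing A]

/-- The polynomial with coefficients the given list. -/
noncomputable def polyOf : List A → A[X]
  | [] => 0
  | a :: l => C a + X * polyOf l

lemma eq_zero_of_smul_polyOf (a : A) (l : List A) (h : a • polyOf l = 0) : ∀ x ∈ l, x • a = 0 := by
  induction l with
  | nil => simp
  | cons b l ih =>
    have h1 : C (a * b) + X * (a • polyOf l) = 0 := by
      rw [← h, polyOf, smul_add, smul_C, smul_eq_mul, mul_smul_comm]
    have h2 : a * b = 0 := by
      have := congrArg (fun p => coeff p 0) h1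
      simpa using this
    have h3 : a • polyOf l = 0 := by
      ext i
      have := congrArg (fun p => coeff p (i + 1)) h1
      simpa [coeff_X_mul, coeff_C] using this
    intro x hx
    rcases List.mem_cons.1 hx with rfl | hx
    · rw [smul_eq_mul, mul_comm, h2]
    · exact ih h3 x hx

lemma polyOf_mem (l : List A) : polyOf l ∈ Ideal.ofList (l.map (C : A →+* A[X])) := by
  induction l with
  | nil => exact Submodule.zero_mem _
  | cons a l ih =>
    rw [List.map_cons, Ideal.ofList_cons, polyOf]
    exact Submodule.add_mem_sup (Ideal.mem_span_singleton_self _) (Ideal.mul_mem_left _ _ ih)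

lemma ofList_polyOf (a : A) (l : List A) :
    Ideal.ofList (polyOf (a :: l) :: l.map (C : A →+* A[X])) =
      Ideal.ofList ((a :: l).map (C : A →+* A[X])) := by
  rw [List.map_cons, Ideal.ofList_cons, Ideal.ofList_cons]
  apply le_antisymm
  · refine sup_le ?_ le_sup_right
    rw [Ideal.span_singleton_le_iff_mem, polyOf]
    exact Submodule.add_mem_sup (Ideal.mem_span_singleton_self _)
      (Ideal.mul_mem_left _ _ (polyOf_mem l))
  · refine sup_le ?_ le_sup_right
    rw [Ideal.span_singleton_le_iff_mem]
    have h : C a = polyOf (a :: l) - X * polyOf l := by rw [polyOf, add_sub_cancel_right]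
    rw [h]
    exact Submodule.sub_mem _ (Submodule.mem_sup_left (Ideal.mem_span_singleton_self _))
      (Submodule.mem_sup_right (Ideal.mul_mem_left _ _ (polyOf_mem l)))

/-- The annihilator of a nonempty Koszul-regular sequence is zero. -/
lemma eq_zero_of_koszul {l : List A} (hl : LCI.IsKoszulRegularSeq A l) (hne : 0 < l.length) (m : A)
    (hm : ∀ a ∈ l, a • m = 0) : m = 0 :=
  Groth.Agent.Models2.KoszulTop.eq_zero_of_gr hne
    (Groth.Agent.Models2.KoszulTop.gr_zero_of_flat hl A) m hm

end Poly

/-- **Exactness.** -/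
theorem ex_of_koszul {ι : Type v} [Fintype ι] : ∀ (c : ℕ) (A : Type u) [CommRing A] (l : List A)
    (_ : LCI.IsKoszulRegularSeq A l) (_ : l.length = c) (f : ι → A) (_ : JJ f = Ideal.ofList l)
    (n : ℕ) (_ : 1 ≤ n ∨ 0 < c), Ex f n := by
  intro c
  induction c with
  | zero =>
    intro A _ l _ hc f hf n hn
    obtain rfl := List.length_eq_zero_iff.1 hc
    rw [Ideal.ofList_nil] at hf
    have hbot : ∀ m : ℕ, 1 ≤ m → ∀ x ∈ JJ f ^ m, x = 0 := by
      intro m hm x hx
      rw [hf, Ideal.bot_pow (by omega)] at hx
      exact hx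
    refine ⟨fun k x hx _ => hbot n (by omega) x hx, fun p k s hs _ => ⟨0, 0, fun σ =>
      Submodule.zero_mem _, fun σ => ?_⟩⟩
    rw [hbot _ (by omega) _ (hs σ)]
    simp [dk_def]
  | succ c ih =>
    intro A _ l hl hc f hf n _
    obtain ⟨a, l, rfl⟩ : ∃ a l', l = a :: l' := by
      cases l with
      | nil => simp at hc
      | cons a l => exact ⟨a, l, rfl⟩
    have hlen : l.length = c := by simpa using hc
    let G : A[X] := polyOf (a :: l)
    let f' : ι → A[X] := fun i => C (f i)
    have hlB : LCI.IsKoszulRegularSeq A[X] ((a :: l).map (C : A →+* A[X])) :=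
      Groth.Agent.Flat2H.KoszulWrap.isKoszulRegularSeq_map (A := A) (B := A[X]) hl
    have hofl := ofList_polyOf a l
    have hGl : LCI.IsKoszulRegularSeq A[X] (G :: l.map (C : A →+* A[X])) :=
      Groth.Agent.Flat2H.KoszulSeq.isKoszulRegularSeq_of_ofList_eq hlB hofl.symm (by simp)
    have hf' : JJ f' = Ideal.ofList ((a :: l).map (C : A →+* A[X])) := by
      have h1 : JJ f' = (JJ f).map (C : A →+* A[X]) := by
        rw [Ideal.map_span, ← Set.range_comp]
        rfl
      rw [h1, hf, Ideal.map_ofList]
    have hGnz : G ∈ nonZeroDivisors A[X] := by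
      by_contra hcon
      obtain ⟨b, hb0, hb⟩ := Polynomial.notMem_nonZeroDivisors_iff.1 hcon
      exact hb0 (eq_zero_of_koszul hl (by simp) b (eq_zero_of_smul_polyOf b _ hb))
    have hquasi : CAlgX.IsQuasiRegular (G :: l.map (C : A →+* A[X])).get :=
      Groth.Agent.CalgB.QuasiRegular.isQuasiRegular_of_isH1Regular
        (Groth.Agent.Sga67.KoszulH1.isH1Regular_of_isKoszulRegularSeq _ hGl)
    have hJJ : Ideal.span (Set.range (G :: l.map (C : A →+* A[X])).get) = JJ f' := by
      rw [range_get, hofl, hf']
    refine Ex.of_retract (C : A →+* A[X]) (evalRingHom 0) (fun x => by simp) ?_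
    refine Ex.descend (f := f') (G := G) ?_ ?_ ?_ ?_ n
    · rw [hf', ← hofl]
      exact Ideal.subset_span (List.mem_cons_self (a := G))
    · intro x hx
      exact (mem_nonZeroDivisors_iff.1 hGnz).1 x hx
    · intro m x hx
      rw [← hJJ] at hx ⊢
      exact mem_pow_of_mul_get hquasi ⟨0, by simp⟩ m x hx
    · intro n hn
      let mk := Ideal.Quotient.mk (Ideal.span {G})
      have hker : RingHom.ker mk = Ideal.ofList [G] := by
        rw [Ideal.mk_ker, Ideal.ofList_singleton]
      have hG1 : LCI.IsKoszulRegularSeq A[X] [G] :=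
        Groth.Agent.Flat2H.KoszulWrap.isKoszulRegularSeq_singleton hGnz
      have hperm : LCI.IsKoszulRegularSeq A[X] (l.map (C : A →+* A[X]) ++ [G]) :=
        Groth.Agent.Flat2H.KoszulSeq.isKoszulRegularSeq_of_perm
          (List.perm_append_singleton G (l.map (C : A →+* A[X]))).symm hGl
      have hq := (Groth.Agent.Flat2H.KoszulWrap.isKoszulRegularSeq_append_iff_of_surjective _ hG1 mk
        Ideal.Quotient.mk_surjective hker).1 hperm
      refine ih _ _ hq (by simpa using hlen) _ ?_ n (Or.inl hn)
      have h1 : JJ (fun i => mk (f' i)) = (JJ f').map mk := by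
        rw [Ideal.map_span, ← Set.range_comp]
        rfl
      rw [h1, hf', ← hofl, Ideal.map_ofList, List.map_cons, Ideal.ofList_cons]
      have h2 : mk G = 0 := Ideal.Quotient.eq_zero_iff_mem.2 (Ideal.mem_span_singleton_self G)
      rw [h2]
      simp

end K559.BlowKos
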