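import Groth.Agent.RegImm.K559.Basic
import Groth.Agent.Flat2H.KoszulIdeal

/-!
# Koszul-regular immersions: flat base change and composition
-/

set_option autoImplicit false
universe u

open CategoryTheory CategoryTheory.Limits AlgebraicGeometry
open Groth.Agent.Flat2H.KoszulWrap K559.Basic

namespace K559.Koszul

variable {X Y Z X' Y' : Scheme.{u}}

/-- `i` is a Koszul-regular immersion at `z` with a generating sequence whose length satisfies `p`. -/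
def KAt (p : ℕ → Prop) (i : Y ⟶ X) (x : X) : Prop :=
  ∃ U : X.affineOpens, x ∈ U.1 ∧ IsClosedImmersion (i ∣_ U.1) ∧
    ∃ rs : List Γ(X, U.1), p rs.length ∧ LCI.IsKoszulRegularSeq Γ(X, U.1) rs ∧
      RingHom.ker (i.app U.1).hom = Ideal.ofList rs

lemma isRegularImmersion_iff (i : Y ⟶ X) :
    RegImm.IsRegularImmersion .koszul i ↔ IsImmersion i ∧ ∀ y : Y, KAt (fun _ => True) i (i y) := by
  refine and_congr_right fun _ => forall_congr' fun y => ?_
  simp only [KAt, RegImm.IsRegularImmersionAt, true_and, RegImm.Kind.Seq]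

lemma isRegularImmersionOfCodim_iff (d : ℕ) (i : Y ⟶ X) :
    RegImm.IsRegularImmersionOfCodim .koszul d i ↔
      IsImmersion i ∧ ∀ y : Y, KAt (fun n => n = d) i (i y) := Iff.rfl

/-- Flat base change, over given affine opens. -/
lemma base_change_aux {i : Y ⟶ X} {g : X' ⟶ X} [Flat g] {i' : Y' ⟶ X'} {g' : Y' ⟶ Y}
    (hsq : IsPullback g' i' i g) {p : ℕ → Prop} {U : X.Opens} (hU : IsAffineOpen U)
    (hi : IsClosedImmersion (i ∣_ U)) {rs : List Γ(X, U)} (hp : p rs.length)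
    (hrs : LCI.IsKoszulRegularSeq Γ(X, U) rs)
    (hker : RingHom.ker (i.app U).hom = Ideal.ofList rs) {V : X'.Opens} (hV : IsAffineOpen V)
    (e : V ≤ g ⁻¹ᵁ U) : IsClosedImmersion (i' ∣_ V) ∧
      ∃ ss : List Γ(X', V), p ss.length ∧ LCI.IsKoszulRegularSeq Γ(X', V) ss ∧
        RingHom.ker (i'.app V).hom = Ideal.ofList ss := by
  refine ⟨isClosedImmersion_restrict hsq e hi, rs.map (g.appLE U V e).hom, by simpa using hp, ?_, ?_⟩
  · exact Groth.Agent.Flat2H.KoszulBC.IsKoszulRegularSeq_map_of_flat hrs _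
      (Scheme.Hom.flat_appLE g hU hV e)
  · rw [ker_app_of_isPullback hsq hU hV e hi, hker, Ideal.map_ofList]

/-- Flat base change of Koszul-regularity at a point. -/
theorem KAt.base_change {i : Y ⟶ X} {g : X' ⟶ X} [Flat g] {i' : Y' ⟶ X'} {g' : Y' ⟶ Y}
    (hsq : IsPullback g' i' i g) {p : ℕ → Prop} {x' : X'} (h : KAt p i (g x')) : KAt p i' x' := by
  obtain ⟨U, hxU, hcl, rs, hp, hrs, hker⟩ := h
  obtain ⟨V, hV, hxV, hVU⟩ := exists_isAffineOpen_mem_and_subset (U := g ⁻¹ᵁ U.1) (x := x') hxU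
  obtain ⟨h1, h2⟩ := base_change_aux hsq U.2 hcl hp hrs hker hV hVU
  exact ⟨⟨V, hV⟩, hxV, h1, h2⟩

lemma mono_aux {i : Y ⟶ X} {p : ℕ → Prop} {U : X.Opens} (hU : IsAffineOpen U)
    (hi : IsClosedImmersion (i ∣_ U)) {rs : List Γ(X, U)} (hp : p rs.length)
    (hrs : LCI.IsKoszulRegularSeq Γ(X, U) rs)
    (hker : RingHom.ker (i.app U).hom = Ideal.ofList rs) {V : X.Opens} (hV : IsAffineOpen V)
    (e : V ≤ U) : IsClosedImmersion (i ∣_ V) ∧
      ∃ ss : List Γ(X, V), p ss.length ∧ LCI.IsKoszulRegularSeq Γ(X, V) ss ∧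
        RingHom.ker (i.app V).hom = Ideal.ofList ss :=
  base_change_aux (IsPullback.of_id_fst (f := i)) (g := 𝟙 X) (g' := 𝟙 Y) hU hi hp hrs hker hV
    (by simpa using e)

/-- Smaller neighbourhoods. -/
theorem KAt.exists_le {i : Y ⟶ X} {p : ℕ → Prop} {x : X} (h : KAt p i x) (W : X.Opens)
    (hW : x ∈ W) : ∃ U : X.affineOpens, x ∈ U.1 ∧ U.1 ≤ W ∧ IsClosedImmersion (i ∣_ U.1) ∧
    ∃ rs : List Γ(X, U.1), p rs.length ∧ LCI.IsKoszulRegularSeq Γ(X, U.1) rs ∧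
      RingHom.ker (i.app U.1).hom = Ideal.ofList rs := by
  obtain ⟨U, hxU, hcl, rs, hp, hrs, hker⟩ := h
  obtain ⟨V, hV, hxV, hVU⟩ := exists_isAffineOpen_mem_and_subset (U := W ⊓ U.1) (x := x) ⟨hW, hxU⟩
  obtain ⟨h1, h2⟩ := mono_aux U.2 hcl hp hrs hker hV (fun x hx => (hVU hx).2)
  exact ⟨⟨V, hV⟩, hxV, fun x hx => (hVU hx).1, h1, h2⟩

lemma exists_lift_list {A B : Type*} [CommRing A] [CommRing B] (φ : A →+* B)
    (hφ : Function.Surjective φ) (ss : List B) : ∃ ts : List A, ts.map φ = ss :=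
  ⟨ss.map (Function.surjInv hφ), by simp [Function.comp_def, Function.surjInv_eq]⟩

lemma ker_comp_app (i : Y ⟶ X) (j : Z ⟶ Y) (U : X.Opens) : RingHom.ker ((j ≫ i).app U).hom =
    (RingHom.ker (j.app (i ⁻¹ᵁ U)).hom).comap (i.app U).hom := by
  ext x
  rw [Ideal.mem_comap, RingHom.mem_ker, RingHom.mem_ker, Scheme.Hom.comp_app]
  rfl

/-- Composition at a point. -/
theorem KAt.comp {i : Y ⟶ X} {j : Z ⟶ Y} [IsImmersion i] {p q r : ℕ → Prop}
    (hpqr : ∀ n m, p n → q m → r (m + n)) {y : Y} (hi : KAt p i (i y)) (hj : KAt q j y) :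
    KAt r (j ≫ i) (i y) := by
  obtain ⟨V, hyV, hclj, ss, hq, hss, hkerj⟩ := hj
  obtain ⟨W, hW⟩ : ∃ W : X.Opens, i ⁻¹ᵁ W = V.1 := by
    obtain ⟨W, hW, hWV⟩ := i.isEmbedding.isInducing.isOpen_iff.mp V.1.2
    exact ⟨⟨W, hW⟩, TopologicalSpace.Opens.ext hWV⟩
  obtain ⟨U, hxU, hUW, hcli, rs, hp, hrs, hkeri⟩ := hi.exists_le W (by
    change y ∈ i ⁻¹ᵁ W
    rw [hW]; exact hyV)
  have hUV : i ⁻¹ᵁ U.1 ≤ V.1 := by rw [← hW]; exact i.preimage_mono hUW
  obtain ⟨hclj', ss, hq, hss, hkerj⟩ := mono_aux V.2 hclj hq hss hkerj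
    (isAffineOpen_preimage U.2 hcli) hUV
  have hsurj := app_surjective U.2 hcli
  obtain ⟨ts, rfl⟩ := exists_lift_list _ hsurj ss
  refine ⟨U, hxU, ?_, ts ++ rs, ?_, ?_, ?_⟩
  · rw [morphismRestrict_comp]
    have := hclj'
    have := hcli
    exact IsClosedImmersion.comp (j ∣_ i ⁻¹ᵁ U.1) (i ∣_ U.1)
  · rw [List.length_append]
    exact hpqr _ _ hp (by simpa using hq)
  · exact (isKoszulRegularSeq_append_iff_of_surjective ts hrs _ hsurj hkeri).2 hss
  · rw [ker_comp_app, hkerj, ← Ideal.map_ofList,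
      Ideal.comap_map_of_surjective' _ hsurj, hkeri, Ideal.ofList_append]

end K559.Koszul
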