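import Groth.Agent.RegImm.K559.BlowSec
import Groth.Agent.RegImm.K559.BlowKos
import Groth.Agent.RegImm.K559.Koszul
import Groth.Agent.Krr.H470.BlowMain
import Groth.Agent.PerfA.IdealModule

/-!
# Direct images of the powers of the exceptional ideal of the blow-up of a Koszul-regular immersion
-/

set_option autoImplicit false

universe u

namespace K559.BlowDir

open CategoryTheory Limits Opposite AlgebraicGeometry BlowUp Groth.Agent.Divis Groth.Agent.Divis.BlowChart
  Groth.Agent.Divis.BlowChart2 Groth.Agent.Krr.H470.ChartInf Groth.Agent.CohqA.CechBasic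
  K559.BlowCech K559.BlowSec Groth.Agent.Krr.H470.BlowCoh

variable {X X' : Scheme.{u}}

/-- The power of the exceptional ideal as a module. -/
noncomputable abbrev MM (b : X' ⟶ X) (J : X.IdealSheafData) (n : ℕ) : X'.Modules :=
  ClSub.idealMod ((BlowUp.exceptional b J) ^ n)

/-- Sections as functions. -/
noncomputable def vl (I : X'.IdealSheafData) (V : X'.Opens) : Γ(ClSub.idealMod I, V) →+ Γ(X', V) :=
  (Groth.Agent.CohqB.FiniteType2.appLinear (ClSub.idealModι I) V).toAddMonoidHom

lemma vl_injective (I : X'.IdealSheafData) (V : X'.Opens) : Function.Injective (vl I V) :=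
  Groth.Agent.PerfA.IdealModule.val_injective I V

lemma vl_res (I : X'.IdealSheafData) {V W : X'.Opens} (h : V ≤ W) (x : Γ(ClSub.idealMod I, W)) :
    vl I V (res (X := X'.toTopCat) (Scheme.Modules.presheaf (ClSub.idealMod I)) h x) =
      rs X' h (vl I W x) :=
  Groth.Agent.PerfA.IdealModule.val_res I h x

variable (b : X' ⟶ X) (J : X.IdealSheafData) (U : X.affineOpens) {c : ℕ} (a : Fin c → Γ(X, U.1))
  (hb : IsBlowUp b J) (ha : J.ideal U = Ideal.span (Set.range a))

include hb ha in
/-- Vanishing of Čech cohomology. -/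
theorem isZero_cechH {n : ℕ} (hEx : Ex a n) (p : ℕ) :
    IsZero (CohB1.cechHTop (X := X'.toTopCat) (cov b J U a)
      (Scheme.Modules.presheaf (MM b J n)) (p + 1)) := by
  rw [isZero_cechHTop_succ_iff]
  intro s hs
  have hW : ∀ {q : ℕ} (i : Fin (q + 1) → Fin c), IsAffineOpen (W b J U a i) :=
    fun i => isAffineOpen_W b J U a hb ha i
  let s' : ∀ i : Fin (p + 2) → Fin c, Γ(X', W b J U a i) := fun i =>
    vl _ _ (s fun j => ULift.up (i j))
  obtain ⟨k, t, ht, hts⟩ := exists_t b J U a hb ha hEx (q := p + 1) hW s'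
    (fun i => by
      have := Groth.Agent.PerfA.IdealModule.val_mem ((BlowUp.exceptional b J) ^ n)
        ⟨W b J U a i, hW i⟩ (s fun j => ULift.up (i j))
      exact this) (by
      intro τ
      have h := congrFun hs fun j => ULift.up (τ j)
      rw [dC_apply] at h
      have h2 := congrArg (vl _ _) h
      rw [map_sum] at h2
      refine Eq.trans ?_ (h2.trans (map_zero _))
      refine Finset.sum_congr rfl fun j _ => ?_
      rw [map_zsmul]
      refine congrArg _ ?_
      exact (vl_res _ (le_face (X := X'.toTopCat) (cov b J U a) (fun j => ULift.up (τ j)) j)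
        (s ((fun j => ULift.up (τ j)) ∘ j.succAbove))).symm)
  choose t₁ ht₁ htt₁ using fun σ : Fin (p + 1) → ULift.{u} (Fin c) =>
    exists_section b J U a hb ha (fun j => (σ j).down) (hW _) k n (t fun j => (σ j).down) (ht _)
  choose t₂ ht₂ using fun σ : Fin (p + 1) → ULift.{u} (Fin c) =>
    Groth.Agent.PerfA.IdealModule.exists_val_eq ((BlowUp.exceptional b J) ^ n)
      ⟨W b J U a (fun j => (σ j).down), hW _⟩ (ht₁ σ)
  refine ⟨t₂, ?_⟩
  funext i
  apply vl_injective
  have hL : ∀ z : Γ(X', W b J U a fun j => (i j).down),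
      z = ∑ j : Fin (p + 2), (-1 : ℤ) ^ (j : ℕ) •
        rs X' (W_mono b J U a (fun j => (i j).down) j) (t₁ (i ∘ j.succAbove)) →
      z = vl ((BlowUp.exceptional b J) ^ n) (W b J U a fun j => (i j).down) (s i) := by
    intro z hz
    have key : P b J U a (fun j => (i j).down) (pr U a fun j => (i j).down) ^ k * z =
        P b J U a (fun j => (i j).down) (pr U a fun j => (i j).down) ^ k *
          vl ((BlowUp.exceptional b J) ^ n) (W b J U a fun j => (i j).down) (s i) := by
      refine Eq.trans ?_ (hts fun j => (i j).down).symm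
      rw [hz, dk_def, map_sum, Finset.mul_sum]
      refine Finset.sum_congr rfl fun j _ => ?_
      have h2 : P b J U a (fun j => (i j).down) (pr U a fun j => (i j).down) =
          P b J U a (fun j => (i j).down) (a (i j).down) *
            P b J U a (fun j => (i j).down) (pr U a ((fun j => (i j).down) ∘ j.succAbove)) := by
        rw [pr, Fin.prod_univ_succAbove (fun l => a (i l).down) j, map_mul]
        rfl
      have h4 : P b J U a (fun j => (i j).down) (t ((fun j => (i j).down) ∘ j.succAbove)) =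
          P b J U a (fun j => (i j).down) (pr U a ((fun j => (i j).down) ∘ j.succAbove)) ^ k *
            rs X' (W_mono b J U a (fun j => (i j).down) j) (t₁ (i ∘ j.succAbove)) := by
        rw [← rs_P, ← rs_P, ← map_pow, ← map_mul]
        exact congrArg _ (htt₁ (i ∘ j.succAbove)).symm
      rw [map_mul, map_mul, map_pow, map_pow, map_neg, map_one, h4, h2, zsmul_eq_mul]
      push_cast
      ring
    rw [← sub_eq_zero]
    apply reg_P b J U a hb ha (fun j => (i j).down) k
    rw [mul_sub, key, sub_self]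
  refine hL _ ?_
  rw [dC_apply]
  refine (map_sum (vl ((BlowUp.exceptional b J) ^ n) (⨅ l, cov b J U a (i l))) _ _).trans ?_
  refine Finset.sum_congr rfl fun j _ => ?_
  refine (map_zsmul (vl ((BlowUp.exceptional b J) ^ n) (⨅ l, cov b J U a (i l))) _ _).trans ?_
  refine congrArg _ ?_
  refine (vl_res _ _ _).trans ?_
  exact congrArg _ (ht₂ (i ∘ j.succAbove))

include hb ha in
/-- Vanishing of cohomology. -/
theorem subsingleton_HU {n : ℕ} (hEx : Ex a n) (p : ℕ) :
    Subsingleton (CohTop.HU (X := X'.toTopCat) (Coh.toAb (MM b J n)) (p + 1) (b ⁻¹ᵁ U.1)) := by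
  have hq : Coh.IsQCoh (MM b J n) := Groth.Agent.PerfA.IdealModule.isQCoh_idealMod _
  obtain ⟨e⟩ := Groth.Agent.S0464.result (X := X'.toTopCat) (Coh.toAb (MM b J n)) (cov b J U a)
    (fun p i q => by
      have h1 := isAffineOpen_W b J U a hb ha (fun j => (i j).down)
      exact Groth.Agent.CohqA.AffineVanish.HU_subsingleton (MM b J n) (q + 1) (Nat.succ_pos q) _ h1)
    (p + 1)
  have hcov : ⨆ k, cov b J U a k = b ⁻¹ᵁ U.1 := by
    rw [← iSup_chart_eq b J U hb.1 a ha]
    exact Equiv.ulift.iSup_comp (g := fun k => chart b J U (a k))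
  rw [hcov] at e
  have h0 := isZero_cechH b J U a hb ha hEx p
  have h1 : Subsingleton (CohTop.cechH (X := X'.toTopCat) (Coh.toAb (MM b J n)).obj
    (cov b J U a) (p + 1)) := AddCommGrpCat.subsingleton_of_isZero h0
  exact e.symm.toEquiv.subsingleton

include hb ha in
/-- Functions. -/
theorem bijective_app (hEx : Ex a 0) : Function.Bijective (b.app U.1).hom := by
  have hW : ∀ {q : ℕ} (i : Fin (q + 1) → Fin c), IsAffineOpen (W b J U a i) :=
    fun i => isAffineOpen_W b J U a hb ha i
  have hres : ∀ {q : ℕ} (i : Fin (q + 1) → Fin c) (x : Γ(X, U.1)),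
      P b J U a i x = rs X' (W_le b J U a i) ((b.app U.1).hom x) := fun i x => rfl
  constructor
  · rw [injective_iff_map_eq_zero]
    intro x hx
    choose l₀ hl₀ using fun k : Fin c => exists_pow_mul_eq_zero b J U a hb ha (fun _ : Fin 1 => k) x
      (by rw [hres, hx, map_zero])
    refine hEx.1 (∑ k, l₀ k) x (by simp) fun k => ?_
    have hle : l₀ k ≤ ∑ k, l₀ k := Finset.single_le_sum (f := l₀) (fun _ _ => Nat.zero_le _)
      (Finset.mem_univ k)
    have h1 := hl₀ k
    rw [pr, Fin.prod_univ_one] at h1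
    rw [← Nat.sub_add_cancel hle, pow_add, mul_assoc, h1, mul_zero]
  · intro s
    obtain ⟨N, t, -, hts⟩ := exists_t b J U a hb ha hEx (q := 0) hW
      (fun i => rs X' (W_le b J U a i) s) (fun i => by simp) (fun τ => by
        rw [Fin.sum_univ_two]
        have h1 : ∀ j, rs X' (W_mono b J U a τ j) (rs X' (W_le b J U a (τ ∘ j.succAbove)) s) =
            rs X' (W_le b J U a τ) s := fun j => rs_rs _ _ s
        rw [h1, h1]
        simp)
    refine ⟨t ![], ?_⟩
    have hcov : ⨆ k, chart b J U (a k) = b ⁻¹ᵁ U.1 := iSup_chart_eq b J U hb.1 a ha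
    refine TopCat.Sheaf.eq_of_locally_eq' X'.sheaf (fun k : Fin c => W b J U a (fun _ : Fin 1 => k))
      (b ⁻¹ᵁ U.1) (fun k => homOfLE (W_le b J U a _)) ?_ _ _ (fun k => ?_)
    · rw [← hcov]
      exact iSup_mono fun k => le_iInf fun _ => le_rfl
    · have h1 := hts (fun _ => k)
      have h2 : dk a N t (fun _ : Fin 1 => k) = pr U a (fun _ : Fin 1 => k) ^ N * t ![] := by
        rw [dk_def, Fin.sum_univ_one, pr, Fin.prod_univ_one,
          Subsingleton.elim ((fun _ : Fin 1 => k) ∘ (0 : Fin 1).succAbove) ![]]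
        simp
      rw [h2, map_mul, map_pow] at h1
      have h3 : rs X' (W_le b J U a fun _ : Fin 1 => k) s -
          P b J U a (fun _ : Fin 1 => k) (t ![]) = 0 := by
        apply reg_P b J U a hb ha (fun _ : Fin 1 => k) N
        rw [mul_sub, h1, sub_self]
      exact (sub_eq_zero.1 h3).symm

/-- Adapted affine opens. -/
def Adapted (J : X.IdealSheafData) (V : X.affineOpens) : Prop :=
  ∃ (c : ℕ) (a : Fin c → Γ(X, V.1)), J.ideal V = Ideal.span (Set.range a) ∧ ∀ n, Ex a n

lemma adapted_of_koszul (J : X.IdealSheafData) (V : X.affineOpens) (l : List Γ(X, V.1))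
    (hl : LCI.IsKoszulRegularSeq Γ(X, V.1) l) (hJ : J.ideal V = Ideal.ofList l)
    (hne : 0 < l.length) : Adapted J V := by
  refine ⟨l.length, l.get, by rw [hJ, BlowKos.range_get], fun n => ?_⟩
  exact BlowKos.ex_of_koszul l.length _ l hl rfl l.get (BlowKos.range_get l) n (Or.inr hne)

theorem exists_adapted {Y : Scheme.{u}} (i : Y ⟶ X) [IsClosedImmersion i]
    (hi : RegImm.IsRegularImmersion .koszul i) (hd : Dense (Set.range i)ᶜ) (x : X) (T : X.Opens)
    (hT : x ∈ T) : ∃ V : X.affineOpens, x ∈ V.1 ∧ V.1 ≤ T ∧ Adapted i.ker V := by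
  have hsupp : (i.ker.support : Set X) = Set.range i := by
    rw [Scheme.Hom.support_ker]
    exact i.isClosedEmbedding.isClosed_range.closure_eq
  by_cases hx : x ∈ Set.range i
  · obtain ⟨y, rfl⟩ := hx
    rw [Koszul.isRegularImmersion_iff] at hi
    obtain ⟨V, hyV, hVT, -, l, -, hl, hker⟩ := (hi.2 y).exists_le T hT
    have hJ : i.ker.ideal V = Ideal.ofList l := by rw [Scheme.Hom.ker_apply, hker]
    refine ⟨V, hyV, hVT, adapted_of_koszul i.ker V l hl hJ ?_⟩
    rw [List.length_pos_iff]
    rintro rfl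
    rw [Ideal.ofList_nil] at hJ
    obtain ⟨z, hzV, hz⟩ := hd.inter_open_nonempty V.1 V.1.2 ⟨_, hyV⟩
    apply hz
    rw [← hsupp]
    change z ∈ i.ker.support
    rw [Scheme.IdealSheafData.mem_support_iff_of_mem hzV, hJ]
    simp
  · let W' : X.Opens := ⟨(Set.range i)ᶜ, i.isClosedEmbedding.isClosed_range.isOpen_compl⟩
    obtain ⟨V, hxV, hVW', hVW⟩ := Groth.Agent.Divis.CartierBasic.exists_affine_le W' T hx hT
    refine ⟨V, hxV, hVW, adapted_of_koszul i.ker V [1] ?_ ?_ (by simp)⟩
    · exact Groth.Agent.Flat2H.KoszulWrap.isKoszulRegularSeq_singleton (Submonoid.one_mem _)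
    · rw [Groth.Agent.Flat2C.EtaleCentre.ideal_eq_top_of_disjoint i.ker V
        fun x hxV' hxs => hVW' hxV' (hsupp ▸ hxs)]
      rw [Ideal.ofList_singleton, Ideal.span_singleton_one]

/-- Vanishing of the higher direct images of the powers of the exceptional ideal. -/
theorem isZero_RpushAb {Y : Scheme.{u}} (i : Y ⟶ X) [IsClosedImmersion i]
    (hi : RegImm.IsRegularImmersion .koszul i) (hd : Dense (Set.range i)ᶜ) (b : X' ⟶ X)
    (hb : IsBlowUp b i.ker) (n q : ℕ) (hq : 1 ≤ q) :
    IsZero ((Coh.RpushAb b q).obj (Coh.toAb (MM b i.ker n))) := by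
  obtain ⟨q, rfl⟩ : ∃ p, q = p + 1 := ⟨q - 1, by omega⟩
  refine Groth.Agent.CohqA.HDIZero.isZero_RpushAb b _ (q + 1)
    {V | ∃ V' : X.affineOpens, Adapted i.ker V' ∧ V = V'.1} ?_ ?_
  · rw [TopologicalSpace.Opens.isBasis_iff_nbhd]
    intro T x hx
    obtain ⟨V, hxV, hVT, hV⟩ := exists_adapted i hi hd x T hx
    exact ⟨V.1, ⟨V, hV, rfl⟩, hxV, hVT⟩
  · rintro _ ⟨V, ⟨c, a, ha, hEx⟩, rfl⟩
    exact subsingleton_HU b i.ker V a hb ha (hEx n) q

/-- `O_X = b_* O_{X'}`. -/
theorem isIso_unit {Y : Scheme.{u}} (i : Y ⟶ X) [IsClosedImmersion i]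
    (hi : RegImm.IsRegularImmersion .koszul i) (hd : Dense (Set.range i)ᶜ) (b : X' ⟶ X)
    (hb : IsBlowUp b i.ker) :
    IsIso ((Scheme.Modules.pullbackPushforwardAdjunction b).unit.app (Coh.structureModule X)) := by
  have h : IsIso (Groth.Agent.Fga.UnitRestrict.unitToPush b) := by
    refine Groth.Agent.Sga67.LocBasis.isIso_of_bijective _ fun x U hx => ?_
    obtain ⟨V, hxV, hVU, ⟨c, a, ha, hEx⟩⟩ := exists_adapted i hi hd x U hx
    exact ⟨V.1, hVU, hxV, bijective_app b i.ker V a hb ha (hEx 0)⟩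
  rw [← Groth.Agent.Fga.UnitRestrict.unit_pullbackUnitHom] at h
  exact IsIso.of_isIso_comp_right _
    ((Scheme.Modules.pushforward b).map (Groth.Agent.Fga.UnitRestrict.pullbackUnitHom b))

end K559.BlowDir
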