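import Groth.Agent.RegImm.K559.PBRing
import Groth.Agent.Divis.BlowChart2
import Groth.Agent.Sga67.BlowPerf2
import Groth.Agent.Vancyc.H878.OmegaRank
import Groth.Agent.PerfA.QCohEpi
import Groth.Agent.RegImm.K559.Koszul
import Groth.Prelude.Def_RegImm

/-!
# The closed immersion of a blow-up in a projective bundle
-/

set_option autoImplicit false
universe u

open CategoryTheory CategoryTheory.Limits AlgebraicGeometry Opposite TopologicalSpace BlowUp

namespace K559.BlowPB

open Groth.Agent.Sga67.Sec Groth.Agent.Sga67.LocBasis Groth.Agent.Sga67.LocBasisStalk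
open Groth.Agent.Krr.H487.LocBasisPull Groth.Agent.Krr.H496.GenLocus Groth.Agent.Krr.H496.ProjCrit
open Groth.Agent.Dix.IdealModCartier Groth.Agent.Divis.BlowChart2
open Groth.Agent.Sga67.BlowPerf
open K559.PBLoc K559.PBRing

variable {X X' P : Scheme.{u}} {E : X.Modules} {u : E ⟶ Coh.structureModule X}
  {J : X.IdealSheafData} {π : P ⟶ X} {O1 : P.Modules}
  {q : (Scheme.Modules.pullback π).obj E ⟶ O1} {f : X' ⟶ X}
  {j : X' ⟶ P} (hjπ : j ≫ π = f)
  (e : (Scheme.Modules.pullback j).obj O1 ≅ ClSub.idealMod (BlowUp.exceptional f J))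

/-- The sections of the exceptional ideal defined by sections of `E`. -/
noncomputable def sigma {U : X.Opens} (m : Sec E U) :
    Sec (ClSub.idealMod (BlowUp.exceptional f J)) (f ⁻¹ᵁ U) :=
  appS e.hom (f ⁻¹ᵁ U) (appS (bc j q hjπ) (f ⁻¹ᵁ U) (pbS f E m))

variable (hcomp : (Scheme.Modules.pullbackCongr hjπ).inv.app E ≫
      (Scheme.Modules.pullbackComp j π).inv.app E ≫
        (Scheme.Modules.pullback j).map q ≫ e.hom ≫ ClSub.idealModι (BlowUp.exceptional f J) =
      (Scheme.Modules.pullback f).map u ≫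
        ((Scheme.Modules.pullbackPushforwardAdjunction f).homEquiv _ _).symm
          (SheafOfModules.unitToPushforwardObjUnit f.toRingCatSheafHom))

include hcomp in
theorem val_sigma {U : X.Opens} (m : Sec E U) :
    val (BlowUp.exceptional f J) (sigma (q := q) hjπ e m) = f.app U (toO (appS u U m)) := by
  have h1 : bc j q hjπ ≫ e.hom ≫ ClSub.idealModι (BlowUp.exceptional f J) =
      (Scheme.Modules.pullback f).map u ≫ adj f
          (SheafOfModules.unitToPushforwardObjUnit f.toRingCatSheafHom) := by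
    unfold bc
    simp only [Category.assoc]
    exact hcomp
  have h2 := congr(appS $h1 (f ⁻¹ᵁ U) (pbS f E m))
  have h3 : appS ((Scheme.Modules.pullback f).map u ≫ adj f
          (SheafOfModules.unitToPushforwardObjUnit f.toRingCatSheafHom)) (f ⁻¹ᵁ U) (pbS f E m) =
      (show Sec (Coh.structureModule X') (f ⁻¹ᵁ U) from f.app U (toO (appS u U m))) := by
    rw [appS_comp, appS_pbS, adj_pbS]
    rfl
  exact h2.trans h3

/-- The coordinates of the blow-up. -/
theorem coord_mul {U : X.Opens} {n : ℕ} {b : Fin n → Sec E U} {k : Fin n} {W : X'.Opens}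
    {z : Fin n → Γ(X', W)} (hz : CoordOn (bc j q hjπ) b k W z) (i : Fin n)
    (hcomp : (Scheme.Modules.pullbackCongr hjπ).inv.app E ≫
      (Scheme.Modules.pullbackComp j π).inv.app E ≫
        (Scheme.Modules.pullback j).map q ≫ e.hom ≫ ClSub.idealModι (BlowUp.exceptional f J) =
      (Scheme.Modules.pullback f).map u ≫
        ((Scheme.Modules.pullbackPushforwardAdjunction f).homEquiv _ _).symm
          (SheafOfModules.unitToPushforwardObjUnit f.toRingCatSheafHom)) :
    z i * (f.appLE U W hz.le).hom (toO (appS u U (b k))) =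
      (f.appLE U W hz.le).hom (toO (appS u U (b i))) := by
  have h1 := congrArg (appS e.hom W) (hz.eq i)
  rw [map_smul, appS_res, appS_res] at h1
  have h2 := congrArg (val (BlowUp.exceptional f J)) h1
  have h3 : ∀ l, val (BlowUp.exceptional f J) (res _ hz.le (appS e.hom (f ⁻¹ᵁ U) (sg (bc j q hjπ) b l))) =
      (f.appLE U W hz.le).hom (toO (appS u U (b l))) := by
    intro l
    refine (val_res _ hz.le _).trans ?_
    have h4 := val_sigma (q := q) hjπ e hcomp (b l)
    have h5 : val (BlowUp.exceptional f J) (appS e.hom (f ⁻¹ᵁ U) (sg (bc j q hjπ) b l)) =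
      f.app U (toO (appS u U (b l))) := h4
    rw [h5]
    rfl
  have h6 := val_smul (BlowUp.exceptional f J) (z i)
    (res _ hz.le (appS e.hom (f ⁻¹ᵁ U) (sg (bc j q hjπ) b k)))
  rw [← h3, ← h3]
  exact h6.symm.trans h2

theorem preimage_genLocus (hO1 : IsInv O1) {U : X.Opens} {n : ℕ} (b : Fin n → Sec E U) (k : Fin n) :
    j ⁻¹ᵁ (genLocus (sg q b k)) = genLocus (sigma (q := q) hjπ e (b k)) := by
  have h1 : genLocus (sigma (q := q) hjπ e (b k)) = genLocus (sg (bc j q hjπ) b k) :=
    genLocus_appS e _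
  rw [h1]
  subst hjπ
  rw [sg_bc]
  exact (genLocus_pbS j hO1 (sg q b k)).symm

include hcomp in
theorem genLocus_sigma (hf : IsBlowUp f J) (U : X.affineOpens) (m : Sec E U.1) :
    genLocus (sigma (q := q) hjπ e m) = chart f J U (toO (appS u U.1 m)) := by
  have hv := val_sigma (q := q) hjπ e hcomp m
  ext x'
  rw [SetLike.mem_coe, SetLike.mem_coe, mem_chart_iff]
  constructor
  · intro hx
    obtain ⟨W, hxW, hW⟩ := exists_affine_mem_le _ x' hx
    have hWU : W.1 ≤ f ⁻¹ᵁ U.1 := hW.trans (genLocus_le _)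
    refine ⟨W, hWU, hxW, ?_⟩
    have h1 : Groth.Agent.Fdesc.LocGen.IsGen (Groth.Agent.Fdesc.LocGen.res _ (genLocus_le _)
      (sigma (q := q) hjπ e m)) := isGen_iff.1 (isGen_genLocus (sigma (q := q) hjπ e m))
    have h2 := genOn_of_isGen h1
    rw [val_res, hv] at h2
    have h3 := (h2 W hW).2
    rw [Groth.Agent.Fdesc.LocGen.ores_ores] at h3
    exact h3
  · rintro ⟨W, hWU, hxW, hW⟩
    refine mem_genLocus.2 ⟨W.1, hWU, hxW, ?_⟩
    rw [isGen_iff]
    apply isGen_of_genOn
    have h1 : val (BlowUp.exceptional f J) (res _ hWU (sigma (q := q) hjπ e m)) =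
        (f.appLE U.1 W.1 hWU).hom (toO (appS u U.1 m)) := by
      refine (val_res _ hWU _).trans ?_
      rw [hv]
      rfl
    have h2 : GenOn (BlowUp.exceptional f J) ((f.appLE U.1 W.1 hWU).hom (toO (appS u U.1 m))) :=
      genOn_of_affine (mem_nonZeroDivisors_of_ideal_eq_span hf.1 W _ hW) hW
    rw [← h1] at h2
    exact h2

end K559.BlowPB
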