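import Groth.Agent.RegImm.K559.BlowPB

/-!
# The blow-up of a Koszul-regular section is Koszul-regularly immersed in the projective bundle
-/

set_option autoImplicit false
universe u

open CategoryTheory CategoryTheory.Limits AlgebraicGeometry Opposite TopologicalSpace BlowUp

namespace K559.BlowPBMain

open Groth.Agent.Sga67.Sec Groth.Agent.Sga67.LocBasis Groth.Agent.Sga67.LocBasisStalk
open Groth.Agent.Krr.H487.LocBasisPull Groth.Agent.Krr.H496.GenLocus Groth.Agent.Krr.H496.ProjCrit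
open Groth.Agent.Dix.IdealModCartier Groth.Agent.Divis.BlowChart2
open Groth.Agent.Sga67.BlowPerf
open K559.PBLoc K559.PBRing K559.BlowPB

/-- Surjectivity on sections over an affine open with affine preimage gives a closed immersion. -/
theorem isClosedImmersion_of_app {Y P : Scheme.{u}} (j : Y ⟶ P) {D : P.Opens} (hD : IsAffineOpen D)
    (hjD : IsAffineOpen (j ⁻¹ᵁ D)) (h : Function.Surjective (j.app D).hom) :
    IsClosedImmersion (j ∣_ D) := by
  have : IsAffine (D : Scheme) := hD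
  have : IsAffine (j ⁻¹ᵁ D : Scheme) := hjD
  apply IsClosedImmersion.of_surjective_of_isAffine
  have h1 : D.ι.appLE D ⊤ (top_le_ι D) ≫ (j ∣_ D).appTop =
      j.app D ≫ (j ⁻¹ᵁ D).ι.appLE (j ⁻¹ᵁ D) ⊤ (top_le_ι _) := by
    have h2 : (j ∣_ D).appTop = (j ∣_ D).appLE ⊤ ⊤ le_top := Scheme.Hom.app_eq_appLE _
    have h3 : j.app D = j.appLE D (j ⁻¹ᵁ D) le_rfl := Scheme.Hom.app_eq_appLE _
    rw [h2, h3, Scheme.Hom.appLE_comp_appLE, Scheme.Hom.appLE_comp_appLE]
    simp_rw [morphismRestrict_ι]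
  intro y
  obtain ⟨z, hz⟩ := (ConcreteCategory.bijective_of_isIso
    ((j ⁻¹ᵁ D).ι.appLE (j ⁻¹ᵁ D) ⊤ (top_le_ι _))).2 y
  obtain ⟨w, rfl⟩ := h z
  refine ⟨(D.ι.appLE D ⊤ (top_le_ι D)).hom w, ?_⟩
  have h2 := congr($h1 w)
  exact h2.trans hz

variable {X X' P : Scheme.{u}} {E : X.Modules} {u : E ⟶ Coh.structureModule X}
  {J : X.IdealSheafData} {π : P ⟶ X} {O1 : P.Modules}
  {q : (Scheme.Modules.pullback π).obj E ⟶ O1} {f : X' ⟶ X}
  {j : X' ⟶ P} (hjπ : j ≫ π = f)
  (e : (Scheme.Modules.pullback j).obj O1 ≅ ClSub.idealMod (BlowUp.exceptional f J))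

lemma exists_theta (hf : IsBlowUp f J) (U : X.affineOpens) {a : Γ(X, U.1)} (ha : a ∈ J.ideal U)
    {W : X'.Opens} (hW : W = chart f J U a) (hWU : W ≤ f ⁻¹ᵁ U.1) :
    IsAffineOpen W ∧ (f.appLE U.1 W hWU).hom a ∈ nonZeroDivisors Γ(X', W) ∧
    ∃ θ : ↥(affineAlgebra Γ(X, U.1) (J.ideal U) a) ≃+* Γ(X', W),
      ∀ c : Γ(X, U.1), θ (algebraMap _ _ c) = (f.appLE U.1 W hWU).hom c := by
  subst hW
  exact ⟨isAffineOpen_chart f J U hf ha, appLE_chart_mem_nonZeroDivisors f J U hf ha,
    exists_ringEquiv_chart f J U hf ha⟩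

/-- The local structure of `j` over a chart of the projective bundle. -/
theorem exists_local_chart (hO1 : IsInv O1) (hf : IsBlowUp f J)
    (hcomp : (Scheme.Modules.pullbackCongr hjπ).inv.app E ≫
      (Scheme.Modules.pullbackComp j π).inv.app E ≫
        (Scheme.Modules.pullback j).map q ≫ e.hom ≫ ClSub.idealModι (BlowUp.exceptional f J) =
      (Scheme.Modules.pullback f).map u ≫
        ((Scheme.Modules.pullbackPushforwardAdjunction f).homEquiv _ _).symm
          (SheafOfModules.unitToPushforwardObjUnit f.toRingCatSheafHom))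
    (U : X.affineOpens) {n : ℕ} (b : Fin (n + 1) → Sec E U.1) (k : Fin (n + 1))
    (hc : ChartCond π q b k)
    (hJ : J.ideal U = Ideal.span (Set.range fun i => (toO (appS u U.1 (b i)) : Γ(X, U.1))))
    (hkos : LCI.IsKoszulRegularSeq Γ(X, U.1)
      (List.ofFn fun i => (toO (appS u U.1 (b i)) : Γ(X, U.1)))) :
    IsAffineOpen (genLocus (sg q b k)) ∧ IsClosedImmersion (j ∣_ genLocus (sg q b k)) ∧
    ∃ rs : List Γ(P, genLocus (sg q b k)), rs.length = n ∧
      LCI.IsKoszulRegularSeq Γ(P, genLocus (sg q b k)) rs ∧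
      RingHom.ker (j.app (genLocus (sg q b k))).hom = Ideal.ofList rs := by
  obtain ⟨D, hD⟩ : ∃ D, D = genLocus (sg q b k) := ⟨_, rfl⟩
  rw [← hD]
  obtain ⟨y, hy⟩ := exists_coordOn (s := q) (e := b) (j := k) hD.le
  obtain ⟨hDa, ψ, hψC, hψX⟩ := exists_ringEquiv hO1 hc hD.ge hy
  -- the functions
  let t : Fin (n + 1) → Γ(X, U.1) := fun i => toO (appS u U.1 (b i))
  have htk : t k ∈ J.ideal U := by rw [hJ]; exact Ideal.subset_span ⟨k, rfl⟩
  have hI : J.ideal U = Ideal.span {t k} ⊔ Ideal.span (Set.range fun i => t (k.succAbove i)) := by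
    rw [hJ]
    apply le_antisymm
    · rw [Ideal.span_le]
      rintro _ ⟨i, rfl⟩
      rcases Fin.eq_self_or_eq_succAbove k i with rfl | ⟨i, rfl⟩
      · exact Submodule.mem_sup_left (Ideal.mem_span_singleton_self _)
      · exact Submodule.mem_sup_right (Ideal.subset_span ⟨i, rfl⟩)
    · refine sup_le ?_ (Ideal.span_le.2 ?_)
      · rw [Ideal.span_singleton_le_iff_mem]
        exact Ideal.subset_span ⟨k, rfl⟩
      · rintro _ ⟨i, rfl⟩
        exact Ideal.subset_span ⟨_, rfl⟩
  have hkos' : LCI.IsKoszulRegularSeq Γ(X, U.1) (t k :: List.ofFn fun i => t (k.succAbove i)) := by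
    refine Groth.Agent.Flat2H.KoszulSeq.isKoszulRegularSeq_of_ofList_eq hkos ?_ (by simp)
    rw [Ideal.ofList_cons, ofList_ofFn, ofList_ofFn, ← hI, hJ]
  -- the chart of the blow-up
  have hW : j ⁻¹ᵁ D = chart f J U (t k) := by
    rw [hD, preimage_genLocus hjπ e hO1 b k, genLocus_sigma hjπ e hcomp hf U (b k)]
  have hyπ : D ≤ π ⁻¹ᵁ U.1 := hy.le
  have hWU : j ⁻¹ᵁ D ≤ f ⁻¹ᵁ U.1 := by
    rw [← hjπ, Scheme.Hom.comp_preimage]
    exact j.preimage_mono hyπ
  obtain ⟨hWa, hreg, θ, hθ⟩ := exists_theta hf U htk hW hWU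
  have hz := hy.pull j hjπ (W' := j ⁻¹ᵁ D) le_rfl
  have hmul := fun i => coord_mul hjπ e hz i hcomp
  -- comparison of the presentations
  let p := pres (t k) (fun i => t (k.succAbove i)) hI
  have hp : Function.Surjective p := pres_surjective (t k) (fun i => t (k.succAbove i)) hI
  have happ : ∀ x, (j.appLE D (j ⁻¹ᵁ D) le_rfl).hom x = (j.app D).hom x := by
    intro x
    have : j.appLE D (j ⁻¹ᵁ D) le_rfl = j.app D := by rw [Scheme.Hom.appLE]; simp
    rw [this]
  have hcomm : ∀ F, (j.app D).hom (ψ F) = θ (p F) := by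
    have h1 : ((j.app D).hom.comp ψ.toRingHom) = θ.toRingHom.comp p.toRingHom := by
      apply MvPolynomial.ringHom_ext
      · intro r
        have h2 : p (MvPolynomial.C r) = algebraMap _ _ r := p.commutes r
        change (j.app D).hom (ψ (MvPolynomial.C r)) = θ (p (MvPolynomial.C r))
        rw [h2, hθ, hψC, ← happ]
        have h3 : π.appLE U.1 D hy.le ≫ j.appLE D (j ⁻¹ᵁ D) le_rfl =
            f.appLE U.1 (j ⁻¹ᵁ D) hWU := by
          rw [Scheme.Hom.appLE_comp_appLE]
          simp_rw [hjπ]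
        exact congr($h3 r)
      · intro i
        change (j.app D).hom (ψ (MvPolynomial.X i)) = θ (p (MvPolynomial.X i))
        rw [hψX, ← happ, pres_X]
        apply (mul_cancel_right_mem_nonZeroDivisors hreg).1
        refine (hmul (k.succAbove i)).trans ?_
        rw [← hθ (t k), ← map_mul, mul_comm, algebraMap_mul_frac, hθ]
    intro F
    exact congr($h1 F)
  have hsurj : Function.Surjective (j.app D).hom := by
    intro z
    obtain ⟨F, hF⟩ := hp (θ.symm z)
    exact ⟨ψ F, by rw [hcomm, hF, RingEquiv.apply_symm_apply]⟩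
  obtain ⟨hk1, hk2⟩ := isKoszulRegularSeq_eqs (t k) (fun i => t (k.succAbove i)) hkos'
  have hker := ker_pres (t k) (fun i => t (k.succAbove i)) hI hk2
  refine ⟨hDa, isClosedImmersion_of_app j hDa hWa hsurj,
    (eqs (t k) fun i => t (k.succAbove i)).map ψ, by simp [eqs], ?_, ?_⟩
  · exact (Groth.Agent.Flat2H.KoszulLoc.isKoszulRegularSeq_map_ringEquiv_iff ψ _).2 hk1
  · have h0 : Ideal.ofList ((eqs (t k) fun i => t (k.succAbove i)).map ψ) =
        (Ideal.ofList (eqs (t k) fun i => t (k.succAbove i))).map ψ.toRingHom :=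
      (Ideal.map_ofList ψ.toRingHom _).symm
    rw [h0, ← hker]
    ext z
    obtain ⟨F, rfl⟩ := ψ.surjective z
    rw [RingHom.mem_ker, hcomm]
    have h1 : ψ F ∈ Ideal.map ψ.toRingHom (RingHom.ker p) ↔ F ∈ RingHom.ker p := by
      rw [show Ideal.map ψ.toRingHom (RingHom.ker p) = (RingHom.ker p).comap ψ.symm from
        Ideal.map_comap_of_equiv ψ, Ideal.mem_comap]
      simp
    rw [map_eq_zero_iff _ θ.injective]
    exact h1.symm

/-- The local structure of `j`. -/
theorem exists_local (hE : FlatMod.IsFinLocFree E)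
    (hu : ∀ x : X, ∃ U : X.affineOpens, x ∈ U.1 ∧
      ∃ (n : ℕ) (b : Module.Basis (Fin n) Γ(X, U.1) (E.val.obj (op U.1))),
        LCI.IsKoszulRegularSeq Γ(X, U.1)
          (List.ofFn fun k => ((u.val.app (op U.1)).hom (b k) : Γ(X, U.1))))
    (hJ : ∀ U : X.affineOpens, J.ideal U = @Ideal.span Γ(X, U.1) _
      (Set.range fun s : E.val.obj (op U.1) => ((u.val.app (op U.1)).hom s : Γ(X, U.1))))
    (hP : KRR.IsProjBundle π E O1 q) (hf : IsBlowUp f J)
    (hcomp : (Scheme.Modules.pullbackCongr hjπ).inv.app E ≫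
      (Scheme.Modules.pullbackComp j π).inv.app E ≫
        (Scheme.Modules.pullback j).map q ≫ e.hom ≫ ClSub.idealModι (BlowUp.exceptional f J) =
      (Scheme.Modules.pullback f).map u ≫
        ((Scheme.Modules.pullbackPushforwardAdjunction f).homEquiv _ _).symm
          (SheafOfModules.unitToPushforwardObjUnit f.toRingCatSheafHom)) (p : P) :
    ∃ (U : X.affineOpens) (n : ℕ) (_ : π p ∈ U.1) (b : Fin (n + 1) → Sec E U.1) (D : P.Opens),
      IsLocBasis b ∧ p ∈ D ∧ IsAffineOpen D ∧ IsClosedImmersion (j ∣_ D) ∧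
      ∃ rs : List Γ(P, D), rs.length = n ∧ LCI.IsKoszulRegularSeq Γ(P, D) rs ∧
        RingHom.ker (j.app D).hom = Ideal.ofList rs := by
  have hO1 : IsInv O1 := isInv_iff.2 hP.invertible
  have hq : Epi q := hP.epi
  obtain ⟨U, hpU, m, b, hkos⟩ := hu (π p)
  have hb : IsLocBasis (M := E) (U := U.1) (fun i => (show Sec E U.1 from b i)) :=
    Groth.Agent.Vancyc.H878.OmegaRank.isLocBasis_of_isQCoh
      (Groth.Agent.PerfA.QCohEpi.isQCoh_of_isFinLocFree hE) U.2 b
  obtain ⟨k, hk⟩ := exists_mem_genLocus hO1 q (isLocBasis_pbS π hb) (x := p) hpU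
  obtain ⟨n, rfl⟩ : ∃ n, m = n + 1 := ⟨m - 1, by have := k.2; lia⟩
  let b' : Fin (n + 1) → Sec E U.1 := fun i => (show Sec E U.1 from b i)
  have hJ' : J.ideal U = Ideal.span (Set.range fun i => (toO (appS u U.1 (b' i)) : Γ(X, U.1))) := by
    rw [hJ U]
    apply le_antisymm
    · rw [Ideal.span_le]
      rintro _ ⟨s, rfl⟩
      have h1 := b.sum_repr s
      have h2 : appS u U.1 s = ∑ i, b.repr s i • appS u U.1 (b' i) := by
        conv_lhs => rw [← h1]
        rw [map_sum]
        exact Finset.sum_congr rfl fun i _ => map_smul _ _ _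
      have h3 : toO (appS u U.1 s) = ∑ i, b.repr s i * toO (appS u U.1 (b' i)) := by
        rw [h2]
        have : ∀ (T : Finset (Fin (n + 1))) (c : Fin (n + 1) → Sec (Coh.structureModule X) U.1),
            toO (∑ i ∈ T, c i) = ∑ i ∈ T, toO (c i) := by
          classical
          intro T c
          induction T using Finset.induction_on with
          | empty => exact toO_zero
          | insert a T ha ih => rw [Finset.sum_insert ha, Finset.sum_insert ha, toO_add, ih]
        rw [this]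
        exact Finset.sum_congr rfl fun i _ => toO_smul _ _
      have h4 : toO (appS u U.1 s) ∈ Ideal.span (Set.range fun i =>
          (toO (appS u U.1 (b' i)) : Γ(X, U.1))) := by
        rw [h3]
        exact Ideal.sum_mem _ fun i _ => Ideal.mul_mem_left _ _ (Ideal.subset_span ⟨i, rfl⟩)
      exact h4
    · rw [Ideal.span_le]
      rintro _ ⟨i, rfl⟩
      exact Ideal.subset_span ⟨b' i, rfl⟩
  obtain ⟨h1, h2, rs, h3, h4, h5⟩ := exists_local_chart hjπ e hO1 hf hcomp U b' k
    (chartCond hP hb k) hJ' hkos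
  exact ⟨U, n, hpU, b', _, hb, hk, h1, h2, rs, h3, h4, h5⟩

/-- `j` is a closed immersion. -/
theorem isClosedImmersion (hE : FlatMod.IsFinLocFree E)
    (hu : ∀ x : X, ∃ U : X.affineOpens, x ∈ U.1 ∧
      ∃ (n : ℕ) (b : Module.Basis (Fin n) Γ(X, U.1) (E.val.obj (op U.1))),
        LCI.IsKoszulRegularSeq Γ(X, U.1)
          (List.ofFn fun k => ((u.val.app (op U.1)).hom (b k) : Γ(X, U.1))))
    (hJ : ∀ U : X.affineOpens, J.ideal U = @Ideal.span Γ(X, U.1) _
      (Set.range fun s : E.val.obj (op U.1) => ((u.val.app (op U.1)).hom s : Γ(X, U.1))))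
    (hP : KRR.IsProjBundle π E O1 q) (hf : IsBlowUp f J)
    (hcomp : (Scheme.Modules.pullbackCongr hjπ).inv.app E ≫
      (Scheme.Modules.pullbackComp j π).inv.app E ≫
        (Scheme.Modules.pullback j).map q ≫ e.hom ≫ ClSub.idealModι (BlowUp.exceptional f J) =
      (Scheme.Modules.pullback f).map u ≫
        ((Scheme.Modules.pullbackPushforwardAdjunction f).homEquiv _ _).symm
          (SheafOfModules.unitToPushforwardObjUnit f.toRingCatSheafHom)) : IsClosedImmersion j := by
  choose U n hU b D hb hpD hDa hcl rs h using exists_local hjπ e hE hu hJ hP hf hcomp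
  rw [IsZariskiLocalAtTarget.iff_of_iSup_eq_top (P := @IsClosedImmersion) D
    (top_le_iff.1 fun p _ => Opens.mem_iSup.2 ⟨p, hpD p⟩)]
  exact hcl

/-- `j` is a Koszul-regular immersion, of codimension the rank of `E` minus one. -/
theorem isRegularImmersion (hE : FlatMod.IsFinLocFree E)
    (hu : ∀ x : X, ∃ U : X.affineOpens, x ∈ U.1 ∧
      ∃ (n : ℕ) (b : Module.Basis (Fin n) Γ(X, U.1) (E.val.obj (op U.1))),
        LCI.IsKoszulRegularSeq Γ(X, U.1)
          (List.ofFn fun k => ((u.val.app (op U.1)).hom (b k) : Γ(X, U.1))))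
    (hJ : ∀ U : X.affineOpens, J.ideal U = @Ideal.span Γ(X, U.1) _
      (Set.range fun s : E.val.obj (op U.1) => ((u.val.app (op U.1)).hom s : Γ(X, U.1))))
    (hP : KRR.IsProjBundle π E O1 q) (hf : IsBlowUp f J)
    (hcomp : (Scheme.Modules.pullbackCongr hjπ).inv.app E ≫
      (Scheme.Modules.pullbackComp j π).inv.app E ≫
        (Scheme.Modules.pullback j).map q ≫ e.hom ≫ ClSub.idealModι (BlowUp.exceptional f J) =
      (Scheme.Modules.pullback f).map u ≫
        ((Scheme.Modules.pullbackPushforwardAdjunction f).homEquiv _ _).symm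
          (SheafOfModules.unitToPushforwardObjUnit f.toRingCatSheafHom)) :
    RegImm.IsRegularImmersion .koszul j := by
  have := isClosedImmersion hjπ e hE hu hJ hP hf hcomp
  refine ⟨inferInstance, fun x => ?_⟩
  obtain ⟨U, n, hU, b, D, hb, hpD, hDa, hcl, rs, -, h2, h3⟩ :=
    exists_local hjπ e hE hu hJ hP hf hcomp (j x)
  exact ⟨⟨D, hDa⟩, hpD, hcl, rs, h2, h3⟩

/-- The codimension. -/
theorem isRegularImmersionOfCodim (hE : FlatMod.IsFinLocFree E)
    (hu : ∀ x : X, ∃ U : X.affineOpens, x ∈ U.1 ∧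
      ∃ (n : ℕ) (b : Module.Basis (Fin n) Γ(X, U.1) (E.val.obj (op U.1))),
        LCI.IsKoszulRegularSeq Γ(X, U.1)
          (List.ofFn fun k => ((u.val.app (op U.1)).hom (b k) : Γ(X, U.1))))
    (hJ : ∀ U : X.affineOpens, J.ideal U = @Ideal.span Γ(X, U.1) _
      (Set.range fun s : E.val.obj (op U.1) => ((u.val.app (op U.1)).hom s : Γ(X, U.1))))
    (hP : KRR.IsProjBundle π E O1 q) (hf : IsBlowUp f J)
    (hcomp : (Scheme.Modules.pullbackCongr hjπ).inv.app E ≫
      (Scheme.Modules.pullbackComp j π).inv.app E ≫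
        (Scheme.Modules.pullback j).map q ≫ e.hom ≫ ClSub.idealModι (BlowUp.exceptional f J) =
      (Scheme.Modules.pullback f).map u ≫
        ((Scheme.Modules.pullbackPushforwardAdjunction f).homEquiv _ _).symm
          (SheafOfModules.unitToPushforwardObjUnit f.toRingCatSheafHom))
    (c : ℕ) (hEc : FlatMod.IsFinLocFreeOfRank c E) :
    RegImm.IsRegularImmersionOfCodim .koszul (c - 1) j := by
  have := isClosedImmersion hjπ e hE hu hJ hP hf hcomp
  refine ⟨inferInstance, fun x => ?_⟩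
  obtain ⟨U, n, hU, b, D, hb, hpD, hDa, hcl, rs, h1, h2, h3⟩ :=
    exists_local hjπ e hE hu hJ hP hf hcomp (j x)
  refine ⟨⟨D, hDa⟩, hpD, hcl, rs, ?_, h2, h3⟩
  -- the rank
  obtain ⟨V, hxV, hV⟩ := hEc (π (j x))
  obtain ⟨b', hb'⟩ := nonempty_restrict_iso_iff.1 hV
  obtain ⟨β, -⟩ := exists_stalkBasis hb (π (j x)) hU
  obtain ⟨β', -⟩ := exists_stalkBasis hb' (π (j x)) hxV
  have h4 := Module.finrank_eq_card_basis β
  have h5 := Module.finrank_eq_card_basis β'
  rw [h4, Fintype.card_fin, Fintype.card_fin] at h5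
  lia

end K559.BlowPBMain
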