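import Groth.Agent.RegImm.K559.BlowCech
import Groth.Agent.Krr.H470.ChartInf

/-!
# Sections of the powers of the exceptional ideal on intersections of standard charts

For a blow-up `b : X' ⟶ X` of `J`, an affine open `U` of `X` and generators `a` of `J(U)`, the sections of `(J O_{X'}) ^ n`
over the intersection `W i` of the charts `i : Fin (q + 1) → Fin c` are the fractions `u / (∏ a (i j)) ^ k`,
`u ∈ J ^ (k (q + 1) + n)`.
-/

set_option autoImplicit false

universe u

namespace K559.BlowSec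

open CategoryTheory AlgebraicGeometry BlowUp Groth.Agent.Divis Groth.Agent.Divis.BlowChart
  Groth.Agent.Divis.BlowChart2 Groth.Agent.Krr.H470.ChartInf K559.BlowCech

section Away

variable {X' : Scheme.{u}} {V W : X'.Opens} (hV : IsAffineOpen V) (f : Γ(X', V))

/-- restriction of functions -/
noncomputable abbrev rs (X' : Scheme.{u}) {V W : X'.Opens} (h : W ≤ V) : Γ(X', V) →+* Γ(X', W) :=
  (X'.presheaf.map (homOfLE h).op).hom

lemma rs_rs {V W T : X'.Opens} (h : W ≤ V) (h' : T ≤ W) (x : Γ(X', V)) :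
    rs X' h' (rs X' h x) = rs X' (h'.trans h) x := by
  have h1 : X'.presheaf.map (homOfLE h).op ≫ X'.presheaf.map (homOfLE h').op =
    X'.presheaf.map (homOfLE (h'.trans h)).op := by
      rw [← Functor.map_comp]
      rfl
  exact congr($h1 x)

include hV in
lemma away_surj (hW : W = X'.basicOpen f) (hle : W ≤ V) (s : Γ(X', W)) :
    ∃ (N : ℕ) (g : Γ(X', V)), rs X' hle f ^ N * s = rs X' hle g := by
  subst hW
  have hloc := hV.isLocalization_basicOpen f
  obtain ⟨N, g, hg⟩ := IsLocalization.Away.surj f s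
  refine ⟨N, g, ?_⟩
  rw [mul_comm]
  exact hg

include hV in
lemma away_zero (hW : W = X'.basicOpen f) (hle : W ≤ V) (g : Γ(X', V)) (hg : rs X' hle g = 0) :
    ∃ N : ℕ, f ^ N * g = 0 := by
  subst hW
  have hloc := hV.isLocalization_basicOpen f
  obtain ⟨⟨_, N, rfl⟩, h⟩ := (IsLocalization.map_eq_zero_iff (Submonoid.powers f)
    Γ(X', X'.basicOpen f) g).1 hg
  exact ⟨N, h⟩

end Away

variable {X X' : Scheme.{u}} (b : X' ⟶ X) (J : X.IdealSheafData) (U : X.affineOpens) {c : ℕ}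
  (a : Fin c → Γ(X, U.1))

/-- The intersection of charts. -/
noncomputable abbrev W {q : ℕ} (i : Fin (q + 1) → Fin c) : X'.Opens := ⨅ j, chart b J U (a (i j))

lemma W_le_chart {q : ℕ} (i : Fin (q + 1) → Fin c) (j : Fin (q + 1)) :
    W b J U a i ≤ chart b J U (a (i j)) := iInf_le _ j

lemma W_le {q : ℕ} (i : Fin (q + 1) → Fin c) : W b J U a i ≤ b ⁻¹ᵁ U.1 :=
  (W_le_chart b J U a i 0).trans (chart_le b J U _)

lemma W_mono {q : ℕ} (i : Fin (q + 2) → Fin c) (j : Fin (q + 2)) :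
    W b J U a i ≤ W b J U a (i ∘ j.succAbove) :=
  le_iInf fun l => iInf_le (fun l => chart b J U (a (i l))) (j.succAbove l)

/-- Functions on `U` as functions on `W i`. -/
noncomputable abbrev P {q : ℕ} (i : Fin (q + 1) → Fin c) : Γ(X, U.1) →+* Γ(X', W b J U a i) :=
  pb b U _ (W_le b J U a i)

lemma rs_P {q : ℕ} (i : Fin (q + 2) → Fin c) (j : Fin (q + 2)) (x : Γ(X, U.1)) :
    rs X' (W_mono b J U a i j) (P b J U a (i ∘ j.succAbove) x) = P b J U a i x :=
  map_pb b U _ _ x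

variable (hb : IsBlowUp b J) (ha : J.ideal U = Ideal.span (Set.range a))

/-- The denominator. -/
abbrev pr {q : ℕ} (i : Fin q → Fin c) : Γ(X, U.1) := ∏ j, a (i j)

include ha in
lemma mem_J (k : Fin c) : a k ∈ J.ideal U := by
  rw [ha]
  exact Ideal.subset_span ⟨k, rfl⟩

include hb ha in
lemma isAffineOpen_W {q : ℕ} (i : Fin (q + 1) → Fin c) : IsAffineOpen (W b J U a i) :=
  isAffineOpen_iInf_chart b J U hb (fun j => a (i j)) (fun j => mem_J J U a ha (i j))

include hb ha in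
lemma ideal_W {q : ℕ} (i : Fin (q + 1) → Fin c) (hW : IsAffineOpen (W b J U a i)) (j : Fin (q + 1)) :
    (J.comap b).ideal ⟨W b J U a i, hW⟩ = Ideal.span {P b J U a i (a (i j))} := by
  have h1 := ideal_chart b J U (a (i j)) (isAffineOpen_chart b J U hb (mem_J J U a ha (i j)))
  have h2 := (J.comap b).map_ideal (U := ⟨W b J U a i, hW⟩)
    (V := ⟨chart b J U (a (i j)), isAffineOpen_chart b J U hb (mem_J J U a ha (i j))⟩)
    (W_le_chart b J U a i j)
  rw [← h2, h1, Ideal.map_span, Set.image_singleton]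
  congr 2
  exact map_pb b U _ _ _

include hb ha in
lemma ideal_W_pow {q : ℕ} (i : Fin (q + 1) → Fin c) (hW : IsAffineOpen (W b J U a i)) :
    (J.comap b).ideal ⟨W b J U a i, hW⟩ ^ (q + 1) = Ideal.span {P b J U a i (pr U a i)} := by
  have h1 : (J.comap b).ideal ⟨W b J U a i, hW⟩ ^ (q + 1) =
      ∏ j : Fin (q + 1), Ideal.span {P b J U a i (a (i j))} := by
    rw [Finset.prod_congr rfl fun j _ => (ideal_W b J U a hb ha i hW j).symm, Finset.prod_const,
      Finset.card_univ, Fintype.card_fin]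
  rw [h1, Ideal.prod_span_singleton, pr, map_prod]

include hb ha in
lemma reg_P {q : ℕ} (i : Fin (q + 1) → Fin c) (N : ℕ) (x : Γ(X', W b J U a i))
    (hx : P b J U a i (pr U a i) ^ N * x = 0) : x = 0 := by
  have hW := isAffineOpen_W b J U a hb ha i
  have h1 : ∀ j, P b J U a i (a (i j)) ∈ nonZeroDivisors Γ(X', W b J U a i) := fun j =>
    mem_nonZeroDivisors_of_ideal_eq_span hb.1 ⟨W b J U a i, hW⟩ _ (ideal_W b J U a hb ha i hW j)
  have h2 : P b J U a i (pr U a i) ^ N ∈ nonZeroDivisors Γ(X', W b J U a i) := by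
    rw [pr, map_prod]
    exact Submonoid.pow_mem _ (Submonoid.prod_mem _ fun j _ => h1 j) N
  exact (mem_nonZeroDivisors_iff.1 h2).1 x hx

lemma map_ideal_le {q : ℕ} (i : Fin (q + 1) → Fin c) (hW : IsAffineOpen (W b J U a i)) :
    (J.ideal U).map (P b J U a i) ≤ (J.comap b).ideal ⟨W b J U a i, hW⟩ := by
  exact (Groth.Agent.Divis.IdealComap.ideal_comap J b U ⟨W b J U a i, hW⟩ (W_le b J U a i)).ge

include hb ha in
/-- **(S4)** fractions are sections. -/
theorem exists_section {q : ℕ} (i : Fin (q + 1) → Fin c) (hW : IsAffineOpen (W b J U a i)) (k n : ℕ)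
    (x : Γ(X, U.1)) (hx : x ∈ J.ideal U ^ (k * (q + 1) + n)) :
    ∃ s ∈ (J.comap b).ideal ⟨W b J U a i, hW⟩ ^ n,
      P b J U a i (pr U a i) ^ k * s = P b J U a i x := by
  have h1 : P b J U a i x ∈ (J.comap b).ideal ⟨W b J U a i, hW⟩ ^ (k * (q + 1) + n) := by
    refine Ideal.pow_right_mono (map_ideal_le b J U a i hW) _ ?_
    rw [← Ideal.map_pow]
    exact Ideal.mem_map_of_mem _ hx
  rw [pow_add, mul_comm k, pow_mul, ideal_W_pow b J U a hb ha i hW, Ideal.span_singleton_pow,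
    Ideal.mem_span_singleton_mul] at h1
  exact h1

include hb ha in
lemma exists_quots {q : ℕ} (i : Fin (q + 1) → Fin c) :
    ∃ h : Γ(X', chart b J U (a (i 0))),
      pb b U _ (chart_le b J U (a (i 0))) (pr U a i) =
        pb b U _ (chart_le b J U (a (i 0))) (a (i 0)) ^ (q + 1) * h ∧
      W b J U a i = X'.basicOpen h := by
  have hJ := mem_J J U a ha
  choose h hh using fun j => exists_quot b J U hb (hJ (i 0)) (hJ (i j))
  refine ⟨∏ j, h j, ?_, iInf_chart b J U hb (fun j => a (i j)) (fun j => hJ (i j)) h hh⟩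
  rw [map_prod, Finset.prod_congr rfl fun j _ => hh j, Finset.prod_mul_distrib, Finset.prod_const,
    Finset.card_univ, Fintype.card_fin]

include hb ha in
/-- **(S3)** sections are fractions. -/
theorem exists_numerator {q : ℕ} (i : Fin (q + 1) → Fin c) (hW : IsAffineOpen (W b J U a i)) (n : ℕ)
    (s : Γ(X', W b J U a i)) (hs : s ∈ (J.comap b).ideal ⟨W b J U a i, hW⟩ ^ n) :
    ∃ (k : ℕ) (x : Γ(X, U.1)), x ∈ J.ideal U ^ (k * (q + 1) + n) ∧
      P b J U a i (pr U a i) ^ k * s = P b J U a i x := by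
  have hJ := mem_J J U a ha
  -- the case `n = 0`
  have key : ∀ s : Γ(X', W b J U a i), ∃ (k : ℕ) (x : Γ(X, U.1)), x ∈ J.ideal U ^ (k * (q + 1)) ∧
      P b J U a i (pr U a i) ^ k * s = P b J U a i x := by
    intro s
    obtain ⟨h, hh, hWh⟩ := exists_quots b J U a hb ha i
    have hA := isAffineOpen_chart b J U hb (hJ (i 0))
    obtain ⟨N, g, hg⟩ := away_surj hA h hWh (W_le_chart b J U a i 0) s
    obtain ⟨M, m, hm, hgm⟩ := exists_pow_mul_eq_appLE b J U hb (hJ (i 0)) g
    have e1 : ∀ x, rs X' (W_le_chart b J U a i 0) (pb b U _ (chart_le b J U (a (i 0))) x) =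
        P b J U a i x := fun x => map_pb b U _ _ x
    have hh' : P b J U a i (pr U a i) = P b J U a i (a (i 0)) ^ (q + 1) *
        rs X' (W_le_chart b J U a i 0) h := by
      rw [← e1, hh, map_mul, map_pow, e1]
    have hgm' : P b J U a i (a (i 0)) ^ M * rs X' (W_le_chart b J U a i 0) g = P b J U a i m := by
      rw [← e1, ← e1, ← map_pow, ← map_mul]
      exact congrArg _ hgm
    have hpr : P b J U a i (pr U a i) = P b J U a i (a (i 0)) *
        P b J U a i (∏ j : Fin q, a (i j.succ)) := by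
      rw [pr, Fin.prod_univ_succ, map_mul]
    refine ⟨N + M, a (i 0) ^ ((q + 1) * N) * m * (∏ j : Fin q, a (i j.succ)) ^ M, ?_, ?_⟩
    · have e : (N + M) * (q + 1) = (q + 1) * N + M + M * q := by ring
      rw [e, pow_add, pow_add]
      refine Ideal.mul_mem_mul (Ideal.mul_mem_mul (Ideal.pow_mem_pow (hJ _) _) hm) ?_
      rw [ha]
      exact prod_mem (f := a) (fun j : Fin q => i j.succ) M
    · rw [map_mul, map_mul, map_pow, map_pow, ← hgm', ← hg]
      calc P b J U a i (pr U a i) ^ (N + M) * s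
          = P b J U a i (pr U a i) ^ N * P b J U a i (pr U a i) ^ M * s := by rw [pow_add]
        _ = (P b J U a i (a (i 0)) ^ (q + 1) * rs X' (W_le_chart b J U a i 0) h) ^ N *
            (P b J U a i (a (i 0)) * P b J U a i (∏ j : Fin q, a (i j.succ))) ^ M * s := by
            rw [← hh', ← hpr]
        _ = _ := by ring
  rw [ideal_W b J U a hb ha i hW 0, Ideal.span_singleton_pow, Ideal.mem_span_singleton'] at hs
  obtain ⟨s', rfl⟩ := hs
  obtain ⟨k, x, hx, hxs⟩ := key s'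
  refine ⟨k, x * a (i 0) ^ n, ?_, ?_⟩
  · rw [pow_add]
    exact Ideal.mul_mem_mul hx (Ideal.pow_mem_pow (hJ _) _)
  · rw [map_mul, map_pow, ← hxs]
    ring

include hb ha in
/-- **(S5)** functions on `U` vanishing on `W i`. -/
theorem exists_pow_mul_eq_zero {q : ℕ} (i : Fin (q + 1) → Fin c) (x : Γ(X, U.1))
    (hx : P b J U a i x = 0) : ∃ l : ℕ, pr U a i ^ l * x = 0 := by
  have hJ := mem_J J U a ha
  obtain ⟨h, hh, hWh⟩ := exists_quots b J U a hb ha i
  have hA := isAffineOpen_chart b J U hb (hJ (i 0))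
  have e1 : ∀ x, rs X' (W_le_chart b J U a i 0) (pb b U _ (chart_le b J U (a (i 0))) x) =
      P b J U a i x := fun x => map_pb b U _ _ x
  obtain ⟨N, hN⟩ := away_zero hA h hWh (W_le_chart b J U a i 0)
    (pb b U _ (chart_le b J U (a (i 0))) x) (by rw [e1, hx])
  have h1 : pb b U _ (chart_le b J U (a (i 0))) (pr U a i ^ N * x) = 0 := by
    rw [map_mul, map_pow, hh, mul_pow, mul_assoc, hN, mul_zero]
  obtain ⟨θ, hθ⟩ := exists_ringEquiv_chart b J U hb (hJ (i 0))
  have h2 : θ (algebraMap _ _ (pr U a i ^ N * x)) = 0 := by rw [hθ]; exact h1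
  rw [map_eq_zero_iff θ θ.injective] at h2
  have h3 : algebraMap Γ(X, U.1) (Localization.Away (a (i 0))) (pr U a i ^ N * x) = 0 :=
    congrArg Subtype.val h2
  obtain ⟨⟨_, M, rfl⟩, h4⟩ := (IsLocalization.map_eq_zero_iff (Submonoid.powers (a (i 0)))
    (Localization.Away (a (i 0))) _).1 h3
  have h5 : a (i 0) ^ M * (pr U a i ^ N * x) = 0 := h4
  refine ⟨M + N, ?_⟩
  have hpr : pr U a i = a (i 0) * ∏ j : Fin q, a (i j.succ) := by
    rw [pr, Fin.prod_univ_succ]
  calc pr U a i ^ (M + N) * x = pr U a i ^ M * (pr U a i ^ N * x) := by rw [pow_add, mul_assoc]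
    _ = (∏ j : Fin q, a (i j.succ)) ^ M * (a (i 0) ^ M * (pr U a i ^ N * x)) := by
        rw [show pr U a i ^ M = (∏ j : Fin q, a (i j.succ)) ^ M * a (i 0) ^ M by
          rw [hpr, mul_pow, mul_comm]]
        ring
    _ = 0 := by rw [h5, mul_zero]

include hb ha in
/-- **Cocycles.** -/
theorem exists_t {n : ℕ} (hEx : Ex a n) {q : ℕ} (hW : ∀ i : Fin (q + 1) → Fin c, IsAffineOpen (W b J U a i))
    (s : ∀ i : Fin (q + 1) → Fin c, Γ(X', W b J U a i))
    (hs : ∀ i, s i ∈ (J.comap b).ideal ⟨W b J U a i, hW i⟩ ^ n)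
    (hcoc : ∀ τ : Fin (q + 2) → Fin c,
      ∑ j : Fin (q + 2), (-1 : ℤ) ^ (j : ℕ) • rs X' (W_mono b J U a τ j) (s (τ ∘ j.succAbove)) = 0) :
    ∃ (k : ℕ) (t : (Fin q → Fin c) → Γ(X, U.1)), (∀ σ, t σ ∈ J.ideal U ^ (k * q + n)) ∧
      ∀ i, P b J U a i (pr U a i) ^ k * s i = P b J U a i (dk a k t i) := by
  have hJ : J.ideal U = JJ a := ha
  choose k₀ x₀ hx₀ hxs₀ using fun i => exists_numerator b J U a hb ha i (hW i) n (s i) (hs i)
  -- a uniform exponent
  let k : ℕ := ∑ i, k₀ i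
  have hk : ∀ i, k₀ i ≤ k := fun i => Finset.single_le_sum (f := k₀) (fun _ _ => Nat.zero_le _)
    (Finset.mem_univ i)
  let x : (Fin (q + 1) → Fin c) → Γ(X, U.1) := fun i => pr U a i ^ (k - k₀ i) * x₀ i
  have hx : ∀ i, x i ∈ JJ a ^ (k * (q + 1) + n) := by
    intro i
    refine BlowCech.mul_mem (prod_mem i (k - k₀ i)) (hJ ▸ hx₀ i) (le_of_eq ?_)
    obtain ⟨m, hm⟩ := Nat.exists_eq_add_of_le (hk i)
    rw [hm, Nat.add_sub_cancel_left]
    ring
  have hxs : ∀ i, P b J U a i (pr U a i) ^ k * s i = P b J U a i (x i) := by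
    intro i
    change _ = P b J U a i (pr U a i ^ (k - k₀ i) * x₀ i)
    rw [map_mul, map_pow, ← hxs₀, ← mul_assoc, ← pow_add, Nat.sub_add_cancel (hk i)]
  -- the differential vanishes on `W τ`
  have hd : ∀ τ : Fin (q + 2) → Fin c, P b J U a τ (dk a k x τ) = 0 := by
    intro τ
    have h1 := congrArg (fun z => P b J U a τ (pr U a τ) ^ k * z) (hcoc τ)
    simp only [mul_zero, Finset.mul_sum] at h1
    rw [← h1, dk_def, map_sum]
    refine Finset.sum_congr rfl fun j _ => ?_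
    have h2 : P b J U a τ (pr U a τ) = P b J U a τ (a (τ j)) *
        P b J U a τ (pr U a (τ ∘ j.succAbove)) := by
      rw [pr, Fin.prod_univ_succAbove (fun l => a (τ l)) j, map_mul]
      rfl
    have h3 : P b J U a τ (x (τ ∘ j.succAbove)) = P b J U a τ (pr U a (τ ∘ j.succAbove)) ^ k *
        rs X' (W_mono b J U a τ j) (s (τ ∘ j.succAbove)) := by
      rw [← rs_P, ← hxs, map_mul, map_pow, rs_P]
    rw [map_mul, map_mul, map_pow, map_pow, map_neg, map_one, h3, h2, zsmul_eq_mul]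
    push_cast
    ring
  choose l₀ hl₀ using fun τ => exists_pow_mul_eq_zero b J U a hb ha τ (dk a k x τ) (hd τ)
  let l : ℕ := ∑ τ, l₀ τ
  have hl : ∀ τ, pr U a τ ^ l * dk a k x τ = 0 := by
    intro τ
    have hle : l₀ τ ≤ l := Finset.single_le_sum (f := l₀) (fun _ _ => Nat.zero_le _)
      (Finset.mem_univ τ)
    rw [← Nat.sub_add_cancel hle, pow_add, mul_assoc, hl₀, mul_zero]
  obtain ⟨l', t, ht, hts⟩ := hEx.2 q (k + l) (fun i => pr U a i ^ l * x i) (fun i => by
      refine BlowCech.mul_mem (prod_mem i l) (hx i) (le_of_eq ?_)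
      ring) (fun τ => by
      rw [dk_add]
      exact hl τ)
  refine ⟨k + l + l', t, fun σ => hJ ▸ ht σ, fun i => ?_⟩
  rw [hts, map_mul, map_mul, map_pow, map_pow, ← hxs]
  ring

end K559.BlowSec
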