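import Groth.Agent.RegImm.K559.ConSeq
import Groth.Agent.Ega3B.FlatRestrict

/-!
# Locally split conormal sequences: the minimal generators of the bigger ideal
-/

set_option autoImplicit false
universe u

open CategoryTheory CategoryTheory.Limits AlgebraicGeometry Opposite TopologicalSpace
open Groth.Agent.Sga67.KosStalk Groth.Agent.Sga67.KosImm Groth.Agent.Sga67.KosConormal
open K559.ConSt K559.Koszul K559.StIdeal K559.ConSeq
open Groth.Agent.Ega3B.FlatRestrict (stalkEquiv stalkEquiv_germ stalkEquiv_smul)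

namespace K559.ConSplit

variable {X Y Z : Scheme.{u}}

/-- A local retraction induces a retraction on the stalk. -/
theorem exists_retraction {M N : Z.Modules} (φ : M ⟶ N) (U : Z.Opens) (z : Z) (hz : z ∈ U)
    (ρ : (Scheme.Modules.restrictFunctor U.ι).obj N ⟶ (Scheme.Modules.restrictFunctor U.ι).obj M)
    (hρ : (Scheme.Modules.restrictFunctor U.ι).map φ ≫ ρ = 𝟙 _) :
    ∃ r : StM N z →+ StM M z, (∀ (a : Z.presheaf.stalk z) (n : StM N z), r (a • n) = a • r n) ∧
      ∀ m, r (stM φ z m) = m := by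
  let x : (U : Scheme) := ⟨z, hz⟩
  let eN : StM (N.restrict U.ι) x ≃+ StM N z := stalkEquiv U.ι N x
  let eM : StM (M.restrict U.ι) x ≃+ StM M z := stalkEquiv U.ι M x
  have heN : ∀ (r : Z.presheaf.stalk z) m, eN ((U.ι.stalkMap x).hom r • m) = r • eN m :=
    fun r m => stalkEquiv_smul U.ι N x r m
  have heM : ∀ (r : Z.presheaf.stalk z) m, eM ((U.ι.stalkMap x).hom r • m) = r • eM m :=
    fun r m => stalkEquiv_smul U.ι M x r m
  have key : ∀ m, eN (stM ((Scheme.Modules.restrictFunctor U.ι).map φ) x m) = stM φ z (eM m) := by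
    intro m
    obtain ⟨V, -, hV, m, rfl⟩ := exists_gm _ (U := ⊤) (Opens.mem_top x) m
    have h1 : eM (gm _ hV m) = gm M (show z ∈ U.ι ''ᵁ V from ⟨x, hV, rfl⟩) m :=
      stalkEquiv_germ U.ι M x V hV m
    have h2 : stM ((Scheme.Modules.restrictFunctor U.ι).map φ) x (gm _ hV m) =
        gm (N.restrict U.ι) hV (ap ((Scheme.Modules.restrictFunctor U.ι).map φ) V m) := stM_gm _ hV m
    have h3 : eN (gm (N.restrict U.ι) hV (ap ((Scheme.Modules.restrictFunctor U.ι).map φ) V m)) =
        gm N (show z ∈ U.ι ''ᵁ V from ⟨x, hV, rfl⟩)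
          (ap ((Scheme.Modules.restrictFunctor U.ι).map φ) V m) :=
      stalkEquiv_germ U.ι N x V hV _
    refine (congrArg eN h2).trans (h3.trans ?_)
    rw [h1]
    exact (stM_gm φ (show z ∈ U.ι ''ᵁ V from ⟨x, hV, rfl⟩) m).symm
  refine ⟨eM.toAddMonoidHom.comp ((stM ρ x).toAddMonoidHom.comp eN.symm.toAddMonoidHom), ?_, ?_⟩
  · intro a n
    change eM (stM ρ x (eN.symm (a • n))) = a • eM (stM ρ x (eN.symm n))
    have h1 : eN.symm (a • n) = (U.ι.stalkMap x).hom a • eN.symm n := by
      rw [AddEquiv.symm_apply_eq, heN, AddEquiv.apply_symm_apply]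
    rw [h1, map_smul, heM]
  · intro m
    change eM (stM ρ x (eN.symm (stM φ z m))) = m
    have h1 : eN.symm (stM φ z m) = stM ((Scheme.Modules.restrictFunctor U.ι).map φ) x (eM.symm m) := by
      rw [AddEquiv.symm_apply_eq, key, AddEquiv.apply_symm_apply]
    have h2 : stM ρ x (stM ((Scheme.Modules.restrictFunctor U.ι).map φ) x (eM.symm m)) =
        eM.symm m := by
      have h3 := stM_comp ((Scheme.Modules.restrictFunctor U.ι).map φ) ρ x (eM.symm m)
      rw [hρ] at h3
      refine h3.symm.trans ?_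
      obtain ⟨V, -, hV, m, hm⟩ := exists_gm _ (U := ⊤) (Opens.mem_top x) (eM.symm m)
      rw [← hm]
      exact stM_gm _ hV m
    rw [h1, h2, AddEquiv.apply_symm_apply]

/-- Semilinear lifting of elements of `𝔟 • ⊤`. -/
lemma exists_lift_smul {R S E T : Type u} [CommRing R] [CommRing S] [AddCommGroup E] [Module R E]
    [AddCommGroup T] [Module S T] (π : R →+* S) (hπ : Function.Surjective π) (c : E →+ T)
    (hc : Function.Surjective c) (hcs : ∀ (a : R) (e : E), c (a • e) = π a • c e) (𝔟 : Ideal S)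
    (t : T) (ht : t ∈ 𝔟 • (⊤ : Submodule S T)) :
    ∃ e ∈ (𝔟.comap π) • (⊤ : Submodule R E), c e = t := by
  induction ht using Submodule.smul_induction_on' with
  | smul b hb n _ =>
    obtain ⟨a, rfl⟩ := hπ b
    obtain ⟨e, rfl⟩ := hc n
    exact ⟨a • e, Submodule.smul_mem_smul hb trivial, hcs a e⟩
  | add x _ y _ hx hy =>
    obtain ⟨e, he, rfl⟩ := hx
    obtain ⟨f, hf, rfl⟩ := hy
    exact ⟨e + f, add_mem he hf, map_add _ _ _⟩

lemma map_smul_mem {R S E T : Type u} [CommRing R] [CommRing S] [AddCommGroup E] [Module R E]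
    [AddCommGroup T] [Module S T] (π : R →+* S) (c : E →+ T)
    (hcs : ∀ (a : R) (e : E), c (a • e) = π a • c e) (𝔞 : Ideal R)
    (e : E) (he : e ∈ 𝔞 • (⊤ : Submodule R E)) : c e ∈ (𝔞.map π) • (⊤ : Submodule S T) := by
  induction he using Submodule.smul_induction_on' with
  | smul b hb n _ =>
    rw [hcs]
    exact Submodule.smul_mem_smul (Ideal.mem_map_of_mem _ hb) trivial
  | add x _ y _ hx hy =>
    rw [map_add]
    exact add_mem hx hy

section

variable (i : Y ⟶ X) [IsPreimmersion i] [QuasiCompact i]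

omit [IsPreimmersion i] in
lemma vx_mem_of_mem (y : Y) (𝔞 : Ideal (X.presheaf.stalk (i y)))
    (e : StM (ClSub.idealMod i.ker) (i y))
    (he : e ∈ 𝔞 • (⊤ : Submodule (X.presheaf.stalk (i y)) (StM (ClSub.idealMod i.ker) (i y)))) :
    vx i.ker (i y) e ∈ 𝔞 * kr i y := by
  induction he using Submodule.smul_induction_on' with
  | smul b hb n _ =>
    rw [map_smul, smul_eq_mul]
    exact Ideal.mul_mem_mul hb (stalkMap_vx i y n)
  | add x _ y _ hx hy =>
    rw [map_add]
    exact add_mem hx hy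

lemma mem_of_vx_mem (y : Y) (𝔞 : Ideal (X.presheaf.stalk (i y)))
    (e : StM (ClSub.idealMod i.ker) (i y)) (he : vx i.ker (i y) e ∈ 𝔞 * kr i y) :
    e ∈ 𝔞 • (⊤ : Submodule (X.presheaf.stalk (i y)) (StM (ClSub.idealMod i.ker) (i y))) := by
  have key : ∀ t ∈ 𝔞 * kr i y, ∀ e : StM (ClSub.idealMod i.ker) (i y),
      vx i.ker (i y) e = t → e ∈ 𝔞 • (⊤ : Submodule (X.presheaf.stalk (i y)) _) := by
    intro t ht
    induction ht using Submodule.mul_induction_on' with
    | mem_mul_mem a ha b hb =>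
      intro e he
      obtain ⟨e', he'⟩ := exists_vx_eq i y b hb
      have : e = a • e' := by
        apply vx_injective
        rw [map_smul, he', he, smul_eq_mul]
      rw [this]
      exact Submodule.smul_mem_smul ha trivial
    | add a ha b hb iha ihb =>
      intro e he
      obtain ⟨e1, he1⟩ := exists_vx_eq i y a (Ideal.mul_le_right ha)
      obtain ⟨e2, he2⟩ := exists_vx_eq i y b (Ideal.mul_le_right hb)
      have : e = e1 + e2 := by
        apply vx_injective
        rw [map_add, he, he1, he2]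
      rw [this]
      exact add_mem (iha e1 he1) (ihb e2 he2)
  exact key _ he e rfl

end

variable {i : Y ⟶ X} {j : Z ⟶ Y}
  [IsPreimmersion i] [IsPreimmersion j] [QuasiCompact i] [QuasiCompact j]

/-- The kernel of the class map to `j^* N`. -/
lemma vx_mem_of_cn_cl_eq_zero (z : Z) (e : StM (ClSub.idealMod i.ker) (i (j z)))
    (he : cn j (Omega.conormal i) z (cl i (j z) e) = 0) :
    vx i.ker (i (j z)) e ∈ kr i (j z) * krc i j z := by
  have h1 := cn_ker j _ z _ he
  obtain ⟨f, hf, hfe⟩ := exists_lift_smul (i.stalkMap (j z)).hom (i.stalkMap_surjective (j z))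
    (cl i (j z)) (cl_surjective i (j z)) (cl_smul i (j z)) (kr j z) _ h1
  have h2 := vx_mem_of_mem i (j z) (krc i j z) f hf
  have h3 : cl i (j z) (e - f) = 0 := by rw [map_sub, hfe, sub_self]
  rw [cl_eq_zero_iff, map_sub] at h3
  have h4 : vx i.ker (i (j z)) e - vx i.ker (i (j z)) f ∈ kr i (j z) * krc i j z :=
    Ideal.mul_mono_right (kr_le_krc i j z) h3
  rw [mul_comm] at h2
  have := add_mem h4 h2
  rwa [sub_add_cancel] at this

variable {φ₁ : (Scheme.Modules.pullback j).obj (Omega.conormal i) ⟶ Omega.conormal (j ≫ i)}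
  (hφ₁ : OmegaSh.IsConormalMap (j ≫ i) i (𝟙 X) j φ₁)

omit [IsPreimmersion i] [IsPreimmersion j] [QuasiCompact i] [QuasiCompact j] in
lemma krc_le_maximalIdeal (z : Z) :
    krc i j z ≤ IsLocalRing.maximalIdeal (X.presheaf.stalk (i (j z))) := by
  apply IsLocalRing.le_maximalIdeal
  intro h
  have h10 : (1 : X.presheaf.stalk (i (j z))) ∈ krc i j z := by rw [h]; trivial
  rw [Ideal.mem_comap, map_one, RingHom.mem_ker, map_one] at h10
  exact one_ne_zero h10

/-- Lifting along a retraction. -/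
lemma exists_lift_of_retraction {R S E T N : Type u} [CommRing R] [CommRing S] [AddCommGroup E]
    [Module R E] [AddCommGroup T] [Module S T] [AddCommGroup N] [Module S N]
    (π : R →+* S) (hπ : Function.Surjective π) (c : E →+ T)
    (hc : Function.Surjective c) (hcs : ∀ (a : R) (e : E), c (a • e) = π a • c e)
    (φ : T → N) (r : N →+ T) (hr : ∀ (a : S) n, r (a • n) = a • r n) (hrφ : ∀ m, r (φ m) = m)
    (𝔟 : Ideal S) (e : E) (he : φ (c e) ∈ 𝔟 • (⊤ : Submodule S N)) :
    ∃ f ∈ (𝔟.comap π) • (⊤ : Submodule R E), c f = c e := by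
  apply exists_lift_smul π hπ c hc hcs 𝔟
  rw [← hrφ (c e)]
  have h6 := map_smul_mem (RingHom.id S) r hr 𝔟 _ he
  rwa [Ideal.map_id] at h6

/-- The class in `j^* N`. -/
noncomputable def cc (z : Z) : StM (ClSub.idealMod i.ker) (i (j z)) →+
    StM ((Scheme.Modules.pullback j).obj (Omega.conormal i)) z :=
  (cn j (Omega.conormal i) z).comp (cl i (j z))

/-- The composite of the maps of local rings. -/
noncomputable def πc (i : Y ⟶ X) (j : Z ⟶ Y) (z : Z) :
    X.presheaf.stalk (i (j z)) →+* Z.presheaf.stalk z :=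
  (j.stalkMap z).hom.comp (i.stalkMap (j z)).hom

omit [IsPreimmersion i] [IsPreimmersion j] [QuasiCompact i] [QuasiCompact j] in
lemma cc_smul (z : Z) (a : X.presheaf.stalk (i (j z))) (e : StM (ClSub.idealMod i.ker) (i (j z))) :
    cc (i := i) (j := j) z (a • e) = πc i j z a • cc z e := by
  change cn j (Omega.conormal i) z (cl i (j z) (a • e)) = _
  rw [cl_smul, cn_smul]
  rfl

omit [QuasiCompact i] [QuasiCompact j] in
lemma πc_surjective (z : Z) : Function.Surjective (πc i j z) :=
  (j.stalkMap_surjective z).comp (i.stalkMap_surjective (j z))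

omit [QuasiCompact i] [QuasiCompact j] in
lemma cc_surjective (z : Z) : Function.Surjective (cc (i := i) (j := j) z) := by
  intro t
  obtain ⟨t, rfl⟩ := cn_surjective j (Omega.conormal i) z t
  obtain ⟨e, rfl⟩ := cl_surjective i (j z) t
  exact ⟨e, rfl⟩

omit [IsPreimmersion i] [IsPreimmersion j] [QuasiCompact i] [QuasiCompact j] in
lemma comap_πc (z : Z) : (IsLocalRing.maximalIdeal (Z.presheaf.stalk z)).comap (πc i j z) =
    IsLocalRing.maximalIdeal (X.presheaf.stalk (i (j z))) := by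
  have hloc : IsLocalHom (πc i j z) := RingHom.isLocalHom_comp _ _
  exact ((IsLocalRing.local_hom_TFAE (πc i j z)).out 0 4).1 hloc

omit [IsPreimmersion j] [QuasiCompact j] [IsPreimmersion i] in
/-- The class in the conormal module of `Z` of an element of `𝔪 J`. -/
lemma cl_mem_of_mem (z : Z) [IsPreimmersion (j ≫ i)] [QuasiCompact (j ≫ i)]
    (e' : StM (ClSub.idealMod (j ≫ i).ker) ((j ≫ i) z))
    (he' : vx (j ≫ i).ker ((j ≫ i) z) e' ∈
      IsLocalRing.maximalIdeal (X.presheaf.stalk ((j ≫ i) z)) * kr (j ≫ i) z) :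
    cl (j ≫ i) z e' ∈ (IsLocalRing.maximalIdeal (Z.presheaf.stalk z)) •
      (⊤ : Submodule (Z.presheaf.stalk z) (StM (Omega.conormal (j ≫ i)) z)) := by
  have h2 := mem_of_vx_mem (j ≫ i) z _ e' he'
  have h4 := map_smul_mem ((j ≫ i).stalkMap z).hom (cl (j ≫ i) z) (cl_smul (j ≫ i) z) _ e' h2
  refine Submodule.smul_mono_left ?_ h4
  have hloc : IsLocalHom ((j ≫ i).stalkMap z).hom := inferInstance
  exact ((IsLocalRing.local_hom_TFAE ((j ≫ i).stalkMap z).hom).out 0 2).1 hloc

include hφ₁ in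
/-- If the first map of the conormal sequence has a retraction at `z` then an element of the ideal
of `Y` which lies in `𝔪 J` lies in `𝔪 I`. -/
theorem mem_of_retraction (z : Z) (r : StM (Omega.conormal (j ≫ i)) z →+
      StM ((Scheme.Modules.pullback j).obj (Omega.conormal i)) z)
    (hr : ∀ (a : Z.presheaf.stalk z) n, r (a • n) = a • r n)
    (hrφ : ∀ m, r (stM φ₁ z m) = m) (w : X.presheaf.stalk (i (j z))) (hw : w ∈ kr i (j z))
    (hw' : w ∈ IsLocalRing.maximalIdeal (X.presheaf.stalk (i (j z))) * krc i j z) :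
    w ∈ IsLocalRing.maximalIdeal (X.presheaf.stalk (i (j z))) * kr i (j z) := by
  obtain ⟨e, rfl⟩ := exists_vx_eq i (j z) w hw
  obtain ⟨e', he'⟩ := exists_vx_eq (j ≫ i) z (vx i.ker (i (j z)) e) (by
    refine (stalkMap_comp_apply i j z _).trans ?_
    rw [stalkMap_vx, map_zero])
  have h1 : stM φ₁ z (cc z e) = cl (j ≫ i) z e' := stM_φ₁ hφ₁ z e e' he'
  have h3 : cl (j ≫ i) z e' ∈ (IsLocalRing.maximalIdeal (Z.presheaf.stalk z)) •
      (⊤ : Submodule (Z.presheaf.stalk z) (StM (Omega.conormal (j ≫ i)) z)) := by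
    apply cl_mem_of_mem
    rw [he', kr_comp]
    exact hw'
  rw [← h1] at h3
  obtain ⟨f, hf, hfe⟩ : ∃ f ∈ ((IsLocalRing.maximalIdeal (Z.presheaf.stalk z)).comap (πc i j z)) •
      (⊤ : Submodule (X.presheaf.stalk (i (j z))) (StM (ClSub.idealMod i.ker) (i (j z)))),
      cc (i := i) (j := j) z f = cc z e :=
    exists_lift_of_retraction (πc i j z) (πc_surjective z) (cc z)
      (cc_surjective z) (cc_smul z) (stM φ₁ z) r hr hrφ
      (IsLocalRing.maximalIdeal (Z.presheaf.stalk z)) e h3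
  rw [comap_πc] at hf
  have h7 := vx_mem_of_mem i (j z) _ f hf
  have h8 : vx i.ker (i (j z)) (e - f) ∈ kr i (j z) * krc i j z := by
    apply vx_mem_of_cn_cl_eq_zero
    have : cc (i := i) (j := j) z (e - f) = 0 := by rw [map_sub, hfe, sub_self]
    exact this
  have h11 : vx i.ker (i (j z)) (e - f) ∈
      IsLocalRing.maximalIdeal (X.presheaf.stalk (i (j z))) * kr i (j z) := by
    rw [mul_comm]
    exact Ideal.mul_mono_right (krc_le_maximalIdeal z) h8
  rw [map_sub] at h11
  have := add_mem h11 h7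
  rwa [sub_add_cancel] at this

end K559.ConSplit
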