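import Groth.Agent.Sga67.KosConormal
import Groth.Agent.Dcoh.StalkMod
import Groth.Agent.Smoothlim.ConormalRes
import Groth.Prelude.Def_Omega3

/-!
# Stalks of conormal sheaves and of the canonical maps between them
-/

set_option autoImplicit false
universe u

open CategoryTheory CategoryTheory.Limits AlgebraicGeometry Opposite TopologicalSpace
open Groth.Agent.Sga67.KosStalk Groth.Agent.Sga67.KosImm Groth.Agent.Sga67.KosConormal

namespace K559.ConSt

variable {X Y Z : Scheme.{u}}

section One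

variable (i : Y ⟶ X)

/-- Functions vanishing on `Y` are the sections of the ideal module. -/
theorem app_eq_zero_iff [QuasiCompact i] (U : X.Opens) (a : Γ(X, U)) :
    i.app U a = 0 ↔ ∃ s : SM (ClSub.idealMod i.ker) U, vl i.ker s = a := by
  rw [Groth.Agent.Smoothlim.ConormalRes.app_eq_zero_iff_imageι]
  exact (Groth.Agent.PerfA.IdealModule.exact_app i.ker U) a

theorem stalkMap_vx [QuasiCompact i] (y : Y) (e : StM (ClSub.idealMod i.ker) (i y)) :
    i.stalkMap y (vx i.ker (i y) e) = 0 := by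
  obtain ⟨U, -, hU, s, rfl⟩ := exists_gm _ (U := ⊤) (Opens.mem_top (i y)) e
  rw [vx_gm, stalkMap_gO, (app_eq_zero_iff i U _).2 ⟨s, rfl⟩, map_zero]

theorem exists_vx_eq [QuasiCompact i] [IsPreimmersion i] (y : Y) (t : X.presheaf.stalk (i y))
    (ht : i.stalkMap y t = 0) : ∃ e : StM (ClSub.idealMod i.ker) (i y), vx i.ker (i y) e = t := by
  obtain ⟨U, hU, a, rfl⟩ := TopCat.Presheaf.exists_germ_eq X.presheaf t
  have h1 : gO Y (show y ∈ i ⁻¹ᵁ U from hU) (i.app U a) = 0 := by
    rw [← stalkMap_gO i y hU a]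
    exact ht
  obtain ⟨V, hyV, f1, f2, h2⟩ := TopCat.Presheaf.germ_eq Y.presheaf y (show y ∈ i ⁻¹ᵁ U from hU)
    (show y ∈ i ⁻¹ᵁ U from hU) (i.app U a) 0 (h1.trans (map_zero _).symm)
  obtain ⟨W', hW', hWV⟩ := i.isEmbedding.isInducing.isOpen_iff.mp V.2
  let W : X.Opens := U ⊓ ⟨W', hW'⟩
  have hWU : W ≤ U := inf_le_left
  have hyW : i y ∈ W := ⟨hU, by
    have : y ∈ (i.base ⁻¹' W' : Set Y) := by
        rw [hWV]; exact hyV
    exact this⟩
  have hWV' : i ⁻¹ᵁ W ≤ V := by
    intro x hx
    have : x ∈ (⇑i ⁻¹' W' : Set Y) := hx.2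
    rw [hWV] at this
    exact this
  have h3 : i.app W (X.presheaf.map (homOfLE hWU).op a) = 0 := by
    have h4 : i.app W (X.presheaf.map (homOfLE hWU).op a) =
        Y.presheaf.map (homOfLE hWV').op (Y.presheaf.map f1.op (i.app U a)) := by
      have h5 := i.naturality (homOfLE hWU).op
      have h6 := congr($h5 a)
      refine h6.trans ?_
      rw [← CommRingCat.comp_apply, ← Functor.map_comp]
      rfl
    rw [h4, h2, map_zero, map_zero]
  obtain ⟨s, hs⟩ := (app_eq_zero_iff i W _).1 h3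
  refine ⟨gm _ hyW s, ?_⟩
  rw [vx_gm, hs]
  exact X.presheaf.germ_res_apply _ _ _ _

/-- The ideal of `Y` at the point `i y`. -/
noncomputable abbrev kr (y : Y) : Ideal (X.presheaf.stalk (i y)) := RingHom.ker (i.stalkMap y).hom

variable [IsPreimmersion i]

theorem cn_surjective (P : X.Modules) (y : Y) : Function.Surjective (cn i P y) := by
  intro c
  have h := Groth.Agent.Fdesc.PullbackStalk.span_range_canAdd i P y
  have hc : c ∈ Submodule.span (Y.presheaf.stalk y)
      (Set.range (Groth.Agent.Fdesc.PullbackStalk.canAdd i P y)) := by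
    rw [h]; trivial
  induction hc using Submodule.span_induction with
  | mem c hc => exact hc
  | zero => exact ⟨0, map_zero _⟩
  | add c c' _ _ h h' =>
    obtain ⟨e, rfl⟩ := h
    obtain ⟨e', rfl⟩ := h'
    exact ⟨e + e', map_add _ _ _⟩
  | smul b c _ h =>
    obtain ⟨e, rfl⟩ := h
    obtain ⟨a, rfl⟩ := i.stalkMap_surjective y b
    exact ⟨a • e, cn_smul i P y a e⟩

theorem cn_ker (P : X.Modules) (y : Y) (e : StM P (i y)) (he : cn i P y e = 0) :
    e ∈ (kr i y) • (⊤ : Submodule (X.presheaf.stalk (i y)) (StM P (i y))) := by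
  let := Groth.Agent.Fdesc.PullbackStalk.stalkAlg i y
  let := FlatMod.moduleStalkOver i ((Scheme.Modules.pullback i).obj P) y
  have := Groth.Agent.Fdesc.PullbackStalk.isScalarTower i ((Scheme.Modules.pullback i).obj P) y
  exact mem_smul_top_of_isBaseChange
    (A := X.presheaf.stalk (i y)) (B := Y.presheaf.stalk y)
    (fun b => i.stalkMap_surjective y b)
    (Groth.Agent.Fdesc.PullbackStalk.can i P y)
    (Groth.Agent.Fdesc.PullbackStalk.isBaseChange_can i P y) e he

omit [IsPreimmersion i] in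
theorem cn_eq_zero_of_mem (P : X.Modules) (y : Y) (e : StM P (i y))
    (he : e ∈ (kr i y) • (⊤ : Submodule (X.presheaf.stalk (i y)) (StM P (i y)))) :
    cn i P y e = 0 := by
  induction he using Submodule.smul_induction_on' with
  | smul r hr n _ => rw [cn_smul, show i.stalkMap y r = 0 from hr, zero_smul]
  | add x _ y _ hx hy => rw [map_add, hx, hy, add_zero]

/-- The class of an element of the ideal vanishes in the conormal module iff it lies in the square. -/
theorem cn_eq_zero_iff [QuasiCompact i] (y : Y) (e : StM (ClSub.idealMod i.ker) (i y)) :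
    cn i (ClSub.idealMod i.ker) y e = 0 ↔ vx i.ker (i y) e ∈ kr i y * kr i y := by
  constructor
  · intro h
    have h1 := cn_ker i _ y e h
    induction h1 using Submodule.smul_induction_on' with
    | smul r hr n _ =>
      rw [map_smul, smul_eq_mul]
      exact Ideal.mul_mem_mul hr (stalkMap_vx i y n)
    | add x hx x' hx' h1 h2 =>
      rw [map_add]
      exact add_mem (h1 (cn_eq_zero_of_mem i _ y x hx)) (h2 (cn_eq_zero_of_mem i _ y x' hx'))
  · intro h
    apply cn_eq_zero_of_mem
    have key : ∀ t ∈ kr i y * kr i y, ∀ e : StM (ClSub.idealMod i.ker) (i y),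
        vx i.ker (i y) e = t → e ∈ (kr i y) • (⊤ : Submodule (X.presheaf.stalk (i y)) _) := by
      intro t ht
      induction ht using Submodule.mul_induction_on' with
      | mem_mul_mem a ha b hb =>
        intro e he
        obtain ⟨e', he'⟩ := exists_vx_eq i y b hb
        have : e = a • e' := by
          apply vx_injective
          rw [map_smul, he', he, smul_eq_mul]
        rw [this]
        exact Submodule.smul_mem_smul ha trivial
      | add a ha b hb iha ihb =>
        intro e he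
        obtain ⟨e1, he1⟩ := exists_vx_eq i y a (Ideal.mul_le_left ha)
        obtain ⟨e2, he2⟩ := exists_vx_eq i y b (Ideal.mul_le_left hb)
        have : e = e1 + e2 := by
          apply vx_injective
          rw [map_add, he, he1, he2]
        rw [this]
        exact add_mem (iha e1 he1) (ihb e2 he2)
    exact key _ h e rfl

/-- The class in the conormal module of an element of the ideal. -/
noncomputable def cl (y : Y) : StM (ClSub.idealMod i.ker) (i y) →+ StM (Omega.conormal i) y :=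
  cn i (ClSub.idealMod i.ker) y

omit [IsPreimmersion i] in
theorem cl_smul (y : Y) (a : X.presheaf.stalk (i y)) (e : StM (ClSub.idealMod i.ker) (i y)) :
    cl i y (a • e) = i.stalkMap y a • cl i y e := cn_smul i _ y a e

theorem cl_surjective (y : Y) : Function.Surjective (cl i y) := cn_surjective i _ y

theorem cl_eq_zero_iff [QuasiCompact i] (y : Y) (e : StM (ClSub.idealMod i.ker) (i y)) :
    cl i y e = 0 ↔ vx i.ker (i y) e ∈ kr i y * kr i y := cn_eq_zero_iff i y e

end One

section Maps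

variable {X' Z' : Scheme.{u}} {i : Z ⟶ X} {i' : Z' ⟶ X'} {g : X ⟶ X'} {gZ : Z ⟶ Z'}

/-- The canonical map of conormal sheaves on germs. -/
theorem stM_conormalMap
    {φ : (Scheme.Modules.pullback gZ).obj (Omega.conormal i') ⟶ Omega.conormal i}
    (hφ : OmegaSh.IsConormalMap i i' g gZ φ) (z : Z) (U' : X'.Opens) (hz : i' (gZ z) ∈ U')
    (hz' : g (i z) ∈ U') (s' : SM (ClSub.idealMod i'.ker) U')
    (s : SM (ClSub.idealMod i.ker) (g ⁻¹ᵁ U')) (hs : vl i.ker s = g.app U' (vl i'.ker s')) :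
    stM φ z (cn gZ (Omega.conormal i') z (cn i' (ClSub.idealMod i'.ker) (gZ z) (gm _ hz s'))) =
      cn i (ClSub.idealMod i.ker) z (gm _ (show i z ∈ g ⁻¹ᵁ U' from hz') s) := by
  have hV : gZ ⁻¹ᵁ (i' ⁻¹ᵁ U') ≤ i ⁻¹ᵁ (g ⁻¹ᵁ U') := by
    rw [← Scheme.Hom.comp_preimage, ← Scheme.Hom.comp_preimage, hφ.1]
  have h1 := hφ.2 U' s' s hs (gZ ⁻¹ᵁ (i' ⁻¹ᵁ U')) le_rfl hV
  have h2 : stM φ z (cn gZ (Omega.conormal i') z
      (cn i' (ClSub.idealMod i'.ker) (gZ z) (gm _ hz s'))) =
      gm (Omega.conormal i) (show z ∈ gZ ⁻¹ᵁ (i' ⁻¹ᵁ U') from hz)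
        (ap φ (gZ ⁻¹ᵁ (i' ⁻¹ᵁ U')) (et gZ (Omega.conormal i') (i' ⁻¹ᵁ U')
          (et i' (ClSub.idealMod i'.ker) U' s'))) := by
    rw [cn_gm]
    exact (congrArg (stM φ z) (cn_gm gZ (Omega.conormal i') z (U := i' ⁻¹ᵁ U') hz
      (et i' (ClSub.idealMod i'.ker) U' s'))).trans (stM_gm φ _ _)
  rw [h2, cn_gm]
  have h3 := congrArg (gm (Omega.conormal i) (show z ∈ gZ ⁻¹ᵁ (i' ⁻¹ᵁ U') from hz)) h1
  have h4 : ∀ (V W : Z.Opens) (h : V ≤ W) (hz : z ∈ V) (t : SM (Omega.conormal i) W),
      gm (Omega.conormal i) hz ((Omega.conormal i).presheaf.map (homOfLE h).op t) =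
        gm (Omega.conormal i) (h hz) t := fun V W h hz t => gm_rs (Omega.conormal i) h hz t
  exact ((h4 _ _ _ _ _).symm.trans h3).trans (h4 _ _ _ _ _)

/-- The canonical map of conormal sheaves on germs. -/
theorem stM_conormalMap'
    {φ : (Scheme.Modules.pullback gZ).obj (Omega.conormal i') ⟶ Omega.conormal i}
    (hφ : OmegaSh.IsConormalMap i i' g gZ φ) (z : Z) (U' : X'.Opens) (hz : i' (gZ z) ∈ U')
    (hz' : g (i z) ∈ U') (s' : SM (ClSub.idealMod i'.ker) U')
    (s : SM (ClSub.idealMod i.ker) (g ⁻¹ᵁ U')) (hs : vl i.ker s = g.app U' (vl i'.ker s')) :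
    stM φ z (cn gZ (Omega.conormal i') z (cl i' (gZ z) (gm _ hz s'))) =
      cl i z (gm _ (show i z ∈ g ⁻¹ᵁ U' from hz') s) :=
  stM_conormalMap hφ z U' hz hz' s' s hs

/-- the identity pullback on stalks -/
theorem stM_pullbackId_inv (M : Z.Modules) (z : Z) (t : StM M z) :
    stM ((Scheme.Modules.pullbackId Z).inv.app M) z t = cn (𝟙 Z) M z t := by
  obtain ⟨V, -, hV, m, rfl⟩ := exists_gm _ (U := ⊤) (Opens.mem_top z) t
  refine (stM_gm _ hV m).trans ?_
  refine Eq.trans ?_ (cn_gm (𝟙 Z) M z (U := V) hV m).symm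
  have h := unit_conjugateEquiv .id (Scheme.Modules.pullbackPushforwardAdjunction (𝟙 Z))
    (Scheme.Modules.pullbackId Z).hom M
  rw [Scheme.Modules.conjugateEquiv_pullbackId_hom] at h
  have h1 : ((Scheme.Modules.pullbackId Z).hom.app M).app V (et (𝟙 Z) M V m) = m :=
    congr((Scheme.Modules.Hom.app $h V) m).symm
  have h2 : ap ((Scheme.Modules.pullbackId Z).inv.app M) V m = et (𝟙 Z) M V m := by
    have h3 := congrArg (ap ((Scheme.Modules.pullbackId Z).inv.app M) V) h1
    refine h3.symm.trans ?_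
    have h4 : (Scheme.Modules.pullbackId Z).hom.app M ≫ (Scheme.Modules.pullbackId Z).inv.app M =
        𝟙 _ := Iso.hom_inv_id_app _ _
    exact congr((Scheme.Modules.Hom.app $h4 V) (et (𝟙 Z) M V m))
  rw [h2]
  rfl

end Maps

end K559.ConSt
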