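import Groth.Agent.RegImm.K559.H1Flat
import Groth.Agent.Flat2H.KoszulWrap
import Groth.Agent.Sga67.KoszulH1

/-!
# Exchanging generators of an ideal of a local ring
-/

set_option autoImplicit false
universe u

open IsLocalRing

namespace K559.Exchange

variable {A : Type u} [CommRing A] {R : Type u} [CommRing R] [IsLocalRing R] (φ : A →+* R)

lemma exists_of_mem_ofList (H : List A) (v : R) (hv : v ∈ Ideal.ofList (H.map φ)) :
    v ∈ maximalIdeal R * Ideal.ofList (H.map φ) ∨ ∃ (H1 : List A) (h : A) (H2 : List A),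
      H = H1 ++ h :: H2 ∧ φ h ∈ Ideal.span {v} ⊔ Ideal.ofList ((H1 ++ H2).map φ) := by
  induction H generalizing v with
  | nil => exact Or.inl (by simpa using hv)
  | cons h t ih =>
    rw [List.map_cons, Ideal.ofList_cons] at hv
    obtain ⟨y, hy, w, hw, rfl⟩ := Submodule.mem_sup.1 hv
    obtain ⟨b, rfl⟩ := Ideal.mem_span_singleton'.1 hy
    by_cases hb : IsUnit b
    · refine Or.inr ⟨[], h, t, rfl, ?_⟩
      obtain ⟨c, hc⟩ := hb.exists_left_inv
      have h1 : φ h = c * (b * φ h + w) - c * w := by linear_combination (-(φ h)) * hc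
      have h2 : c * (b * φ h + w) - c * w ∈ Ideal.span {b * φ h + w} ⊔
          Ideal.ofList (([] ++ t : List A).map φ) := by
        refine sub_mem ?_ ?_
        · exact Ideal.mul_mem_left _ _ (Submodule.mem_sup_left (Ideal.mem_span_singleton_self _))
        · exact Ideal.mul_mem_left _ _ (Submodule.mem_sup_right (by simpa using hw))
      rwa [← h1] at h2
    · rcases ih w hw with h1 | ⟨H1, h', H2, rfl, h2⟩
      · left
        rw [List.map_cons, Ideal.ofList_cons]
        refine add_mem ?_ (Ideal.mul_mono_right le_sup_right h1)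
        exact Ideal.mul_mem_mul ((mem_maximalIdeal _).2 hb)
          (Submodule.mem_sup_left (Ideal.mem_span_singleton_self _))
      · refine Or.inr ⟨h :: H1, h', H2, rfl, ?_⟩
        have h3 : Ideal.span {w} ⊔ Ideal.ofList ((H1 ++ H2).map φ) ≤
            Ideal.span {b * φ h + w} ⊔ Ideal.ofList ((h :: H1 ++ H2).map φ) := by
          rw [List.cons_append, List.map_cons, Ideal.ofList_cons]
          refine sup_le ?_ (le_sup_right.trans le_sup_right)
          rw [Ideal.span_singleton_le_iff_mem]
          have h4 : w = (b * φ h + w) - b * φ h := by ring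
          rw [h4]
          refine sub_mem (Submodule.mem_sup_left (by
            rw [← h4]; exact Ideal.mem_span_singleton_self _)) ?_
          exact Ideal.mul_mem_left _ _ (Submodule.mem_sup_right
            (Submodule.mem_sup_left (Ideal.mem_span_singleton_self _)))
        exact h3 h2

lemma exchange_one {J : Ideal R} {F H : List A} {f : A} (hJ : J = Ideal.ofList ((F ++ H).map φ))
    (hf : φ f ∈ J) (hne : φ f ∉ Ideal.ofList (F.map φ) ⊔ maximalIdeal R * J) :
    ∃ H' : List A, H'.length + 1 = H.length ∧ J = Ideal.ofList ((F ++ [f] ++ H').map φ) ∧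
      ∀ h ∈ H', h ∈ H := by
  have hJ' := hJ
  rw [List.map_append, Ideal.ofList_append] at hJ'
  rw [hJ'] at hf
  obtain ⟨u, hu, v, hv, huv⟩ := Submodule.mem_sup.1 hf
  rcases exists_of_mem_ofList φ H v hv with h1 | ⟨H1, h, H2, rfl, h2⟩
  · refine absurd ?_ hne
    rw [← huv]
    refine Submodule.add_mem_sup hu ?_
    rw [hJ']
    exact Ideal.mul_mono_right le_sup_right h1
  · refine ⟨H1 ++ H2, by simp; lia, ?_, ?_⟩
    · have hfJ : Ideal.span {φ f} ≤ J := by
        rw [Ideal.span_singleton_le_iff_mem, hJ']; exact hf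
      have h3 : Ideal.ofList ((F ++ [f] ++ (H1 ++ H2)).map φ) =
          Ideal.ofList (F.map φ) ⊔ Ideal.span {φ f} ⊔
            (Ideal.ofList (H1.map φ) ⊔ Ideal.ofList (H2.map φ)) := by
        simp only [List.map_append, Ideal.ofList_append, List.map_cons, List.map_nil,
          Ideal.ofList_singleton]
      have h4 : J = Ideal.ofList (F.map φ) ⊔ (Ideal.ofList (H1.map φ) ⊔ (Ideal.span {φ h} ⊔
          Ideal.ofList (H2.map φ))) := by
        rw [hJ]
        simp only [List.map_append, Ideal.ofList_append, List.map_cons, Ideal.ofList_cons]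
      rw [h3]
      apply le_antisymm
      · have h5 : φ h ∈ Ideal.ofList (F.map φ) ⊔ Ideal.span {φ f} ⊔
            (Ideal.ofList (H1.map φ) ⊔ Ideal.ofList (H2.map φ)) := by
          refine (?_ : Ideal.span {v} ⊔ Ideal.ofList ((H1 ++ H2).map φ) ≤ _) h2
          rw [List.map_append, Ideal.ofList_append]
          refine sup_le ?_ le_sup_right
          rw [Ideal.span_singleton_le_iff_mem]
          have h6 : v = φ f - u := by rw [← huv]; ring
          rw [h6]
          refine sub_mem ?_ ?_
          · exact Submodule.mem_sup_left (Submodule.mem_sup_right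
              (Ideal.mem_span_singleton_self _))
          · exact Submodule.mem_sup_left (Submodule.mem_sup_left hu)
        rw [h4]
        refine sup_le (le_sup_left.trans le_sup_left) (sup_le (le_sup_left.trans le_sup_right)
          (sup_le ?_ (le_sup_right.trans le_sup_right)))
        rwa [Ideal.span_singleton_le_iff_mem]
      · refine sup_le (sup_le ?_ hfJ) ?_
        · rw [h4]; exact le_sup_left
        · rw [h4]
          exact sup_le (le_sup_left.trans le_sup_right)
            ((le_sup_right.trans le_sup_right).trans le_sup_right)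
    · intro h' hh'
      simp only [List.mem_append, List.mem_cons] at hh' ⊢
      tauto

/-- Steinitz exchange for ideals of a local ring. -/
theorem exchange {J : Ideal R} {fs gs : List A} (hJ : J = Ideal.ofList (gs.map φ))
    (hf : ∀ f ∈ fs, φ f ∈ J)
    (hne : ∀ (F : List A) (f : A) (T : List A), fs = F ++ f :: T →
      φ f ∉ Ideal.ofList (F.map φ) ⊔ maximalIdeal R * J) :
    ∃ hs : List A, hs.length + fs.length = gs.length ∧
      J = Ideal.ofList ((fs ++ hs).map φ) ∧ ∀ h ∈ hs, h ∈ gs := by
  induction fs using List.reverseRecOn with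
  | nil => exact ⟨gs, by simp, by simpa using hJ, fun h hh => hh⟩
  | append_singleton F f ih =>
    obtain ⟨H, h1, h2, h3⟩ := ih (fun f' hf' => hf f' (by simp [hf']))
      (fun F' f' T' h => hne F' f' (T' ++ [f]) (by rw [h]; simp))
    obtain ⟨H', h4, h5, h6⟩ := exchange_one φ h2 (hf f (by simp)) (hne F f [] rfl)
    exact ⟨H', by simp; lia, h5, fun h hh => h3 h (h6 h hh)⟩

/-- A Koszul-regular sequence in the maximal ideal of a local ring is a minimal generating
sequence. -/
theorem not_mem_of_koszul {F T : List R} {f : R} (h : LCI.IsKoszulRegularSeq R (F ++ f :: T))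
    (hm : Ideal.ofList (F ++ f :: T) ≤ maximalIdeal R) :
    f ∉ Ideal.ofList F ⊔ maximalIdeal R * Ideal.ofList (F ++ f :: T) := by
  intro hf
  set I := Ideal.ofList (F ++ f :: T) with hI
  have hI' : I = Ideal.ofList F ⊔ (Ideal.span {f} ⊔ Ideal.ofList T) := by
    rw [hI, Ideal.ofList_append, Ideal.ofList_cons]
  have hFT : Ideal.ofList (F ++ T) = Ideal.ofList F ⊔ Ideal.ofList T := Ideal.ofList_append _ _
  have h1 : I ≤ Ideal.ofList (F ++ T) ⊔ maximalIdeal R • I := by
    rw [smul_eq_mul, hFT]
    conv_lhs => rw [hI']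
    refine sup_le (le_sup_left.trans le_sup_left) (sup_le ?_ (le_sup_right.trans le_sup_left))
    rw [Ideal.span_singleton_le_iff_mem]
    exact (sup_le_sup le_sup_left le_rfl : Ideal.ofList F ⊔ maximalIdeal R * I ≤ _) hf
  have hfg : I.FG := by
    classical
    rw [hI]
    exact ⟨(F ++ f :: T).toFinset, by rw [List.coe_toFinset]⟩
  have h2 : I ≤ Ideal.ofList (F ++ T) := by
    refine Submodule.le_of_le_smul_of_le_jacobson_bot hfg ?_ h1
    exact IsLocalRing.maximalIdeal_le_jacobson ⊥
  have h3 : Ideal.ofList (F ++ f :: T) = Ideal.ofList (0 :: (F ++ T)) := by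
    rw [Ideal.ofList_cons, Ideal.span_singleton_eq_bot.2 rfl, bot_sup_eq]
    refine le_antisymm h2 ?_
    rw [← hI, hI', hFT]
    exact sup_le_sup_left le_sup_right _
  have h4 := Groth.Agent.Flat2H.KoszulSeq.isKoszulRegularSeq_of_ofList_eq h h3 (by simp)
  have h5 := Groth.Agent.Sga67.KoszulH1.isH1Regular_of_isKoszulRegularSeq _ h4
  have h6 : (Pi.single ⟨0, by simp⟩ 1 : Fin (0 :: (F ++ T)).length → R) ∈
      K559.H1Flat.triv (0 :: (F ++ T)).get := by
    apply h5
    rw [Finset.sum_eq_single ⟨0, by simp⟩]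
    · simp
    · intro b _ hb
      rw [Pi.single_eq_of_ne hb, zero_mul]
    · simp
  have h7 := K559.H1Flat.coeff_mem_of_mem_triv h6 ⟨0, by simp⟩
  rw [Pi.single_eq_same] at h7
  have h8 : Ideal.span (Set.range (0 :: (F ++ T)).get) = I := by
    rw [hI, h3, Ideal.ofList]
    congr 1
    ext x
    simp [List.mem_iff_get]
  rw [h8] at h7
  exact (Ideal.ne_top_iff_one _).1 (Ideal.IsPrime.ne_top (maximalIdeal.isMaximal R).isPrime) (hm h7)

omit [IsLocalRing R] in
/-- Finitely many membership relations hold after multiplication by an element outside the prime. -/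
lemma exists_mul_mem (p : Ideal A) [p.IsPrime] (N : Ideal A) (gs : List A)
    (hloc : ∀ g : A, φ g ∈ N.map φ → ∃ a ∉ p, a * g ∈ N) (h : ∀ g ∈ gs, φ g ∈ N.map φ) :
    ∃ a ∉ p, ∀ g ∈ gs, a * g ∈ N := by
  induction gs with
  | nil => exact ⟨1, (Ideal.ne_top_iff_one p).1 (Ideal.IsPrime.ne_top ‹_›), by simp⟩
  | cons g gs ih =>
    obtain ⟨a, ha, hg⟩ := ih fun g hg => h g (by simp [hg])
    obtain ⟨b, hb, hbg⟩ := hloc g (h g (by simp))
    refine ⟨a * b, fun hab => (Ideal.IsPrime.mem_or_mem ‹_› hab).elim ha hb, ?_⟩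
    intro g' hg'
    rcases List.mem_cons.1 hg' with rfl | hg'
    · rw [mul_assoc]; exact N.mul_mem_left _ hbg
    · rw [mul_comm a b, mul_assoc]; exact N.mul_mem_left _ (hg g' hg')

end K559.Exchange
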