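import Groth.Agent.RegImm.K559.ExtSec
import Groth.Agent.RegImm.K559.Basic
import Groth.Agent.S3669
import Groth.Agent.S3630
import Groth.Agent.S0484
import Groth.Agent.Ega3B.LocFree
import Groth.Agent.PerfA.QCohEpi
import Mathlib.RingTheory.Regular.Flat

/-!
# Vanishing of `Ext^q(i_* F, E)` below the codimension of a regular immersion
-/

set_option autoImplicit false
universe u

open CategoryTheory CategoryTheory.Limits CategoryTheory.Abelian AlgebraicGeometry Opposite TopologicalSpace
open Groth.Agent.Sga67.Sec Groth.Agent.Dual.H377 RingTheory.Sequence RegImm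

namespace K559.ExtCodim

variable {X Z : Scheme.{u}} {i : Z ⟶ X}

theorem enoughInjectives (X : Scheme.{u}) : EnoughInjectives X.Modules := by
  have hG : IsGrothendieckAbelian.{u} X.Modules := Groth.Agent.S0484.result _ X.ringCatSheaf
  infer_instance

theorem hasInjectiveResolutions (X : Scheme.{u}) : HasInjectiveResolutions X.Modules := by
  have := enoughInjectives X
  infer_instance

theorem exists_open_preimage [IsClosedImmersion i] {V : Z.Opens} {x : Z} (hx : x ∈ V) :
    ∃ O : X.Opens, i x ∈ O ∧ i ⁻¹ᵁ O ≤ V := by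
  obtain ⟨O, hO, hOV⟩ := i.isClosedEmbedding.isInducing.isOpen_iff.mp V.2
  refine ⟨⟨O, hO⟩, ?_, ?_⟩
  · change x ∈ i ⁻¹' O
    rw [hOV]
    exact hx
  · intro y hy
    have h1 : y ∈ i ⁻¹' O := hy
    rw [hOV] at h1
    exact h1

/-- Small charts of a regular immersion. -/
theorem exists_chart [IsClosedImmersion i] {c : ℕ} (hi : IsRegularImmersionOfCodim .regular c i)
    (z : Z) (V : Z.Opens) (hz : z ∈ V) :
    ∃ (U : X.Opens) (_ : IsAffineOpen U) (_ : i z ∈ U) (_ : i ⁻¹ᵁ U ≤ V) (rs : List Γ(X, U)),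
      rs.length = c ∧ IsWeaklyRegular Γ(X, U) rs ∧ RingHom.ker (i.app U).hom = Ideal.ofList rs := by
  obtain ⟨U, hzU, hcl, rs, hlen, hrs, hker⟩ := hi.2 z
  obtain ⟨O, hO, hOV⟩ := exists_open_preimage (i := i) hz
  obtain ⟨_, ⟨W, hW, rfl⟩, hzW, hWO⟩ := X.isBasis_affineOpens.exists_subset_of_mem_open
    (show i z ∈ O ⊓ U.1 from ⟨hO, hzU⟩) (O ⊓ U.1).2
  have hWU : W ≤ U.1 := fun x hx => (hWO hx).2
  have hWO' : W ≤ O := fun x hx => (hWO hx).1
  refine ⟨W, hW, hzW, (i.preimage_mono hWO').trans hOV,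
    rs.map (X.presheaf.map (homOfLE hWU).op).hom, by simpa using hlen, ?_, ?_⟩
  · have hf := Basic.flat_res U.2 hW hWU
    algebraize [(X.presheaf.map (homOfLE hWU).op).hom]
    exact IsWeaklyRegular.of_flat hrs.toIsWeaklyRegular
  · rw [Basic.ker_app_of_le U.2 hW hWU hcl, hker, Ideal.map_ofList]

/-- The sequence is weakly regular on the sections of a finite locally free module. -/
theorem isWeaklyRegular_sections {E : X.Modules} (hE : FlatMod.IsFinLocFree E) {U : X.Opens}
    (hU : IsAffineOpen U) (rs : List Γ(X, U)) (hrs : IsWeaklyRegular Γ(X, U) rs) :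
    IsWeaklyRegular (Sec E U) rs := by
  have hq : E.IsQuasicoherent := Groth.Agent.PerfA.QCohEpi.isQCoh_of_isFinLocFree hE
  have hfl : Module.Flat Γ(X, U) (Sec E U) :=
    (Groth.Agent.Ega3B.LocFree.finite_flat_sections E hE hU).2
  have h1 := IsWeaklyRegular.isWeaklyRegular_lTensor (M₂ := Sec E U) hrs
  exact ((TensorProduct.rid Γ(X, U) (Sec E U)).isWeaklyRegular_congr rs).1 h1

section Counit

variable [Dual3.HasHomO i]

/-- The counit `i_* Hom(O_Z, F) ⟶ F` on sections. -/
noncomputable def ka (F : X.Modules) (U : X.Opens) : Sec ((Dual3.homO i).obj F) (i ⁻¹ᵁ U) →+ Sec F U :=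
  (((Dual3.homOAdj i).counit.app F).app U).hom

theorem ka_smul (F : X.Modules) (U : X.Opens) (a : Γ(X, U)) (s : Sec ((Dual3.homO i).obj F) (i ⁻¹ᵁ U)) :
    ka F U (i.app U a • s) = a • ka F U s := by
  exact ((Dual3.homOAdj i).counit.app F).app_smul a s

theorem ka_map {F G : X.Modules} (φ : F ⟶ G) (U : X.Opens) (s : Sec ((Dual3.homO i).obj F) (i ⁻¹ᵁ U)) :
    ka G U (appS ((Dual3.homO i).map φ) (i ⁻¹ᵁ U) s) = appS φ U (ka F U s) := by
  have h := (Dual3.homOAdj i).counit.naturality φ
  exact ConcreteCategory.congr_hom (congrArg (fun k => Scheme.Modules.Hom.app k U) h) s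

variable [IsClosedImmersion i]

theorem ka_injective (F : X.Modules) (U : X.Opens) : Function.Injective (ka (i := i) F U) := by
  have := Groth.Agent.S3669.mono_counit i F
  exact injective_of_mono ((Dual3.homOAdj i).counit.app F) U

omit [IsClosedImmersion i] in
theorem ka_killed {U : X.Opens} (rs : List Γ(X, U))
    (hker : RingHom.ker (i.app U).hom = Ideal.ofList rs) (F : X.Modules)
    (s : Sec ((Dual3.homO i).obj F) (i ⁻¹ᵁ U)) (r : Γ(X, U)) (hr : r ∈ rs) : r • ka F U s = 0 := by
  have h1 : r ∈ RingHom.ker (i.app U).hom := by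
    rw [hker]
    exact Ideal.subset_span hr
  have h2 : i.app U r = 0 := h1
  rw [← ka_smul, h2, zero_smul, map_zero]

theorem exists_ka {U : X.Opens} (hU : IsAffineOpen U) (rs : List Γ(X, U))
    (hker : RingHom.ker (i.app U).hom = Ideal.ofList rs) {F : X.Modules} {s : Sec F U}
    (hs : ∀ r ∈ rs, r • s = 0) : ∃ t, ka (i := i) F U t = s := by
  refine ((Groth.Agent.S3669.main i F ⟨U, hU⟩).2 s).mpr ?_
  intro a ha
  rw [Scheme.Hom.ker_apply] at ha
  have ha' : a ∈ Ideal.ofList rs := by
    rw [← hker]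
    exact ha
  clear ha
  unfold Ideal.ofList at ha'
  induction ha' using Submodule.span_induction with
  | mem a ha => exact hs a ha
  | zero => exact zero_smul _ _
  | add a b _ _ h1 h2 => rw [add_smul, h1, h2, add_zero]
  | smul a b _ h => rw [smul_eq_mul, mul_smul, h, smul_zero]

end Counit

section Main

variable [IsClosedImmersion i] [Dual3.HasHomO i] {c : ℕ}
  (hi : IsRegularImmersionOfCodim .regular c i) {E : X.Modules} (hE : FlatMod.IsFinLocFree E)
  (R : InjectiveResolution E)

/-- The complex `Hom(O_Z, R)`. -/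
noncomputable abbrev KK (i : Z ⟶ X) [IsClosedImmersion i] [Dual3.HasHomO i] (p : ℕ) : Z.Modules :=
  (Dual3.homO i).obj (R.cocomplex.X p)

/-- The differential. -/
noncomputable abbrev dK (i : Z ⟶ X) [IsClosedImmersion i] [Dual3.HasHomO i] (p : ℕ) :
    KK R i p ⟶ KK R i (p + 1) :=
  (Dual3.homO i).map (R.cocomplex.d p (p + 1))

omit [IsClosedImmersion i] in
lemma dK_comp [IsClosedImmersion i] (p : ℕ) : dK R i p ≫ dK R i (p + 1) = 0 := by
  rw [dK, dK, ← Functor.map_comp, R.cocomplex.d_comp_d, Functor.map_zero]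

lemma injective_KK (p : ℕ) : Injective (KK R i p) :=
  Injective.injective_of_adjoint (Dual3.homOAdj i) _

include hi hE in
lemma mono_dK (h0 : 0 < c) : Mono (dK R i 0) := by
  apply mono_of_locally_injective
  intro z V hz
  obtain ⟨U, hU, hzU, hUV, rs, hlen, hrs, hker⟩ := exists_chart hi z V hz
  refine ⟨i ⁻¹ᵁ U, hUV, hzU, fun s hs => ?_⟩
  apply ka_injective
  rw [map_zero]
  refine ExtSec.eq_zero R rs (isWeaklyRegular_sections hE hU rs hrs) (hlen ▸ h0) _
    (fun r hr => ka_killed rs hker _ s r hr) ?_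
  rw [← ka_map, hs, map_zero]

include hi hE in
lemma exact_dK (p : ℕ) (hp : p + 1 < c) :
    (ShortComplex.mk (dK R i p) (dK R i (p + 1)) (dK_comp R p)).Exact := by
  apply exact_of_locally
  intro V s hs z hz
  obtain ⟨U, hU, hzU, hUV, rs, hlen, hrs, hker⟩ := exists_chart hi z V hz
  obtain ⟨y, hy, hyd⟩ := ExtSec.exists_eq R (Groth.Agent.PerfA.QCohEpi.isQCoh_of_isFinLocFree hE) hU rs
    (isWeaklyRegular_sections hE hU rs hrs) p (hlen ▸ hp) (ka _ U (res _ hUV s))
    (fun r hr => ka_killed rs hker _ _ r hr) (by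
      rw [← ka_map, appS_res]
      have hs' : appS (dK R i (p + 1)) V s = 0 := hs
      rw [hs', map_zero, map_zero])
  obtain ⟨t, rfl⟩ := exists_ka hU rs hker hy
  refine ⟨i ⁻¹ᵁ U, hUV, hzU, t, ?_⟩
  apply ka_injective
  exact (ka_map _ _ _).trans hyd

end Main

/-- **The theorem.** -/
theorem main [HasExt.{u} X.Modules] [IsClosedImmersion i] (c : ℕ)
    (hi : IsRegularImmersionOfCodim .regular c i) (E : X.Modules)
    (hE : FlatMod.IsFinLocFree E) (F : Z.Modules) (q : ℕ) (hq : q < c) :
    Subsingleton (Ext ((Scheme.Modules.pushforward i).obj F) E q) := by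
  have := hasInjectiveResolutions X
  have : Dual3.HasHomO i := Groth.Agent.S3630.result Z X i
  let R : InjectiveResolution E := (HasInjectiveResolution.out (Z := E)).some
  have key : ∀ x : Ext ((Scheme.Modules.pushforward i).obj F) E q, x = 0 := by
    intro x
    obtain ⟨f, hf, rfl⟩ := R.extMk_surjective x (q + 1) rfl
    have hg : (Dual3.homOAdj i).homEquiv _ _ f ≫ dK R i q = 0 := by
      rw [← (Dual3.homOAdj i).homEquiv_naturality_right, hf]
      simp
    cases q with
    | zero =>
      have hm := mono_dK hi hE R hq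
      have h1 : (Dual3.homOAdj i).homEquiv _ _ f = 0 := by
        rw [← cancel_mono (dK R i 0), zero_comp]
        exact hg
      have h2 : f = 0 := by
        apply ((Dual3.homOAdj i).homEquiv _ _).injective
        refine h1.trans ?_
        simp
      subst h2
      exact R.extMk_zero 1 rfl
    | succ q =>
      obtain ⟨h, hh⟩ := ReesLift.exists_lift_of_exact (KK R i) (dK R i) (injective_KK R)
        (dK_comp R) c (fun h0 => mono_dK hi hE R h0) (fun p hp => exact_dK hi hE R p hp) q hq F _ hg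
      rw [R.extMk_eq_zero_iff f (q + 1 + 1) rfl hf q rfl]
      refine ⟨((Dual3.homOAdj i).homEquiv _ _).symm h, ?_⟩
      apply ((Dual3.homOAdj i).homEquiv _ _).injective
      rw [(Dual3.homOAdj i).homEquiv_naturality_right, Equiv.apply_symm_apply]
      exact hh
  exact ⟨fun a b => (key a).trans (key b).symm⟩

end K559.ExtCodim
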