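import Groth.Agent.RegImm.K559.ReesLift
import Groth.Agent.Dual.H377.SecInj
import Groth.Agent.Sga67.Sec

/-!
# Torsion sections of an injective resolution over an affine open

For `E` quasi-coherent with injective resolution `R`, `U` affine open and `rs` a sequence in `Γ(X, U)` weakly regular on
`Γ(U, E)` of length `c`, the complex of sections of `R` killed by `rs` is exact in degrees `< c`.
-/

set_option autoImplicit false
universe u

open CategoryTheory CategoryTheory.Limits CategoryTheory.Abelian AlgebraicGeometry Opposite TopologicalSpace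
open Groth.Agent.Sga67.Sec Groth.Agent.Dual.H377 RingTheory.Sequence

namespace K559.ExtSec

variable {X : Scheme.{u}} {E : X.Modules} (R : InjectiveResolution E) {U : X.Opens}

/-- The differential on sections. -/
noncomputable def dS (U : X.Opens) (p : ℕ) :
    ModuleCat.of Γ(X, U) (Sec (R.cocomplex.X p) U) ⟶
      ModuleCat.of Γ(X, U) (Sec (R.cocomplex.X (p + 1)) U) :=
  ModuleCat.ofHom (appS (R.cocomplex.d p (p + 1)) U)

/-- The augmentation on sections. -/
noncomputable def εS (U : X.Opens) :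
    ModuleCat.of Γ(X, U) (Sec E U) ⟶ ModuleCat.of Γ(X, U) (Sec (R.cocomplex.X 0) U) :=
  ModuleCat.ofHom (appS (SecInj.aug R) U)

lemma dS_comp (p : ℕ) : dS R U p ≫ dS R U (p + 1) = 0 := by
  ext x
  change appS (R.cocomplex.d (p + 1) (p + 2)) U (appS (R.cocomplex.d p (p + 1)) U x) = 0
  rw [← appS_comp, R.cocomplex.d_comp_d, appS_zero]

lemma εS_comp : εS R U ≫ dS R U 0 = 0 := by
  ext x
  change appS (R.cocomplex.d 0 1) U (appS (SecInj.aug R) U x) = 0
  rw [← appS_comp, SecInj.aug_d, appS_zero]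

lemma injective_KS (hU : IsAffineOpen U) (p : ℕ) :
    Injective (ModuleCat.of Γ(X, U) (Sec (R.cocomplex.X p) U)) := by
  have h : Module.Injective Γ(X, U) (Sec (R.cocomplex.X p) U) :=
    SecInj.injective_sections (R.cocomplex.X p) hU
  exact Module.injective_object_of_injective_module Γ(X, U) (Sec (R.cocomplex.X p) U)

lemma exact_dS (hE : Coh.IsQCoh E) (hU : IsAffineOpen U) (p : ℕ) :
    (ShortComplex.mk (dS R U p) (dS R U (p + 1)) (dS_comp R p)).Exact := by
  rw [ShortComplex.moduleCat_exact_iff]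
  intro x hx
  exact SecInj.exists_d_eq R hE hU p x hx

lemma mono_εS : Mono (εS R U) := by
  rw [ModuleCat.mono_iff_injective]
  rw [injective_iff_map_eq_zero]
  intro x hx
  exact SecInj.aug_injective R U x hx

lemma exact_εS : (ShortComplex.mk (εS R U) (dS R U 0) (εS_comp R)).Exact := by
  rw [ShortComplex.moduleCat_exact_iff]
  intro x hx
  exact SecInj.exists_aug_eq R U x hx

section Killed

variable {A : Type u} [CommRing A] {M : Type u} [AddCommGroup M] [Module A M] (rs : List A)

/-- the map from the quotient ring given by a killed element -/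
noncomputable def kmap (x : M) (hx : ∀ r ∈ rs, r • x = 0) : (A ⧸ Ideal.ofList rs) →ₗ[A] M :=
  (Ideal.ofList rs).liftQ (LinearMap.toSpanSingleton A M x) (by
    rw [Ideal.ofList, Submodule.span_le]
    intro r hr
    rw [SetLike.mem_coe, LinearMap.mem_ker, LinearMap.toSpanSingleton_apply]
    exact hx r hr)

lemma kmap_one (x : M) (hx : ∀ r ∈ rs, r • x = 0) :
    kmap rs x hx (Submodule.Quotient.mk (1 : A)) = x := by
  rw [kmap]
  refine (Submodule.liftQ_apply _ _ _).trans ?_
  rw [LinearMap.toSpanSingleton_apply, one_smul]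

lemma ext_kmap {f g : (A ⧸ Ideal.ofList rs) →ₗ[A] M}
    (h : f (Submodule.Quotient.mk (1 : A)) = g (Submodule.Quotient.mk (1 : A))) : f = g := by
  ext
  exact h

lemma killed_mk (f : (A ⧸ Ideal.ofList rs) →ₗ[A] M) (r : A) (hr : r ∈ rs) :
    r • f (Submodule.Quotient.mk (1 : A)) = 0 := by
  have hmem : r ∈ Ideal.ofList rs := Ideal.subset_span hr
  rw [← map_smul, ← Submodule.Quotient.mk_smul, smul_eq_mul, mul_one,
    (Submodule.Quotient.mk_eq_zero _).2 hmem, map_zero]

lemma killed_quot (r : A) (hr : r ∈ rs) (n : A ⧸ Ideal.ofList rs) : r • n = 0 := by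
  obtain ⟨a, rfl⟩ := Submodule.Quotient.mk_surjective _ n
  rw [← Submodule.Quotient.mk_smul, Submodule.Quotient.mk_eq_zero, smul_eq_mul]
  exact Ideal.mul_mem_right _ _ (Ideal.subset_span hr)

end Killed

variable (hE : Coh.IsQCoh E) (hU : IsAffineOpen U) (rs : List Γ(X, U))
  (hrs : IsWeaklyRegular (Sec E U) rs)

include hrs in
/-- Degree zero. -/
theorem eq_zero (h0 : 0 < rs.length) (x : Sec (R.cocomplex.X 0) U) (hx : ∀ r ∈ rs, r • x = 0)
    (hd : appS (R.cocomplex.d 0 1) U x = 0) : x = 0 := by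
  have hM := ReesLift.subsingleton_ext rs (ModuleCat.of Γ(X, U) (Γ(X, U) ⧸ Ideal.ofList rs))
    (fun r hr n => killed_quot rs r hr n) (ModuleCat.of Γ(X, U) (Sec E U)) hrs 0 h0
  have := mono_εS R (U := U)
  have h1 := ReesLift.eq_zero_of_comp (ModuleCat.of Γ(X, U) (Γ(X, U) ⧸ Ideal.ofList rs))
    (ModuleCat.of Γ(X, U) (Sec E U)) _ _ (dS R U 0) (εS R U) (εS_comp R) (exact_εS R) hM
    (ModuleCat.ofHom (kmap rs x hx)) (by
      ext
      change appS (R.cocomplex.d 0 1) U (kmap rs x hx (Submodule.Quotient.mk (1 : Γ(X, U)))) = 0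
      rw [kmap_one, hd])
  have h2 := congr($(h1).hom (Submodule.Quotient.mk (1 : Γ(X, U))))
  exact (kmap_one rs x hx).symm.trans h2

include hE hU hrs in
/-- Positive degrees. -/
theorem exists_eq (q : ℕ) (hq : q + 1 < rs.length) (x : Sec (R.cocomplex.X (q + 1)) U)
    (hx : ∀ r ∈ rs, r • x = 0) (hd : appS (R.cocomplex.d (q + 1) (q + 2)) U x = 0) :
    ∃ y : Sec (R.cocomplex.X q) U, (∀ r ∈ rs, r • y = 0) ∧
      appS (R.cocomplex.d q (q + 1)) U y = x := by
  have hM := ReesLift.subsingleton_ext rs (ModuleCat.of Γ(X, U) (Γ(X, U) ⧸ Ideal.ofList rs))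
    (fun r hr n => killed_quot rs r hr n) (ModuleCat.of Γ(X, U) (Sec E U)) hrs
  obtain ⟨y, hy⟩ := ReesLift.exists_lift_succ
    (ModuleCat.of Γ(X, U) (Γ(X, U) ⧸ Ideal.ofList rs)) q (ModuleCat.of Γ(X, U) (Sec E U))
    (fun p => ModuleCat.of Γ(X, U) (Sec (R.cocomplex.X p) U)) (fun p => dS R U p)
    (injective_KS R hU) (dS_comp R) (exact_dS R hE hU) (εS R U) (mono_εS R) (εS_comp R)
    (exact_εS R) (fun i _ hi => hM i (by lia)) (ModuleCat.ofHom (kmap rs x hx)) (by
      ext
      change appS (R.cocomplex.d (q + 1) (q + 2)) U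
        (kmap rs x hx (Submodule.Quotient.mk (1 : Γ(X, U)))) = 0
      rw [kmap_one, hd])
  refine ⟨y.hom (Submodule.Quotient.mk (1 : Γ(X, U))), fun r hr => killed_mk rs y.hom r hr, ?_⟩
  have h2 := congr($(hy).hom (Submodule.Quotient.mk (1 : Γ(X, U))))
  exact h2.trans (kmap_one rs x hx)

end K559.ExtSec
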