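import Groth.Agent.RegImm.K559.Basic
import Mathlib.AlgebraicGeometry.Morphisms.Flat
import Mathlib.RingTheory.Flat.Localization
import Mathlib.RingTheory.Localization.Away.Basic

/-!
# Regular immersions of a general kind: passage between schemes and ideals, descent

`S` is a property of finite sequences in rings.  `SAt S i x`: the ideal of the immersion `i` is generated by an
`S`-sequence on some affine open neighbourhood of `x` over which `i` is a closed immersion.  `SIdeal S I`: the ideal `I`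
is locally (on basic opens, around the points of `V(I)`) generated by an `S`-sequence.
-/

set_option autoImplicit false
universe u

open CategoryTheory CategoryTheory.Limits AlgebraicGeometry
open K559.Basic

namespace K559.Gen

variable {X Y Z X' Y' : Scheme.{u}}

/-- A property of sequences in rings, preserved by flat ring maps. -/
def FlatStable (S : ∀ (R : Type u) [CommRing R], List R → Prop) : Prop :=
  ∀ (A B : Type u) [CommRing A] [CommRing B] (φ : A →+* B), φ.Flat →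
    ∀ l : List A, S A l → S B (l.map φ)

variable {S : ∀ (R : Type u) [CommRing R], List R → Prop}

/-- The ideal of `i` is generated by an `S`-sequence near `x`. -/
def SAt (S : ∀ (R : Type u) [CommRing R], List R → Prop) (i : Y ⟶ X) (x : X) : Prop :=
  ∃ U : X.affineOpens, x ∈ U.1 ∧ IsClosedImmersion (i ∣_ U.1) ∧
    ∃ rs : List Γ(X, U.1), S Γ(X, U.1) rs ∧ RingHom.ker (i.app U.1).hom = Ideal.ofList rs

/-- The ideal is locally generated by an `S`-sequence. -/
def SIdeal (S : ∀ (R : Type u) [CommRing R], List R → Prop) {R : Type u} [CommRing R]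
    (I : Ideal R) : Prop :=
  ∀ p : Ideal R, p.IsPrime → I ≤ p → ∃ g : R, g ∉ p ∧ ∃ l : List (Localization.Away g),
    S (Localization.Away g) l ∧ I.map (algebraMap R (Localization.Away g)) = Ideal.ofList l

lemma isRegularImmersion_iff (k : RegImm.Kind) (i : Y ⟶ X) :
    RegImm.IsRegularImmersion k i ↔ IsImmersion i ∧ ∀ y : Y, SAt k.Seq i (i y) := Iff.rfl

lemma base_change_aux (hS : FlatStable S) {i : Y ⟶ X} {g : X' ⟶ X} [Flat g] {i' : Y' ⟶ X'}
    {g' : Y' ⟶ Y} (hsq : IsPullback g' i' i g) {U : X.Opens} (hU : IsAffineOpen U)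
    (hi : IsClosedImmersion (i ∣_ U)) {rs : List Γ(X, U)} (hrs : S Γ(X, U) rs)
    (hker : RingHom.ker (i.app U).hom = Ideal.ofList rs) {V : X'.Opens} (hV : IsAffineOpen V)
    (e : V ≤ g ⁻¹ᵁ U) : IsClosedImmersion (i' ∣_ V) ∧
      ∃ ss : List Γ(X', V), S Γ(X', V) ss ∧ RingHom.ker (i'.app V).hom = Ideal.ofList ss := by
  refine ⟨isClosedImmersion_restrict hsq e hi, rs.map (g.appLE U V e).hom, ?_, ?_⟩
  · exact hS _ _ _ (Scheme.Hom.flat_appLE g hU hV e) _ hrs
  · rw [ker_app_of_isPullback hsq hU hV e hi, hker, Ideal.map_ofList]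

/-- Flat base change at a point. -/
theorem SAt.base_change (hS : FlatStable S) {i : Y ⟶ X} {g : X' ⟶ X} [Flat g] {i' : Y' ⟶ X'}
    {g' : Y' ⟶ Y} (hsq : IsPullback g' i' i g) {x' : X'} (h : SAt S i (g x')) : SAt S i' x' := by
  obtain ⟨U, hxU, hcl, rs, hrs, hker⟩ := h
  obtain ⟨V, hV, hxV, hVU⟩ := exists_isAffineOpen_mem_and_subset (U := g ⁻¹ᵁ U.1) (x := x') hxU
  obtain ⟨h1, h2⟩ := base_change_aux hS hsq U.2 hcl hrs hker hV hVU
  exact ⟨⟨V, hV⟩, hxV, h1, h2⟩

/-- Smaller neighbourhoods. -/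
lemma mono_aux (hS : FlatStable S) {i : Y ⟶ X} {U : X.Opens} (hU : IsAffineOpen U)
    (hi : IsClosedImmersion (i ∣_ U)) {rs : List Γ(X, U)} (hrs : S Γ(X, U) rs)
    (hker : RingHom.ker (i.app U).hom = Ideal.ofList rs) {V : X.Opens} (hV : IsAffineOpen V)
    (e : V ≤ U) : IsClosedImmersion (i ∣_ V) ∧
      ∃ ss : List Γ(X, V), S Γ(X, V) ss ∧ RingHom.ker (i.app V).hom = Ideal.ofList ss :=
  base_change_aux hS (IsPullback.of_id_fst (f := i)) (g := 𝟙 X) (g' := 𝟙 Y) hU hi hrs hker hV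
    (by simpa using e)

/-- The point of an affine open over a prime containing the kernel lies in the image. -/
lemma exists_of_ker_le {i : Y ⟶ X} {U : X.Opens} (hU : IsAffineOpen U)
    (hi : IsClosedImmersion (i ∣_ U)) (p : Ideal Γ(X, U)) [hp : p.IsPrime]
    (hker : RingHom.ker (i.app U).hom ≤ p) :
    ∃ y : Y, i y = hU.fromSpec ⟨p, hp⟩ := by
  have hsurj := app_surjective hU hi
  have hq : (p.map (i.app U).hom).IsPrime := Ideal.map_isPrime_of_surjective hsurj hker
  have hV := isAffineOpen_preimage hU hi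
  let q : Spec Γ(Y, i ⁻¹ᵁ U) := ⟨p.map (i.app U).hom, hq⟩
  have h1 : Spec.map (i.app U) ≫ hU.fromSpec = hV.fromSpec ≫ i := by
    have := IsAffineOpen.SpecMap_appLE_fromSpec i hU hV le_rfl
    rwa [Scheme.Hom.appLE_eq_app] at this
  refine ⟨hV.fromSpec q, ?_⟩
  rw [← Scheme.Hom.comp_apply, ← h1, Scheme.Hom.comp_apply]
  congr 1
  refine PrimeSpectrum.ext ?_
  change (p.map (i.app U).hom).comap (i.app U).hom = p
  rw [Ideal.comap_map_of_surjective _ hsurj]
  exact sup_eq_left.2 (by rwa [RingHom.ker_eq_comap_bot] at hker)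

/-- From points to ideals. -/
theorem sIdeal_of_sAt (hS : FlatStable S) {i : Y ⟶ X} (h : ∀ y : Y, SAt S i (i y)) {U : X.Opens}
    (hU : IsAffineOpen U) (hi : IsClosedImmersion (i ∣_ U)) :
    SIdeal S (RingHom.ker (i.app U).hom) := by
  intro p hp hpI
  obtain ⟨y, hy⟩ := exists_of_ker_le hU hi p hpI
  obtain ⟨V, hyV, hcl, rs, hrs, hker⟩ := h y
  have hyU : i y ∈ U := by
    rw [hy]
    have : hU.fromSpec ⟨p, hp⟩ ∈ hU.fromSpec.opensRange := ⟨_, rfl⟩
    rwa [hU.opensRange_fromSpec] at this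
  obtain ⟨f, hfV, hyf⟩ := hU.exists_basicOpen_le (V := V.1) ⟨i y, hyV⟩ hyU
  replace hyf : i y ∈ X.basicOpen f := hyf
  refine ⟨f, ?_, ?_⟩
  · intro hfp
    rw [hy] at hyf
    have h1 : (⟨p, hp⟩ : Spec Γ(X, U)) ∈ hU.fromSpec ⁻¹ᵁ X.basicOpen f := hyf
    rw [hU.fromSpec_preimage_basicOpen] at h1
    exact h1 hfp
  · have hfU : X.basicOpen f ≤ U := X.basicOpen_le f
    obtain ⟨hcl', ss, hss, hker'⟩ := mono_aux hS V.2 hcl hrs hker (hU.basicOpen f) hfV
    have hloc : IsLocalization.Away f Γ(X, X.basicOpen f) := hU.isLocalization_basicOpen f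
    let e : Γ(X, X.basicOpen f) ≃ₐ[Γ(X, U)] Localization.Away f :=
      IsLocalization.algEquiv (Submonoid.powers f) _ _
    refine ⟨ss.map e, ?_, ?_⟩
    · exact hS _ _ (e : Γ(X, X.basicOpen f) →+* Localization.Away f)
        (RingHom.Flat.of_bijective e.bijective) _ hss
    · have h2 : (algebraMap Γ(X, U) (Localization.Away f)) =
          (e : Γ(X, X.basicOpen f) →+* Localization.Away f).comp
            (X.presheaf.map (homOfLE hfU).op).hom := by
        ext x
        exact (e.commutes x).symm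
      rw [h2, ← Ideal.map_map, ← ker_app_of_le hU (hU.basicOpen f) hfU hi, hker', Ideal.map_ofList]
      rfl

/-- From ideals to points. -/
theorem sAt_of_sIdeal (hS : FlatStable S) {i : Y ⟶ X} {U : X.Opens}
    (hU : IsAffineOpen U) (hi : IsClosedImmersion (i ∣_ U))
    (h : SIdeal S (RingHom.ker (i.app U).hom)) (y : Y) (hy : i y ∈ U) : SAt S i (i y) := by
  let P := hU.primeIdealOf ⟨i y, hy⟩
  have hP : hU.fromSpec P = i y := hU.fromSpec_primeIdealOf ⟨i y, hy⟩
  have hle : RingHom.ker (i.app U).hom ≤ P.asIdeal := by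
    intro f hf
    by_contra hfP
    have h1 : P ∈ hU.fromSpec ⁻¹ᵁ X.basicOpen f := by
      rw [hU.fromSpec_preimage_basicOpen]
      exact hfP
    have h2 : i y ∈ X.basicOpen f := by
      rw [← hP]; exact h1
    have h3 : y ∈ i ⁻¹ᵁ X.basicOpen f := h2
    rw [Scheme.Hom.preimage_basicOpen, show i.app U f = 0 from hf, Scheme.basicOpen_zero] at h3
    exact h3
  obtain ⟨f, hf, l, hl, hker⟩ := h P.asIdeal P.2 hle
  have hfU : X.basicOpen f ≤ U := X.basicOpen_le f
  have hloc : IsLocalization.Away f Γ(X, X.basicOpen f) := hU.isLocalization_basicOpen f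
  let e : Localization.Away f ≃ₐ[Γ(X, U)] Γ(X, X.basicOpen f) :=
    IsLocalization.algEquiv (Submonoid.powers f) _ _
  refine ⟨⟨X.basicOpen f, hU.basicOpen f⟩, ?_, isClosedImmersion_restrict_of_le hfU hi, l.map e,
    ?_, ?_⟩
  · have h1 : P ∈ hU.fromSpec ⁻¹ᵁ X.basicOpen f := by
      rw [hU.fromSpec_preimage_basicOpen]
      exact hf
    have h2 : hU.fromSpec P ∈ X.basicOpen f := h1
    rwa [hP] at h2
  · exact hS _ _ (e : Localization.Away f →+* Γ(X, X.basicOpen f))
      (RingHom.Flat.of_bijective e.bijective) _ hl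
  · have h2 : (X.presheaf.map (homOfLE hfU).op).hom =
        (e : Localization.Away f →+* Γ(X, X.basicOpen f)).comp
          (algebraMap Γ(X, U) (Localization.Away f)) := by
      ext x
      exact (e.commutes x).symm
    rw [ker_app_of_le hU (hU.basicOpen f) hfU hi, h2, ← Ideal.map_map, hker, Ideal.map_ofList]
    rfl

/-- A compact scheme is covered by an affine scheme. -/
lemma exists_affine_flat_surjective (W : Scheme.{u}) [CompactSpace W] :
    ∃ (T : Scheme.{u}) (q : T ⟶ W), IsAffine T ∧ Flat q ∧ Surjective q := by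
  let 𝒰 := W.affineCover.finiteSubcover
  have : Finite 𝒰.I₀ := inferInstance
  have h1 : ∀ j, IsAffine (𝒰.X j) := fun j => inferInstance
  let Y : 𝒰.I₀ → Scheme.{u} := fun j => 𝒰.X j
  have : ∀ j, IsAffine (Y j) := h1
  let q : (∐ Y) ⟶ W := Sigma.desc (fun j => 𝒰.f j)
  have hq1 : Flat q := IsZariskiLocalAtSource.sigmaDesc
    (P := (@Flat : MorphismProperty Scheme.{u})) fun x => inferInstance
  refine ⟨∐ Y, q, inferInstance, hq1, ⟨fun x => ?_⟩⟩
  obtain ⟨y, hy⟩ := 𝒰.covers x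
  refine ⟨Sigma.ι Y (𝒰.idx x) y, ?_⟩
  rw [← Scheme.Hom.comp_apply, Sigma.ι_desc]
  exact hy

/-- **Faithfully flat quasi-compact descent**, from descent for ideals. -/
theorem descent (hS : FlatStable S)
    (hdesc : ∀ (A B : Type u) [CommRing A] [CommRing B] [Algebra A B] [Module.FaithfullyFlat A B]
      (I : Ideal A), SIdeal S (I.map (algebraMap A B)) → SIdeal S I)
    {i : Y ⟶ X} [IsImmersion i] {g : X' ⟶ X} [Flat g] [Surjective g] [QuasiCompact g]
    {i' : Y' ⟶ X'} {g' : Y' ⟶ Y} (hsq : IsPullback g' i' i g) (h : ∀ y : Y', SAt S i' (i' y))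
    (y : Y) : SAt S i (i y) := by
  obtain ⟨U, hyU, -, hcl⟩ := exists_affine (i := i) y ⊤ trivial
  have : IsAffine (U.1 : Scheme) := U.2
  have hqc : QuasiCompact (g ∣_ U.1) := inferInstance
  have : CompactSpace (g ⁻¹ᵁ U.1 : Scheme) :=
    QuasiCompact.compactSpace_of_compactSpace (g ∣_ U.1)
  obtain ⟨T, q, hT, hqf, hqs⟩ := exists_affine_flat_surjective (g ⁻¹ᵁ U.1 : Scheme.{u})
  let t : T ⟶ X := q ≫ (g ⁻¹ᵁ U.1).ι ≫ g
  have ht : t = (q ≫ g ∣_ U.1) ≫ U.1.ι := by
    rw [Category.assoc, morphismRestrict_ι]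
  have hTU : (⊤ : T.Opens) ≤ t ⁻¹ᵁ U.1 := by
    intro x _
    change t x ∈ U.1
    rw [ht, Scheme.Hom.comp_apply]
    exact ((q ≫ g ∣_ U.1) x).2
  -- the base change to `T`
  let P := pullback (q ≫ (g ⁻¹ᵁ U.1).ι) i'
  have hP : IsPullback (pullback.snd (q ≫ (g ⁻¹ᵁ U.1).ι) i') (pullback.fst (q ≫ (g ⁻¹ᵁ U.1).ι) i')
    i' (q ≫ (g ⁻¹ᵁ U.1).ι) := (IsPullback.of_hasPullback _ _).flip
  have hflat : Flat (q ≫ (g ⁻¹ᵁ U.1).ι) := inferInstance
  have hall : ∀ y' : ↥(pullback (q ≫ (g ⁻¹ᵁ U.1).ι) i'),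
      SAt S (pullback.fst (q ≫ (g ⁻¹ᵁ U.1).ι) i') (pullback.fst (q ≫ (g ⁻¹ᵁ U.1).ι) i' y') := by
    intro y'
    apply SAt.base_change hS hP
    rw [← Scheme.Hom.comp_apply, ← hP.w, Scheme.Hom.comp_apply]
    exact h _
  have hPX : IsPullback (pullback.snd (q ≫ (g ⁻¹ᵁ U.1).ι) i' ≫ g')
      (pullback.fst (q ≫ (g ⁻¹ᵁ U.1).ι) i') i t := by
    have := hP.paste_horiz hsq
    simpa [t] using this
  have hflatt : Flat t := inferInstance
  have hcl' := isClosedImmersion_restrict hPX hTU hcl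
  have hI := sIdeal_of_sAt hS hall (isAffineOpen_top T) hcl'
  rw [ker_app_of_isPullback hPX U.2 (isAffineOpen_top T) hTU hcl] at hI
  refine sAt_of_sIdeal hS U.2 hcl ?_ y hyU
  let : Algebra Γ(X, U.1) Γ(T, ⊤) := (t.appLE U.1 ⊤ hTU).hom.toAlgebra
  have hff : Module.FaithfullyFlat Γ(X, U.1) Γ(T, ⊤) := by
    rw [← RingHom.faithfullyFlat_algebraMap_iff]
    have hgs : Surjective (g ∣_ U.1) := IsZariskiLocalAtTarget.restrict ‹_› _
    have h1 : Flat (q ≫ g ∣_ U.1) ∧ Surjective (q ≫ g ∣_ U.1) := ⟨inferInstance, inferInstance⟩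
    have h2 := (Flat.flat_and_surjective_iff_faithfullyFlat_of_isAffine (q ≫ g ∣_ U.1)).1 h1
    have h3 : t.appLE U.1 ⊤ hTU = U.1.topIso.inv ≫ (q ≫ g ∣_ U.1).appTop := by
      have h4 : U.1.topIso.inv = U.1.ι.appLE U.1 ⊤ (by simp) := by
        rw [Scheme.Opens.topIso_inv, Scheme.Opens.ι_appLE]
        rfl
      have h5 : (q ≫ g ∣_ U.1).appTop = (q ≫ g ∣_ U.1).appLE ⊤ ⊤ le_top :=
        (Scheme.Hom.appLE_eq_app _).symm
      rw [h4, h5, Scheme.Hom.appLE_comp_appLE]
      congr 1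
    change (t.appLE U.1 ⊤ hTU).hom.FaithfullyFlat
    rw [h3, CommRingCat.hom_comp]
    exact RingHom.FaithfullyFlat.stableUnderComposition _ _
      (RingHom.FaithfullyFlat.of_bijective (ConcreteCategory.bijective_of_isIso U.1.topIso.inv)) h2
  exact hdesc Γ(X, U.1) Γ(T, ⊤) _ hI

end K559.Gen
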