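import Groth.Agent.RegImm.K559.Gen
import Groth.Agent.Flat2H.KoszulDescent

/-!
# Faithfully flat descent of ideals locally generated by sequences of a given kind
-/

set_option autoImplicit false
universe u

open TensorProduct
open K559.Gen
open Groth.Agent.Flat2H.FibreRank Groth.Agent.Flat2H.KoszulDescent
open Groth.Agent.Flat2H.KoszulIdeal (exists_isLocalization_away_of_away)
open Groth.Agent.Flat2H.KoszulSeq (ofList_eq_span_range)

namespace K559.GenDesc

/-- The formal properties of a kind of sequences which imply faithfully flat descent. -/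
structure Good (S : ∀ (R : Type u) [CommRing R], List R → Prop) : Prop where
  flat : FlatStable S
  coeff : ∀ (A : Type u) [CommRing A] (l : List A), S A l → ∀ c : Fin l.length → A,
    ∑ i, c i * l.get i = 0 → ∀ i, c i ∈ Ideal.ofList l
  desc : ∀ (A B : Type u) [CommRing A] [CommRing B] [Algebra A B] [Module.FaithfullyFlat A B]
    (l : List A), S B (l.map (algebraMap A B)) → S A l
  loc : ∀ (A : Type u) [CommRing A] (l : List A), (∀ (p : Ideal A) [p.IsPrime],
    Ideal.ofList l ≤ p → S (Localization.AtPrime p)
      (l.map (algebraMap A (Localization.AtPrime p)))) → S A l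
  exch : ∀ (A : Type u) [CommRing A] [IsLocalRing A] (l l' : List A), S A l →
    Ideal.ofList l' = Ideal.ofList l → Ideal.ofList l ≤ IsLocalRing.maximalIdeal A →
    l'.length = l.length → S A l'

variable {S : ∀ (R : Type u) [CommRing R], List R → Prop} (hS : Good S)
  {A B : Type u} [CommRing A] [CommRing B]

include hS

lemma map_isUnit {I : Ideal A} (g : A) {l : List (Localization.Away g)}
    (hl : S (Localization.Away g) l)
    (hI : I.map (algebraMap A (Localization.Away g)) = Ideal.ofList l) (T : Type u) [CommRing T]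
    [Algebra A T] [Module.Flat A T] (hg : IsUnit (algebraMap A T g)) :
    ∃ m : List T, m.length = l.length ∧ S T m ∧ I.map (algebraMap A T) = Ideal.ofList m := by
  let φ : Localization.Away g →+* T := IsLocalization.Away.lift g hg
  let := φ.toAlgebra
  have hφ : φ.comp (algebraMap A (Localization.Away g)) = algebraMap A T :=
    IsLocalization.Away.lift_comp g hg
  have : IsScalarTower A (Localization.Away g) T := IsScalarTower.of_algebraMap_eq' hφ.symm
  have : Module.Flat (Localization.Away g) T :=
    (Module.flat_iff_of_isLocalization (Localization.Away g) (Submonoid.powers g) T).2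
      inferInstance
  refine ⟨l.map (algebraMap (Localization.Away g) T), by simp, hS.flat _ _ _ ?_ _ hl, ?_⟩
  · rw [RingHom.flat_algebraMap_iff]; infer_instance
  · rw [← Ideal.map_ofList, ← hI, Ideal.map_map, ← IsScalarTower.algebraMap_eq]

omit hS in
/-- a locally `S`-generated ideal is finitely generated. -/
lemma fg {J : Ideal A} (h : SIdeal S J) : J.FG := by
  refine Ideal.fg_of_localizationSpan
    {g : A | (J.map (algebraMap A (Localization.Away g))).FG} ?_ fun g => g.2
  by_contra hne
  obtain ⟨m, hm, hle⟩ := Ideal.exists_le_maximal _ hne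
  have := hm.isPrime
  by_cases hJ : J ≤ m
  · obtain ⟨g, hg, l, -, hl⟩ := h m this hJ
    refine hg (hle (Ideal.subset_span ?_))
    rw [Set.mem_ofPred_eq, hl]
    classical exact ⟨l.toFinset, by simp [Ideal.ofList]⟩
  · obtain ⟨g, hgJ, hg⟩ := Set.not_subset.1 hJ
    refine hg (hle (Ideal.subset_span ?_))
    rw [Set.mem_ofPred_eq, Ideal.eq_top_of_isUnit_mem _ (Ideal.mem_map_of_mem _ hgJ)
      (IsLocalization.Away.algebraMap_isUnit g)]
    exact ⟨{1}, by simp⟩

/-- The fibre rank of an ideal generated by an `S`-sequence. -/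
lemma mu_ofList {l : List A} (hl : S A l) (K : Type u) [Field K] [Algebra A K]
    (hK : ∀ f ∈ l, algebraMap A K f = 0) : mu (Ideal.ofList l) K = l.length := by
  have hK' : ∀ f ∈ Ideal.ofList l, algebraMap A K f = 0 := by
    have : Ideal.ofList l ≤ RingHom.ker (algebraMap A K) := Ideal.span_le.2 fun f hf => hK f hf
    exact fun f hf => this hf
  let s : (Fin l.length → A) →ₗ[A] Ideal.ofList l :=
    Fintype.linearCombination A
      (fun i => (⟨l.get i, Ideal.subset_span (List.get_mem l i)⟩ : Ideal.ofList l))
  have hs : Function.Surjective s := by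
    rw [← LinearMap.range_eq_top, Fintype.range_linearCombination]
    apply Submodule.map_injective_of_injective (Ideal.ofList l).injective_subtype
    rw [Submodule.map_span, Submodule.map_top, Submodule.range_subtype, ← Set.range_comp]
    exact (ofList_eq_span_range l).symm
  have hex : Function.Exact (LinearMap.lTensor K (LinearMap.ker s).subtype) (LinearMap.lTensor K s) :=
    lTensor_exact K (LinearMap.exact_subtype_ker_map s) hs
  have h0 : LinearMap.lTensor K (LinearMap.ker s).subtype = 0 := by
    apply TensorProduct.ext'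
    rintro k ⟨z, hz⟩
    rw [LinearMap.lTensor_tmul, LinearMap.zero_apply, Submodule.subtype_apply]
    have hz' : ∀ i, z i ∈ Ideal.ofList l := by
      apply hS.coeff A l hl z
      have := congrArg Subtype.val (LinearMap.mem_ker.1 hz)
      simpa [s, Fintype.linearCombination_apply] using this
    change k ⊗ₜ[A] z = 0
    rw [pi_eq_sum_univ' z, TensorProduct.tmul_sum]
    apply Finset.sum_eq_zero
    intro i _
    rw [← TensorProduct.smul_tmul, Algebra.smul_def, hK' _ (hz' i), zero_mul, TensorProduct.zero_tmul]
  have hinj : Function.Injective (LinearMap.lTensor K s) := by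
    rw [injective_iff_map_eq_zero]
    intro x hx
    obtain ⟨y, rfl⟩ := (hex x).1 hx
    rw [h0, LinearMap.zero_apply]
  let e : K ⊗[A] (Fin l.length → A) ≃ₗ[K] K ⊗[A] (Ideal.ofList l) :=
    LinearEquiv.ofBijective (s.baseChange K) ⟨hinj, LinearMap.lTensor_surjective K hs⟩
  have hA : Nontrivial A := (algebraMap A K).domain_nontrivial
  unfold mu
  rw [← e.finrank_eq, Module.finrank_baseChange, Module.finrank_fin_fun]

omit hS in
/-- The fibre rank is at most the number of generators. -/
lemma mu_le_length (l : List A) (K : Type u) [Field K] [Algebra A K] :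
    mu (Ideal.ofList l) K ≤ l.length := by
  let s : (Fin l.length → A) →ₗ[A] Ideal.ofList l :=
    Fintype.linearCombination A
      (fun i => (⟨l.get i, Ideal.subset_span (List.get_mem l i)⟩ : Ideal.ofList l))
  have hs : Function.Surjective s := by
    rw [← LinearMap.range_eq_top, Fintype.range_linearCombination]
    apply Submodule.map_injective_of_injective (Ideal.ofList l).injective_subtype
    rw [Submodule.map_span, Submodule.map_top, Submodule.range_subtype, ← Set.range_comp]
    exact (ofList_eq_span_range l).symm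
  have hA : Nontrivial A := (algebraMap A K).domain_nontrivial
  have h1 := LinearMap.finrank_le_finrank_of_surjective (f := s.baseChange K)
    (LinearMap.lTensor_surjective K hs)
  rwa [Module.finrank_baseChange (M' := Fin l.length → A), Module.finrank_fin_fun] at h1

/-- Fibre rank of `J` when `J` is generated by an `S`-sequence on `D(g)`. -/
lemma mu_eq_length {J : Ideal A} (g : A) {l : List (Localization.Away g)}
    (hl : S (Localization.Away g) l)
    (hJ : J.map (algebraMap A (Localization.Away g)) = Ideal.ofList l) (q : Ideal A) [q.IsPrime]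
    (hg : g ∉ q) (hq : J ≤ q) : mu J q.ResidueField = l.length := by
  have hu : IsUnit (algebraMap A q.ResidueField g) :=
    IsUnit.mk0 _ (fun h => hg (Ideal.algebraMap_residueField_eq_zero.1 h))
  let := (IsLocalization.Away.lift g hu : Localization.Away g →+* q.ResidueField).toAlgebra
  have : IsScalarTower A (Localization.Away g) q.ResidueField :=
    IsScalarTower.of_algebraMap_eq' (IsLocalization.Away.lift_comp g hu).symm
  rw [← mu_map (T := Localization.Away g) J q.ResidueField, hJ]
  refine mu_ofList hS hl _ fun f hf => ?_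
  have h1 : J.map (algebraMap A (Localization.Away g)) ≤
      RingHom.ker (algebraMap (Localization.Away g) q.ResidueField) := by
    rw [Ideal.map_le_iff_le_comap]
    intro x hx
    rw [Ideal.mem_comap, RingHom.mem_ker, ← IsScalarTower.algebraMap_apply]
    exact Ideal.algebraMap_residueField_eq_zero.2 (hq hx)
  exact h1 (hJ ▸ Ideal.subset_span hf)

/-- Lower semicontinuity of the fibre rank. -/
lemma isOpen_le_mu {J : Ideal A} (hJ : SIdeal S J) (r : ℕ) :
    IsOpen {q : PrimeSpectrum A | J ≤ q.asIdeal → r ≤ mu J q.asIdeal.ResidueField} := by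
  rw [isOpen_iff_forall_mem_open]
  intro q hq
  by_cases hJq : J ≤ q.asIdeal
  · obtain ⟨g, hg, l, hl, hJl⟩ := hJ q.asIdeal q.2 hJq
    have h1 := mu_eq_length hS g hl hJl q.asIdeal hg hJq
    refine ⟨PrimeSpectrum.basicOpen g, fun q' hq' hJq' => ?_, PrimeSpectrum.isOpen_basicOpen, hg⟩
    rw [mu_eq_length hS g hl hJl q'.asIdeal hq' hJq', ← h1]
    exact hq hJq
  · obtain ⟨x, hx, hxq⟩ := Set.not_subset.1 hJq
    exact ⟨PrimeSpectrum.basicOpen x, fun q' hq' hJq' => absurd (hJq' hx) hq',
      PrimeSpectrum.isOpen_basicOpen, hxq⟩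

lemma isOpen_le_mu_of_faithfullyFlat [Algebra A B] [Module.FaithfullyFlat A B] {I : Ideal A}
    (h : SIdeal S (I.map (algebraMap A B))) (r : ℕ) :
    IsOpen {p : PrimeSpectrum A | I ≤ p.asIdeal → r ≤ mu I p.asIdeal.ResidueField} := by
  have hq : Topology.IsQuotientMap (PrimeSpectrum.comap (algebraMap A B)) :=
    PrimeSpectrum.isQuotientMap_of_generalizingMap PrimeSpectrum.comap_surjective_of_faithfullyFlat
      (RingHom.Flat.generalizingMap_comap ((RingHom.flat_algebraMap_iff).2 inferInstance))
  rw [← hq.isOpen_preimage]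
  convert isOpen_le_mu hS h r using 1
  ext q
  have h1 : mu I (PrimeSpectrum.comap (algebraMap A B) q).asIdeal.ResidueField =
    mu (I.map (algebraMap A B)) q.asIdeal.ResidueField := mu_comap I q.asIdeal
  have h2 : I ≤ (PrimeSpectrum.comap (algebraMap A B) q).asIdeal ↔
    I.map (algebraMap A B) ≤ q.asIdeal := Ideal.map_le_iff_le_comap.symm
  simp only [Set.mem_preimage, Set.mem_ofPred_eq, h1, h2]

/-- Faithfully flat descent. -/
theorem descent [Algebra A B] [Module.FaithfullyFlat A B]
    {I : Ideal A} (h : SIdeal S (I.map (algebraMap A B))) : SIdeal S I := by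
  have hfg : I.FG := Ideal.FG.of_FG_map_of_faithfullyFlat (fg h)
  intro p hp hI
  obtain ⟨f, a, hf, ha, haf⟩ := exists_generators hfg p
  obtain ⟨_, ⟨b, rfl⟩, hbp, hbW⟩ := PrimeSpectrum.isTopologicalBasis_basic_opens.isOpen_iff.1
    (isOpen_le_mu_of_faithfullyFlat hS h (mu I p.ResidueField)) ⟨p, hp⟩ (fun _ => le_rfl)
  let Ag := Localization.Away (a * b)
  let C := Ag ⊗[A] B
  have hab : IsUnit (algebraMap A Ag (a * b)) := IsLocalization.Away.algebraMap_isUnit (a * b)
  let l : List Ag := List.ofFn (fun i => algebraMap A Ag (f i))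
  have hIl : I.map (algebraMap A Ag) = Ideal.ofList l := by
    apply le_antisymm
    · rw [Ideal.map_le_iff_le_comap]
      intro x hx
      have h1 := Ideal.mem_map_of_mem (algebraMap A Ag) (haf x hx)
      rw [Ideal.map_span, ← Set.range_comp] at h1
      have h2 : Ideal.span (Set.range (⇑(algebraMap A Ag) ∘ f)) = Ideal.ofList l := by
        rw [Ideal.ofList]
        congr 1
        ext y
        simp [l]
      rw [h2, map_mul] at h1
      have h3 : IsUnit (algebraMap A Ag a) := isUnit_of_mul_isUnit_left (by rwa [map_mul] at hab)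
      rw [Ideal.mem_comap]
      exact (Ideal.unit_mul_mem_iff_mem _ h3).1 h1
    · refine Ideal.span_le.2 fun y hy => ?_
      obtain ⟨i, rfl⟩ := (List.mem_ofFn' _ _).1 hy
      exact Ideal.mem_map_of_mem _ (hf i)
  refine ⟨a * b, ?_, l, ?_, hIl⟩
  · rw [hp.mul_mem_iff_mem_or_mem, not_or]
    exact ⟨ha, hbp⟩
  refine hS.desc Ag C _ (hS.loc _ _ fun Q hQ hlQ => ?_)
  let := (Algebra.TensorProduct.includeRight : B →ₐ[A] C).toRingHom.toAlgebra
  have : Module.Flat B C := Groth.Agent.Flat2H.LCIMaps2.flat_includeRight A Ag B
  have : IsScalarTower A B C := IsScalarTower.of_algebraMap_eq' (by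
    exact (Algebra.TensorProduct.includeRight : B →ₐ[A] C).comp_algebraMap.symm)
  have : Module.Flat B (Localization.AtPrime Q) := Module.Flat.trans B C _
  have hIQ : I ≤ (Q.comap (algebraMap B C)).comap (algebraMap A B) := by
    rw [← Ideal.map_ofList, ← hIl, Ideal.map_map, ← IsScalarTower.algebraMap_eq,
      Ideal.map_le_iff_le_comap, IsScalarTower.algebraMap_eq A B C, ← Ideal.comap_comap] at hlQ
    exact hlQ
  have hbQ : b ∉ (Q.comap (algebraMap B C)).comap (algebraMap A B) := by
    intro hb
    rw [Ideal.comap_comap, ← IsScalarTower.algebraMap_eq, Ideal.mem_comap,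
      IsScalarTower.algebraMap_apply A Ag C] at hb
    have h3 : IsUnit (algebraMap A Ag b) := isUnit_of_mul_isUnit_right (by rwa [map_mul] at hab)
    exact hQ.ne_top (Ideal.eq_top_of_isUnit_mem _ hb (h3.map _))
  have hr : mu I p.ResidueField ≤ mu (I.map (algebraMap A B)) (Q.comap (algebraMap B C)).ResidueField := by
    rw [← mu_comap]
    exact hbW (a := ⟨(Q.comap (algebraMap B C)).comap (algebraMap A B), inferInstance⟩) hbQ hIQ
  obtain ⟨g, hg, l', hl', hJl'⟩ := h (Q.comap (algebraMap B C))
    inferInstance (Ideal.map_le_iff_le_comap.2 hIQ)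
  rw [mu_eq_length hS g hl' hJl' _ hg (Ideal.map_le_iff_le_comap.2 hIQ)] at hr
  obtain ⟨m, hm, hmr, hmI⟩ := map_isUnit hS g hl' hJl' (Localization.AtPrime Q) (by
    rw [IsScalarTower.algebraMap_apply B C]
    exact IsLocalization.map_units _ (⟨algebraMap B C g, hg⟩ : Q.primeCompl))
  have heq : Ideal.ofList ((l.map (algebraMap Ag C)).map (algebraMap C (Localization.AtPrime Q))) =
      Ideal.ofList m := by
    rw [← hmI, ← Ideal.map_ofList, ← Ideal.map_ofList, ← hIl, Ideal.map_map, Ideal.map_map,
      Ideal.map_map, ← IsScalarTower.algebraMap_eq, ← IsScalarTower.algebraMap_eq,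
      ← IsScalarTower.algebraMap_eq]
  have hle : Ideal.ofList m ≤ IsLocalRing.maximalIdeal (Localization.AtPrime Q) := by
    rw [← heq, ← Ideal.map_ofList]
    rw [Ideal.map_le_iff_le_comap]
    refine hlQ.trans ?_
    exact (IsLocalization.AtPrime.under_maximalIdeal (Localization.AtPrime Q) Q).ge
  refine hS.exch _ m _ hmr heq hle ?_
  have hlen : ((l.map (algebraMap Ag C)).map (algebraMap C (Localization.AtPrime Q))).length =
      mu I p.ResidueField := by simp [l]
  refine le_antisymm (by rw [hlen, hm]; exact hr) ?_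
  have h5 := mu_ofList hS hmr (IsLocalRing.ResidueField (Localization.AtPrime Q)) (fun f hf => by
    rw [IsLocalRing.ResidueField.algebraMap_eq, IsLocalRing.residue_eq_zero_iff]
    exact hle (Ideal.subset_span hf))
  rw [← heq] at h5
  rw [← h5]
  exact mu_le_length _ _

end K559.GenDesc
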