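import Groth.Prelude.Def_RegImm
import Groth.Agent.CalgB.QuasiRegular
import Groth.Agent.Ega4late.H521.QRegSpan
import Mathlib.RingTheory.Flat.EquationalCriterion
import Mathlib.RingTheory.Flat.FaithfullyFlat.Algebra
import Mathlib.RingTheory.Localization.AtPrime.Basic

/-!
# `H_1`-regular and quasi-regular sequences: flat base change, descent, localization
-/

set_option autoImplicit false
universe u

open MvPolynomial TensorProduct

namespace K559.H1Flat

variable {A B : Type u} [CommRing A] [CommRing B]

/-- The trivial relations. -/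
abbrev triv {c : ℕ} (f : Fin c → A) : Submodule A (Fin c → A) :=
  Submodule.span A {v : Fin c → A | ∃ i j : Fin c, v = Pi.single i (f j) - Pi.single j (f i)}

lemma isH1Regular_iff {c : ℕ} (f : Fin c → A) :
    CAlgX.IsH1Regular f ↔ ∀ a : Fin c → A, ∑ i, a i * f i = 0 → a ∈ triv f := Iff.rfl

lemma coeff_mem_of_mem_triv {c : ℕ} {f : Fin c → A} {a : Fin c → A} (ha : a ∈ triv f) (i : Fin c) :
    a i ∈ Ideal.span (Set.range f) := by
  induction ha using Submodule.span_induction with
  | mem v hv =>
    obtain ⟨k, l, rfl⟩ := hv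
    rw [Pi.sub_apply]
    refine sub_mem ?_ ?_
    · by_cases h : i = k
      · subst h; rw [Pi.single_eq_same]; exact Ideal.subset_span ⟨l, rfl⟩
      · simp [Pi.single_eq_of_ne h]
    · by_cases h : i = l
      · subst h; rw [Pi.single_eq_same]; exact Ideal.subset_span ⟨k, rfl⟩
      · simp [Pi.single_eq_of_ne h]
  | zero => exact zero_mem _
  | add v w _ _ hv hw => exact add_mem hv hw
  | smul r v _ hv => exact Ideal.mul_mem_left _ _ hv

lemma map_mem_triv {c : ℕ} (φ : A →+* B) (f : Fin c → A) {a : Fin c → A} (ha : a ∈ triv f) :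
    (fun i => φ (a i)) ∈ triv (fun i => φ (f i)) := by
  induction ha using Submodule.span_induction with
  | mem v hv =>
    obtain ⟨i, j, rfl⟩ := hv
    refine Submodule.subset_span ⟨i, j, ?_⟩
    funext l
    have hs : ∀ (k : Fin c) (r : A), φ ((Pi.single k r : Fin c → A) l) =
        (Pi.single k (φ r) : Fin c → B) l := by
      intro k r
      by_cases hkl : l = k
      · subst hkl; simp
      · simp [Pi.single_eq_of_ne hkl]
    simp only [Pi.sub_apply, map_sub, hs]
  | zero => simp only [Pi.zero_apply, map_zero]; exact Submodule.zero_mem _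
  | add v w _ _ hv hw =>
    simp only [Pi.add_apply, map_add]
    exact Submodule.add_mem _ hv hw
  | smul r v _ hv =>
    have : (fun i => φ ((r • v) i)) = φ r • (fun i => φ (v i)) := by
      funext i; simp
    rw [this]
    exact Submodule.smul_mem _ _ hv

/-- Flat base change for `H_1`-regular sequences. -/
theorem isH1Regular_of_flat [Algebra A B] [Module.Flat A B] {c : ℕ} {f : Fin c → A}
    (hf : CAlgX.IsH1Regular f) : CAlgX.IsH1Regular (fun i => algebraMap A B (f i)) := by
  rw [isH1Regular_iff]
  intro b hb
  have h0 : ∑ i, f i • b i = 0 := by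
    rw [← hb]
    exact Finset.sum_congr rfl fun i _ => by rw [Algebra.smul_def, mul_comm]
  obtain ⟨k, a, y, hy, ha⟩ := Module.Flat.isTrivialRelation_of_sum_smul_eq_zero h0
  have h1 : b = ∑ j, y j • (fun i => algebraMap A B (a i j)) := by
    funext i
    rw [hy i, Finset.sum_apply]
    exact Finset.sum_congr rfl fun j _ => by
      rw [Algebra.smul_def, Pi.smul_apply, smul_eq_mul, mul_comm]
  rw [h1]
  refine Submodule.sum_mem _ fun j _ => Submodule.smul_mem _ _ ?_
  refine map_mem_triv (algebraMap A B) f (a := fun i => a i j) ?_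
  refine hf _ ?_
  rw [← ha j]
  exact Finset.sum_congr rfl fun i _ => mul_comm _ _

/-- Faithfully flat descent for `H_1`-regular sequences. -/
theorem isH1Regular_of_faithfullyFlat [Algebra A B] [Module.FaithfullyFlat A B] {c : ℕ}
    {f : Fin c → A} (hf : CAlgX.IsH1Regular (fun i => algebraMap A B (f i))) :
    CAlgX.IsH1Regular f := by
  rw [isH1Regular_iff] at hf ⊢
  intro a ha
  have h1 : (fun i => algebraMap A B (a i)) ∈ triv (fun i => algebraMap A B (f i)) := by
    apply hf
    have := congrArg (algebraMap A B) ha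
    simpa [map_sum] using this
  let Q := (Fin c → A) ⧸ triv f
  let e : Fin c → Q := fun i => Submodule.Quotient.mk (Pi.single i 1)
  let Φ : (Fin c → B) →ₗ[B] B ⊗[A] Q := Fintype.linearCombination B (fun i => (1 : B) ⊗ₜ[A] e i)
  have he : ∀ (i : Fin c) (r : A), r • e i = Submodule.Quotient.mk (Pi.single i r) := by
    intro i r
    rw [← Submodule.Quotient.mk_smul]
    congr 1
    rw [← Pi.single_smul, smul_eq_mul, mul_one]
  have hΦs : ∀ (i : Fin c) (r : A), Φ (Pi.single i (algebraMap A B r)) = (1 : B) ⊗ₜ[A] (r • e i) := by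
    intro i r
    rw [Fintype.linearCombination_apply_single, TensorProduct.smul_tmul', TensorProduct.tmul_smul,
      smul_eq_mul, mul_one, TensorProduct.smul_tmul', Algebra.smul_def, mul_one]
  have hker : triv (fun i => algebraMap A B (f i)) ≤ LinearMap.ker Φ := by
    refine Submodule.span_le.2 ?_
    rintro _ ⟨i, j, rfl⟩
    rw [SetLike.mem_coe, LinearMap.mem_ker, map_sub, hΦs, hΦs, ← TensorProduct.tmul_sub, he, he,
      ← Submodule.Quotient.mk_sub, (Submodule.Quotient.mk_eq_zero _).2, TensorProduct.tmul_zero]
    exact Submodule.subset_span ⟨i, j, rfl⟩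
  have h2 := hker h1
  rw [LinearMap.mem_ker, Fintype.linearCombination_apply] at h2
  have h3 : (1 : B) ⊗ₜ[A] (Submodule.Quotient.mk a : Q) = 0 := by
    rw [← h2]
    have h4 : (Submodule.Quotient.mk a : Q) = ∑ i, a i • e i := by
      have h5 : a = ∑ i, Pi.single i (a i) := by
        exact (Finset.univ_sum_single a).symm
      conv_lhs => rw [h5]
      rw [← Submodule.mkQ_apply, map_sum]
      exact Finset.sum_congr rfl fun i _ => (he i (a i)).symm
    rw [h4, TensorProduct.tmul_sum]
    exact Finset.sum_congr rfl fun i _ => by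
      rw [TensorProduct.tmul_smul, TensorProduct.smul_tmul', Algebra.smul_def, mul_one,
        TensorProduct.smul_tmul', smul_eq_mul, mul_one]
  rw [Module.FaithfullyFlat.one_tmul_eq_zero_iff, Submodule.Quotient.mk_eq_zero] at h3
  exact h3

lemma smul_mem_triv {c : ℕ} {f : Fin c → A} {a : Fin c → A} (ha : ∑ i, a i * f i = 0) {x : A}
    (hx : x ∈ Ideal.span (Set.range f)) : x • a ∈ triv f := by
  classical
  induction hx using Submodule.span_induction with
  | mem x hx =>
    obtain ⟨k, rfl⟩ := hx
    have h1 : f k • a = ∑ i, a i • (Pi.single i (f k) - Pi.single k (f i)) := by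
      have h2 : ∑ i, a i • (Pi.single k (f i) : Fin c → A) = 0 := by
        have : ∀ i, a i • (Pi.single k (f i) : Fin c → A) = Pi.single k (a i * f i) := by
          intro i
          rw [← Pi.single_smul, smul_eq_mul]
        simp only [this]
        funext j
        rw [Finset.sum_apply]
        by_cases hj : j = k
        · subst hj; simpa using ha
        · simp [Pi.single_eq_of_ne hj]
      simp only [smul_sub, Finset.sum_sub_distrib, h2, sub_zero]
      funext j
      rw [Finset.sum_apply, Finset.sum_eq_single j]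
      · simp [mul_comm]
      · intro b _ hb
        simp [Pi.single_eq_of_ne (Ne.symm hb)]
      · simp
    rw [h1]
    exact Submodule.sum_mem _ fun i _ => Submodule.smul_mem _ _ (Submodule.subset_span ⟨i, k, rfl⟩)
  | zero => simp
  | add x y _ _ hx hy => rw [add_smul]; exact Submodule.add_mem _ hx hy
  | smul r x _ hx => rw [smul_eq_mul, mul_smul]; exact Submodule.smul_mem _ _ hx

lemma exists_smul_mem {c : ℕ} {f : Fin c → A} (p : Ideal A) [p.IsPrime]
    {v : Fin c → Localization.AtPrime p}
    (hv : v ∈ triv (fun i => algebraMap A (Localization.AtPrime p) (f i))) :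
    ∃ s : A, s ∉ p ∧ ∃ t ∈ triv f, ∀ i, algebraMap A (Localization.AtPrime p) s * v i =
      algebraMap A (Localization.AtPrime p) (t i) := by
  induction hv using Submodule.span_induction with
  | mem v hv =>
    obtain ⟨i, j, rfl⟩ := hv
    refine ⟨1, (Ideal.ne_top_iff_one p).1 Ideal.IsPrime.ne_top', _,
      Submodule.subset_span ⟨i, j, rfl⟩, fun l => ?_⟩
    have hs : ∀ (k : Fin c) (r : A), algebraMap A (Localization.AtPrime p)
        ((Pi.single k r : Fin c → A) l) =
        (Pi.single k (algebraMap A (Localization.AtPrime p) r) : Fin c → _) l := by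
      intro k r
      by_cases hkl : l = k
      · subst hkl; simp
      · simp [Pi.single_eq_of_ne hkl]
    rw [map_one, one_mul, Pi.sub_apply, Pi.sub_apply, map_sub, hs, hs]
  | zero => exact ⟨1, (Ideal.ne_top_iff_one p).1 Ideal.IsPrime.ne_top', 0, zero_mem _, by simp⟩
  | add v w _ _ hv hw =>
    obtain ⟨s, hs, t, ht, h⟩ := hv
    obtain ⟨s', hs', t', ht', h'⟩ := hw
    refine ⟨s * s', fun hss => (Ideal.IsPrime.mem_or_mem ‹_› hss).elim hs hs', s' • t + s • t',
      add_mem (Submodule.smul_mem _ _ ht) (Submodule.smul_mem _ _ ht'), fun i => ?_⟩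
    rw [Pi.add_apply, Pi.add_apply, Pi.smul_apply, Pi.smul_apply, smul_eq_mul, smul_eq_mul, map_add,
      map_mul, map_mul, map_mul, ← h, ← h']
    ring
  | smul r v _ hv =>
    obtain ⟨s, hs, t, ht, h⟩ := hv
    obtain ⟨r', s', hr⟩ := IsLocalization.exists_mk'_eq p.primeCompl r
    refine ⟨s' * s, fun hss => (Ideal.IsPrime.mem_or_mem ‹_› hss).elim s'.2 hs, r' • t,
      Submodule.smul_mem _ _ ht, fun i => ?_⟩
    have hr' : algebraMap A (Localization.AtPrime p) s' * r = algebraMap A _ r' := by
      rw [← hr, mul_comm, IsLocalization.mk'_spec]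
    rw [Pi.smul_apply, Pi.smul_apply, smul_eq_mul, smul_eq_mul, map_mul, map_mul, ← h, ← hr']
    ring

/-- `H_1`-regularity can be checked at the primes containing the ideal. -/
theorem isH1Regular_of_localization {c : ℕ} {f : Fin c → A}
    (h : ∀ (p : Ideal A) [p.IsPrime], Ideal.span (Set.range f) ≤ p →
      CAlgX.IsH1Regular (fun i => algebraMap A (Localization.AtPrime p) (f i))) :
    CAlgX.IsH1Regular f := by
  rw [isH1Regular_iff]
  intro a ha
  by_contra hne
  let K : Ideal A := (triv f).comap (LinearMap.toSpanSingleton A (Fin c → A) a)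
  have hK : ∀ x, x ∈ K ↔ x • a ∈ triv f := fun x => by
    rw [Submodule.mem_comap, LinearMap.toSpanSingleton_apply]
  have hKt : K ≠ ⊤ := fun h => hne (by
    have := (hK 1).1 (h ▸ trivial)
    rwa [one_smul] at this)
  obtain ⟨m, hm, hle⟩ := Ideal.exists_le_maximal K hKt
  have := hm.isPrime
  have hJ : Ideal.span (Set.range f) ≤ m := fun x hx => hle ((hK x).2 (smul_mem_triv ha hx))
  have h1 : (fun i => algebraMap A (Localization.AtPrime m) (a i)) ∈
      triv (fun i => algebraMap A (Localization.AtPrime m) (f i)) := by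
    refine h m hJ _ ?_
    have := congrArg (algebraMap A (Localization.AtPrime m)) ha
    simpa [map_sum] using this
  obtain ⟨s, hs, t, ht, hst⟩ := exists_smul_mem m h1
  have h2 : ∀ i, ∃ u : m.primeCompl, (u : A) * (s * a i) = u * t i := fun i => by
    have := hst i
    rw [← map_mul] at this
    exact (IsLocalization.eq_iff_exists m.primeCompl (Localization.AtPrime m)).1 this
  choose u hu using h2
  let w : m.primeCompl := ∏ i, u i
  have hw : ∀ i, (w : A) * (s * a i) = w * t i := by
    intro i
    have : w = (∏ j ∈ Finset.univ.erase i, u j) * u i := by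
      rw [Finset.prod_erase_mul _ _ (Finset.mem_univ i)]
    rw [this, Submonoid.coe_mul, mul_assoc, hu, mul_assoc]
  have h3 : (w : A) * s ∈ K := by
    rw [hK]
    have : ((w : A) * s) • a = (w : A) • t := by
      funext i
      rw [Pi.smul_apply, Pi.smul_apply, smul_eq_mul, smul_eq_mul, mul_assoc, hw]
    rw [this]
    exact Submodule.smul_mem _ _ ht
  exact (this.mem_or_mem (hle h3)).elim w.2 hs

/-- Change of generators in a local ring. -/
theorem isH1Regular_of_span_eq [IsLocalRing A] {n : ℕ} {f f' : Fin n → A}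
    (hf : CAlgX.IsH1Regular f) (h : Ideal.span (Set.range f') = Ideal.span (Set.range f))
    (hm : Ideal.span (Set.range f) ≤ IsLocalRing.maximalIdeal A) : CAlgX.IsH1Regular f' := by
  classical
  have hb : ∀ i, ∃ c : Fin n → A, ∑ j, c j * f' j = f i := by
    intro i
    rw [← Ideal.mem_span_range_iff_exists_fun, h]
    exact Ideal.subset_span ⟨i, rfl⟩
  have ha : ∀ j, ∃ c : Fin n → A, ∑ k, c k * f k = f' j := by
    intro j
    rw [← Ideal.mem_span_range_iff_exists_fun, ← h]
    exact Ideal.subset_span ⟨j, rfl⟩
  choose N hN using hb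
  choose M hM using ha
  let N' : Matrix (Fin n) (Fin n) A := Matrix.of N
  let M' : Matrix (Fin n) (Fin n) A := Matrix.of M
  have hN' : N'.mulVec f' = f := funext fun i => hN i
  have hM' : M'.mulVec f = f' := funext fun i => hM i
  have h1 : (N' * M' - 1).mulVec f = 0 := by
    rw [Matrix.sub_mulVec, ← Matrix.mulVec_mulVec, hM', hN', Matrix.one_mulVec, sub_self]
  have h2 : ∀ i j, (N' * M' - 1) i j ∈ IsLocalRing.maximalIdeal A := fun i j =>
    hm (coeff_mem_of_mem_triv (hf _ (congrFun h1 i)) j)
  have h3 : IsUnit (N' * M').det := by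
    rw [← IsLocalRing.residue_ne_zero_iff_isUnit, RingHom.map_det]
    have : (IsLocalRing.residue A).mapMatrix (N' * M') = 1 := by
      ext i j
      have := (IsLocalRing.residue_eq_zero_iff _).2 (h2 i j)
      rw [Matrix.sub_apply, map_sub, sub_eq_zero] at this
      rw [RingHom.mapMatrix_apply, Matrix.map_apply, this]
      by_cases hij : i = j
      · subst hij; simp
      · simp [Matrix.one_apply_ne hij]
    change (Matrix.det ((IsLocalRing.residue A).mapMatrix (N' * M'))) ≠ 0
    rw [this, Matrix.det_one]
    exact one_ne_zero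
  have h4 : IsUnit M'.det := by
    rw [Matrix.det_mul] at h3
    exact isUnit_of_mul_isUnit_right h3
  let L := M'⁻¹
  have hML : M' * L = 1 := Matrix.mul_nonsing_inv M' h4
  have hL : L.mulVec f' = f := by
    rw [← hM', Matrix.mulVec_mulVec, Matrix.nonsing_inv_mul M' h4, Matrix.one_mulVec]
  rw [isH1Regular_iff]
  intro a ha
  have h5 : Matrix.vecMul a M' ∈ triv f := by
    apply hf
    change dotProduct (Matrix.vecMul a M') f = 0
    rw [← Matrix.dotProduct_mulVec, hM']
    exact ha
  have h6 : Matrix.vecMul (Matrix.vecMul a M') L = a := by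
    rw [Matrix.vecMul_vecMul, hML, Matrix.vecMul_one]
  have h7 : triv f ≤ (triv f').comap (Matrix.vecMulLinear L) := by
    refine Submodule.span_le.2 ?_
    rintro _ ⟨i, j, rfl⟩
    rw [SetLike.mem_coe, Submodule.mem_comap, Matrix.vecMulLinear_apply]
    have h8 : Matrix.vecMul (Pi.single i (f j) - Pi.single j (f i)) L =
        ∑ k, ∑ l, (L i k * L j l) • (Pi.single k (f' l) - Pi.single l (f' k) : Fin n → A) := by
      funext r
      rw [Matrix.sub_vecMul, Pi.sub_apply, Matrix.single_vecMul, Matrix.single_vecMul]
      simp only [Finset.sum_apply, Pi.smul_apply, Pi.sub_apply, smul_eq_mul, mul_sub,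
        Finset.sum_sub_distrib]
      congr 1
      · rw [Finset.sum_eq_single r]
        · simp only [Pi.single_eq_same, Matrix.row]
          rw [← hL]
          rw [Matrix.mulVec, dotProduct, Finset.sum_mul]
          exact Finset.sum_congr rfl fun l _ => by ring
        · intro b _ hb
          exact Finset.sum_eq_zero fun l _ => by rw [Pi.single_eq_of_ne (Ne.symm hb), mul_zero]
        · simp
      · rw [Finset.sum_comm, Finset.sum_eq_single r]
        · simp only [Pi.single_eq_same, Matrix.row]
          rw [← hL]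
          rw [Matrix.mulVec, dotProduct, Finset.sum_mul]
          exact Finset.sum_congr rfl fun l _ => by ring
        · intro b _ hb
          exact Finset.sum_eq_zero fun l _ => by rw [Pi.single_eq_of_ne (Ne.symm hb), mul_zero]
        · simp
    rw [h8]
    exact Submodule.sum_mem _ fun k _ => Submodule.sum_mem _ fun l _ =>
      Submodule.smul_mem _ _ (Submodule.subset_span ⟨k, l, rfl⟩)
  have h9 := h7 h5
  rwa [Submodule.mem_comap, Matrix.vecMulLinear_apply, h6] at h9

end K559.H1Flat
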