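import Groth.Agent.RegImm.K559.H1Flat

/-!
# `I ⊓ J² ≤ I * J` when `J / I` is generated by an `H_1`-regular sequence
-/

set_option autoImplicit false
universe u

open K559.H1Flat

namespace K559.H1Inf

variable {R S : Type u} [CommRing R] [CommRing S]

lemma sum_triv {c : ℕ} {g t : Fin c → R} (ht : t ∈ triv g) : ∑ i, t i * g i = 0 := by
  induction ht using Submodule.span_induction with
  | mem v hv =>
    obtain ⟨k, l, rfl⟩ := hv
    simp only [Pi.sub_apply, sub_mul, Finset.sum_sub_distrib]
    rw [Finset.sum_eq_single k, Finset.sum_eq_single l, Pi.single_eq_same, Pi.single_eq_same,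
      mul_comm, sub_self]
    · intro b _ hb; rw [Pi.single_eq_of_ne hb, zero_mul]
    · simp
    · intro b _ hb; rw [Pi.single_eq_of_ne hb, zero_mul]
    · simp
  | zero => simp
  | add v w _ _ hv hw => simp only [Pi.add_apply, add_mul, Finset.sum_add_distrib, hv, hw, add_zero]
  | smul r v _ hv =>
    simp only [Pi.smul_apply, smul_eq_mul, mul_assoc]
    rw [← Finset.mul_sum, hv, mul_zero]

/-- Trivial relations lift along surjections. -/
lemma exists_lift_triv (π : R →+* S) (hπ : Function.Surjective π) {c : ℕ} (g : Fin c → R)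
    {v : Fin c → S} (hv : v ∈ triv (fun i => π (g i))) :
    ∃ t ∈ triv g, ∀ i, π (t i) = v i := by
  induction hv using Submodule.span_induction with
  | mem v hv =>
    obtain ⟨i, j, rfl⟩ := hv
    refine ⟨Pi.single i (g j) - Pi.single j (g i), Submodule.subset_span ⟨i, j, rfl⟩, ?_⟩
    intro l
    have hs : ∀ (k : Fin c) (r : R), π ((Pi.single k r : Fin c → R) l) =
        (Pi.single k (π r) : Fin c → S) l := by
      intro k r
      by_cases hkl : l = k
      · subst hkl; simp
      · simp [Pi.single_eq_of_ne hkl]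
    simp only [Pi.sub_apply, map_sub, hs]
  | zero => exact ⟨0, Submodule.zero_mem _, by simp⟩
  | add v w _ _ hv hw =>
    obtain ⟨t, ht, htv⟩ := hv
    obtain ⟨s, hs, hsw⟩ := hw
    exact ⟨t + s, Submodule.add_mem _ ht hs, fun i => by simp [htv, hsw]⟩
  | smul r v _ hv =>
    obtain ⟨t, ht, htv⟩ := hv
    obtain ⟨r, rfl⟩ := hπ r
    exact ⟨r • t, Submodule.smul_mem _ _ ht, fun i => by simp [htv]⟩

theorem inf_le (π : R →+* S) (hπ : Function.Surjective π) (J : Ideal R) (hJ : RingHom.ker π ≤ J)
    {c : ℕ} (g : Fin c → S) (hg : CAlgX.IsH1Regular g) (hJg : J.map π = Ideal.span (Set.range g)) :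
    RingHom.ker π ⊓ J * J ≤ RingHom.ker π * J := by
  choose G hG using fun k => hπ (g k)
  have hGJ : ∀ k, G k ∈ J := by
    intro k
    have h1 : π (G k) ∈ J.map π := by rw [hG, hJg]; exact Ideal.subset_span ⟨k, rfl⟩
    obtain ⟨x, hx, hxG⟩ := (Ideal.mem_map_iff_of_surjective _ hπ).1 h1
    have h2 : G k - x ∈ RingHom.ker π := by rw [RingHom.mem_ker, map_sub, hxG, sub_self]
    have := add_mem (hJ h2) hx
    rwa [sub_add_cancel] at this
  have hJs : ∀ q ∈ J, ∃ c : Fin c → R, q - ∑ k, c k * G k ∈ RingHom.ker π := by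
    intro q hq
    have h1 : π q ∈ Ideal.span (Set.range g) := by rw [← hJg]; exact Ideal.mem_map_of_mem _ hq
    obtain ⟨c, hc⟩ := (Ideal.mem_span_range_iff_exists_fun).1 h1
    choose c' hc' using fun k => hπ (c k)
    refine ⟨c', ?_⟩
    rw [RingHom.mem_ker, map_sub, map_sum, ← hc]
    simp [hc', hG]
  have key : ∀ x ∈ J * J, ∃ a : Fin c → R, (∀ k, a k ∈ J) ∧
      x - ∑ k, a k * G k ∈ RingHom.ker π * J := by
    intro x hx
    induction hx using Submodule.mul_induction_on' with
    | mem_mul_mem p hp q hq =>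
      obtain ⟨c', hc'⟩ := hJs q hq
      refine ⟨fun k => p * c' k, fun k => Ideal.mul_mem_right _ _ hp, ?_⟩
      have : p * q - ∑ k, p * c' k * G k = (q - ∑ k, c' k * G k) * p := by
        rw [sub_mul, Finset.sum_mul, mul_comm p q]
        congr 1
        exact Finset.sum_congr rfl fun k _ => by ring
      rw [this]
      exact Ideal.mul_mem_mul hc' hp
    | add x _ y _ hx hy =>
      obtain ⟨a, ha, hax⟩ := hx
      obtain ⟨b, hb, hby⟩ := hy
      refine ⟨fun k => a k + b k, fun k => add_mem (ha k) (hb k), ?_⟩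
      have : x + y - ∑ k, (a k + b k) * G k = (x - ∑ k, a k * G k) + (y - ∑ k, b k * G k) := by
        simp only [add_mul, Finset.sum_add_distrib]; ring
      rw [this]
      exact add_mem hax hby
  intro x hx
  obtain ⟨hxI, hxJ⟩ := Submodule.mem_inf.1 hx
  obtain ⟨a, ha, hax⟩ := key x hxJ
  have h1 : ∑ k, a k * G k ∈ RingHom.ker π := by
    have h9 : RingHom.ker π * J ≤ RingHom.ker π := Ideal.mul_le_left
    have h8 : x - ∑ k, a k * G k ∈ RingHom.ker π := h9 hax
    rw [RingHom.mem_ker] at hxI h8 ⊢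
    rw [map_sub, hxI, zero_sub, neg_eq_zero] at h8
    exact h8
  have h3 : (fun k => π (a k)) ∈ triv (fun k => π (G k)) := by
    have h4 : ∑ k, π (a k) * g k = 0 := by
      have := RingHom.mem_ker.1 h1
      rw [map_sum] at this
      simpa [hG] using this
    have h5 : (fun k => π (G k)) = g := funext hG
    rw [h5]
    exact hg _ h4
  obtain ⟨t, ht, hta⟩ := exists_lift_triv π hπ G h3
  have h6 : ∑ k, a k * G k = ∑ k, (a k - t k) * G k := by
    simp only [sub_mul, Finset.sum_sub_distrib, sum_triv ht, sub_zero]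
  have h7 : ∑ k, a k * G k ∈ RingHom.ker π * J := by
    rw [h6]
    refine sum_mem fun k _ => Ideal.mul_mem_mul ?_ (hGJ k)
    rw [RingHom.mem_ker, map_sub, hta, sub_self]
  have := add_mem hax h7
  rwa [sub_add_cancel] at this

end K559.H1Inf
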