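import Groth.Agent.Krr.H496.ExcChart

/-!
# Charts of projective bundles

For a projective bundle `(π : P ⟶ X, O1, q : π^* E ⟶ O1)`, an affine open `U` of `X` and a local basis
`e` of `E` over `U`, the locus where `q(e_k)` generates `O1` is affine with coordinate ring the
polynomial ring over `Γ(X, U)` in the coordinates `q(e_i)/q(e_k)`, `i ≠ k`.
-/

set_option autoImplicit false
universe u

open CategoryTheory CategoryTheory.Limits AlgebraicGeometry Opposite TopologicalSpace

namespace K559.PBLoc

open Groth.Agent.Sga67.Sec Groth.Agent.Sga67.LocBasis Groth.Agent.Sga67.LocBasisStalk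
open Groth.Agent.Krr.H487.LocBasisPull Groth.Agent.Krr.H496.GenLocus Groth.Agent.Krr.H496.ProjCrit
open Groth.Agent.Divis.BlowChart (glob glob_comp glob_map hom_ext_glob glob_toSpecΓ_map)
open Groth.Agent.Krr.H496.ExcChart (glob_eq exists_fac)

variable {X P T : Scheme.{u}}

theorem exists_hom_basis {M N : X.Modules} {n : ℕ} {b : Fin n → Sec M ⊤} (hb : IsLocBasis b)
    (t : Fin n → Sec N ⊤) : ∃ f : M ⟶ N, ∀ k, appS f ⊤ (b k) = t k := by
  let f : FlatMod.freeMod X n ⟶ M := Sigma.desc (fun i => homUnit M (b i))
  let g : FlatMod.freeMod X n ⟶ N := Sigma.desc (fun i => homUnit N (t i))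
  have hf : ∀ i, Sigma.ι (fun _ : Fin n => Coh.structureModule X) i ≫ f = homUnit M (b i) := by
    intro i; simp [f]
  have hg : ∀ i, Sigma.ι (fun _ : Fin n => Coh.structureModule X) i ≫ g = homUnit N (t i) := by
    intro i; simp [g]
  have hfb : ∀ V (a : Fin n → Γ(X, V)),
      appS f V (comb (freeBasis X n) (le_top : V ≤ ⊤) a) = comb b (le_top : V ≤ ⊤) a := by
    intro V a
    rw [comb_apply, comb_apply, map_sum]
    refine Finset.sum_congr rfl fun i _ => ?_
    rw [map_smul, freeBasis, appS_res, ← appS_comp, hf, homUnit_one, res_res]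
  have : IsIso f := isIso_of_bijective f (by
    intro x U hx
    refine ⟨U, le_rfl, hx, ?_⟩
    constructor
    · intro s t hst
      obtain ⟨a, rfl⟩ := (free_isLocBasis X n U le_top).2 s
      obtain ⟨a', rfl⟩ := (free_isLocBasis X n U le_top).2 t
      rw [hfb, hfb] at hst
      rw [(hb U le_top).1 hst]
    · intro s
      obtain ⟨a, rfl⟩ := (hb U le_top).2 s
      exact ⟨_, hfb U a⟩)
  refine ⟨inv f ≫ g, fun k => ?_⟩
  have h1 : ∀ {K : X.Modules} (h : FlatMod.freeMod X n ⟶ K) (m : Sec K ⊤),
      Sigma.ι (fun _ : Fin n => Coh.structureModule X) k ≫ h = homUnit K m →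
        appS h ⊤ (freeBasis X n k) = m := by
    intro K h m hm
    rw [freeBasis, ← appS_comp, hm, homUnit_one, res_self]
  rw [← h1 f (b k) (hf k), ← appS_comp, IsIso.hom_inv_id_assoc]
  exact h1 g (t k) (hg k)

variable {π : P ⟶ X} {E : X.Modules} {O1 : P.Modules} {q : (Scheme.Modules.pullback π).obj E ⟶ O1}

/-- A projective bundle satisfies the chart conditions. -/
theorem chartCond (hP : KRR.IsProjBundle π E O1 q) {U : X.Opens} {n : ℕ} {e : Fin n → Sec E U}
    (he : IsLocBasis e) (j : Fin n) : ChartCond π q e j := by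
  have hq : Epi q := hP.epi
  have hO1 : IsInv O1 := isInv_iff.2 hP.invertible
  constructor
  · intro T g h h' hh hh' a H H'
    obtain ⟨v, hv⟩ := exists_iso_of_coordOn (bc h q hh) (bc h' q hh') fun t =>
      ⟨U, n, e, j, ⊤, a, he, trivial, H, H'⟩
    refine (hP.univ T g _ (isInv_iff.1 (isInv_pullback h' hO1)) (bc h' q hh') inferInstance).unique
      ⟨hh, v, ?_⟩ ⟨hh', Iso.refl _, ?_⟩
    · rw [← hv]
      unfold bc
      simp only [Category.assoc]
    · unfold bc
      simp only [Iso.refl_hom, Category.comp_id]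
  · intro T g hg a ha
    have hb : IsLocBasis (fun k => res _ hg (pbS g E (e k))) :=
      (isLocBasis_pbS g he).restrict hg
    obtain ⟨s, hs⟩ := exists_hom_basis hb (N := Coh.structureModule T) (fun k => a k • one T ⊤)
    have hsj : appS s ⊤ (res _ hg (pbS g E (e j))) = one T ⊤ := by rw [hs, ha, one_smul]
    have hgen : IsGen (one T ⊤) := by
      rw [isGen_iff]
      intro V h
      constructor
      · intro c c' hcc
        have h1 : ∀ c : Γ(T, V), c • res (Coh.structureModule T) h (one T ⊤) = c • one T V := by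
          intro c
          rw [Groth.Agent.Sga67.LocBasis.res_one]
        have h2 : c • one T V = c' • one T V := by rw [← h1, ← h1]; exact hcc
        have h3 := congrArg toO h2
        rw [toO_smul, toO_smul, toO_one, mul_one, mul_one] at h3
        exact h3
      · intro s
        refine ⟨toO s, ?_⟩
        change toO s • res (Coh.structureModule T) h (one T ⊤) = s
        rw [Groth.Agent.Sga67.LocBasis.res_one, toO_smul_one]
    have hepi : Epi s := epi_of_locally_surjective s (fun V m x hx => ⟨V, le_rfl, hx,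
      toO m • res _ le_top (res _ hg (pbS g E (e j))), by
        rw [map_smul, appS_res, hsj, Groth.Agent.Sga67.LocBasis.res_one, toO_smul_one, res_self]⟩)
    have hinv : IsInv (Coh.structureModule T) := fun x => ⟨⊤, one T ⊤, trivial, hgen⟩
    obtain ⟨h, ⟨hh, v, hv⟩, -⟩ := hP.univ T g _ (isInv_iff.1 hinv) s hepi
    refine ⟨h, hh, ?_⟩
    have hv' : bc h q hh ≫ v.hom = s := by
      rw [← hv]
      unfold bc
      simp only [Category.assoc]
    have hc : CoordOn s e j ⊤ a := by
      refine ⟨hg, ?_, fun i => ?_⟩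
      · have h1 : res _ hg (sg s e j) = one T ⊤ := by
          rw [← hsj, appS_res]; rfl
        rw [h1]
        exact hgen
      · have h1 : ∀ i, res _ hg (sg s e i) = a i • one T ⊤ := by
          intro i
          rw [← hs i, appS_res]; rfl
        rw [h1, h1, ha, one_smul]
    exact hc.iso v.symm (by rw [← hv']; simp)

end K559.PBLoc
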