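import Groth.Agent.RegImm.K559.PBLoc

/-!
# Charts of projective bundles: the coordinate ring
-/

set_option autoImplicit false
universe u

open CategoryTheory CategoryTheory.Limits AlgebraicGeometry Opposite TopologicalSpace

namespace K559.PBRing

open Groth.Agent.Sga67.Sec Groth.Agent.Sga67.LocBasis Groth.Agent.Sga67.LocBasisStalk
open Groth.Agent.Krr.H487.LocBasisPull Groth.Agent.Krr.H496.GenLocus Groth.Agent.Krr.H496.ProjCrit
open Groth.Agent.Divis.BlowChart (glob glob_comp glob_map hom_ext_glob glob_toSpecΓ_map)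
open Groth.Agent.Krr.H496.ExcChart (glob_eq exists_fac)
open K559.PBLoc

variable {X P : Scheme.{u}} {π : P ⟶ X} {E : X.Modules} {O1 : P.Modules}
  {q : (Scheme.Modules.pullback π).obj E ⟶ O1}

section

variable (U : X.affineOpens) (n : ℕ)

/-- The standard chart. -/
noncomputable abbrev St : Scheme.{u} := Spec (CommRingCat.of (MvPolynomial (Fin n) Γ(X, U.1)))

/-- The standard chart over `X`. -/
noncomputable def stMap : St U n ⟶ X :=
  Spec.map (CommRingCat.ofHom (MvPolynomial.C : Γ(X, U.1) →+* MvPolynomial (Fin n) Γ(X, U.1))) ≫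
    U.2.fromSpec

lemma top_le_stMap : (⊤ : (St U n).Opens) ≤ stMap U n ⁻¹ᵁ U.1 := by
  rw [stMap, Scheme.Hom.comp_preimage, U.2.fromSpec_preimage_self]
  rfl

variable {U n}

/-- Extension of a vector by `1` in position `k`. -/
def ext1 {R : Type u} [CommRing R] (k : Fin (n + 1)) (a : Fin n → R) : Fin (n + 1) → R :=
  Fin.insertNth (α := fun _ => R) k 1 a

@[simp] lemma ext1_self {R : Type u} [CommRing R] (k : Fin (n + 1)) (a : Fin n → R) :
    ext1 k a k = 1 := Fin.insertNth_apply_same _ _ _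

@[simp] lemma ext1_succAbove {R : Type u} [CommRing R] (k : Fin (n + 1)) (a : Fin n → R)
    (i : Fin n) : ext1 k a (k.succAbove i) = a i := Fin.insertNth_apply_succAbove _ _ _ _

/-- The ring map of a morphism to the standard chart. -/
lemma glob_C {T : Scheme.{u}} (d : T ⟶ St U n) {g : T ⟶ X} (hg : d ≫ stMap U n = g)
    (h : ⊤ ≤ g ⁻¹ᵁ U.1) (r : Γ(X, U.1)) :
    glob (A := MvPolynomial (Fin n) Γ(X, U.1)) d (MvPolynomial.C r) = (g.appLE U.1 ⊤ h).hom r := by
  have h1 := glob_map (MvPolynomial.C : Γ(X, U.1) →+* MvPolynomial (Fin n) Γ(X, U.1)) d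
  have h2 := glob_eq U (d ≫ Spec.map (CommRingCat.ofHom
    (MvPolynomial.C : Γ(X, U.1) →+* MvPolynomial (Fin n) Γ(X, U.1)))) (g := g)
    (by rw [Category.assoc]; exact hg) h
  exact congr($(h1.symm.trans h2) r)

/-- Morphisms to the standard chart. -/
lemma hom_ext {T : Scheme.{u}} {d d' : T ⟶ St U n} (h : d ≫ stMap U n = d' ≫ stMap U n)
    (hX : ∀ i, glob (A := MvPolynomial (Fin n) Γ(X, U.1)) d (MvPolynomial.X i) =
      glob (A := MvPolynomial (Fin n) Γ(X, U.1)) d' (MvPolynomial.X i)) : d = d' := by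
  apply hom_ext_glob
  have ht : (⊤ : T.Opens) ≤ (d ≫ stMap U n) ⁻¹ᵁ U.1 := by
    rw [Scheme.Hom.comp_preimage]
    exact (d.preimage_mono (top_le_stMap U n))
  apply MvPolynomial.ringHom_ext
  · intro r
    rw [glob_C d rfl ht, glob_C d' h.symm ht]
  · exact hX

/-- Existence of morphisms to the standard chart. -/
lemma exists_hom {T : Scheme.{u}} (g : T ⟶ X) (hg : ⊤ ≤ g ⁻¹ᵁ U.1) (a : Fin n → Γ(T, ⊤)) :
    ∃ d : T ⟶ St U n, d ≫ stMap U n = g ∧
      ∀ i, glob (A := MvPolynomial (Fin n) Γ(X, U.1)) d (MvPolynomial.X i) = a i := by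
  let ψ : MvPolynomial (Fin n) Γ(X, U.1) →+* Γ(T, ⊤) :=
    MvPolynomial.eval₂Hom (g.appLE U.1 ⊤ hg).hom a
  refine ⟨T.toSpecΓ ≫ Spec.map (CommRingCat.ofHom ψ), ?_, fun i => ?_⟩
  · obtain ⟨m, hm⟩ := exists_fac U g hg
    rw [← hm, stMap, ← Category.assoc]
    congr 1
    apply hom_ext_glob
    rw [glob_map, glob_toSpecΓ_map, glob_eq U m hm hg]
    ext r
    simp [ψ]
  · rw [glob_toSpecΓ_map]
    simp [ψ]

end

section Chart

variable {U : X.affineOpens} {n : ℕ} {e : Fin (n + 1) → Sec E U.1} {k : Fin (n + 1)}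

lemma appLE_top {S T : Scheme.{u}} (d : S ⟶ T) (z : Γ(T, ⊤)) :
    (d.appLE ⊤ ⊤ le_top).hom z = d.appTop.hom z := by
  have h : d.appLE ⊤ ⊤ le_top = d.appTop := by
    rw [Scheme.Hom.appLE]; simp
  rw [h]

/-- The chart of a projective bundle. -/
theorem exists_chart (hO1 : IsInv O1) (hc : ChartCond π q e k) {D : P.Opens}
    (hD : genLocus (sg q e k) ≤ D) {y : Fin (n + 1) → Γ(P, D)} (hy : CoordOn q e k D y) :
    ∃ d : (D : Scheme.{u}) ≅ St U n, d.hom ≫ stMap U n = D.ι ≫ π ∧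
      ∀ i, glob (A := MvPolynomial (Fin n) Γ(X, U.1)) d.hom (MvPolynomial.X i) =
        (D.ι.appLE D ⊤ (top_le_ι _)).hom (y (k.succAbove i)) := by
  -- the map from the standard chart
  let a₀ : Fin (n + 1) → Γ(St U n, ⊤) := ext1 k fun i =>
    glob (A := MvPolynomial (Fin n) Γ(X, U.1)) (𝟙 (St U n)) (MvPolynomial.X i)
  obtain ⟨c, hcπ, hc₀⟩ := hc.exist (St U n) (stMap U n) (top_le_stMap U n) a₀ (ext1_self _ _)
  have hcD : (⊤ : (St U n).Opens) ≤ c ⁻¹ᵁ D := by
    have h1 : ∀ {g : St U n ⟶ X} (h : c ≫ π = g) (H : (⊤ : (St U n).Opens) ≤ genLocus (sg (bc c q h) e k)),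
        (⊤ : (St U n).Opens) ≤ c ⁻¹ᵁ D := by
      intro g h H
      subst h
      rw [sg_bc c q e k] at H
      exact (H.trans (genLocus_pbS c hO1 (sg q e k)).le).trans (c.preimage_mono hD)
    exact h1 hcπ hc₀.le_genLocus
  have hca : ∀ i, a₀ i = (c.appLE D ⊤ hcD).hom (y i) := by
    intro i
    exact congrFun (hc₀.unique (hy.pull c hcπ hcD)) i
  have hr : Set.range c ⊆ Set.range D.ι := by
    rintro _ ⟨x, rfl⟩
    rw [Scheme.Opens.range_ι]
    exact hcD (show x ∈ (⊤ : (St U n).Opens) from trivial)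
  let c' : St U n ⟶ (D : Scheme.{u}) := IsOpenImmersion.lift D.ι c hr
  have hc' : c' ≫ D.ι = c := IsOpenImmersion.lift_fac _ _ _
  -- the map to the standard chart
  have hDU : (⊤ : (D : Scheme.{u}).Opens) ≤ (D.ι ≫ π) ⁻¹ᵁ U.1 := by
    rw [Scheme.Hom.comp_preimage]
    exact (top_le_ι D).trans (D.ι.preimage_mono hy.le)
  obtain ⟨d, hd, hdX⟩ := exists_hom (U := U) (D.ι ≫ π) hDU (fun i => (D.ι.appLE D ⊤ (top_le_ι _)).hom
    (y (k.succAbove i)))
  have hdc : d ≫ c = D.ι := by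
    refine hc.uniq _ (D.ι ≫ π) (d ≫ c) D.ι (by rw [Category.assoc, hcπ, hd]) rfl
      (fun i => (D.ι.appLE D ⊤ (top_le_ι _)).hom (y i)) ?_ (hy.pull D.ι rfl (top_le_ι _))
    have h1 := (hc₀.pull d (g' := D.ι ≫ π) hd (W' := ⊤) le_top).comp (k'' := d ≫ c) rfl
      (by rw [Category.assoc, hcπ, hd])
    convert h1 using 2 with i
    refine Eq.trans ?_ (appLE_top d (a₀ i)).symm
    rcases Fin.eq_self_or_eq_succAbove k i with rfl | ⟨i, rfl⟩
    · rw [hy.self, map_one]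
      change _ = d.appTop.hom (ext1 _ _ _)
      rw [ext1_self, map_one]
    · change _ = d.appTop.hom (ext1 _ _ _)
      rw [ext1_succAbove, ← hdX i]
      have h2 := glob_comp d (𝟙 (St U n))
      rw [Category.comp_id] at h2
      exact congr($h2 (MvPolynomial.X i))
  have h1 : d ≫ c' = 𝟙 _ := by
    rw [← cancel_mono D.ι, Category.assoc, hc', hdc, Category.id_comp]
  have h2 : c' ≫ d = 𝟙 _ := by
    apply hom_ext
    · rw [Category.assoc, hd, ← Category.assoc, hc', hcπ, Category.id_comp]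
    · intro i
      have h3 := congr($(glob_comp c' d) (MvPolynomial.X i))
      refine h3.trans ?_
      rw [RingHom.comp_apply, hdX i]
      have h4 := hca (k.succAbove i)
      have h5 : a₀ (k.succAbove i) = glob (A := MvPolynomial (Fin n) Γ(X, U.1)) (𝟙 (St U n))
        (MvPolynomial.X i) := ext1_succAbove _ _ _
      rw [← h5, h4]
      have h6 : ∀ (c₁ : St U n ⟶ P) (e₁ : c₁ = c) , (c.appLE D ⊤ hcD).hom (y (k.succAbove i)) =
          (c₁.appLE D ⊤ (e₁ ▸ hcD)).hom (y (k.succAbove i)) := by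
        intro c₁ e₁
        subst e₁
        rfl
      rw [h6 _ hc', ← Scheme.Hom.appLE_comp_appLE c' D.ι D ⊤ ⊤ (top_le_ι _) le_top]
      have h7 : c'.appLE ⊤ ⊤ le_top = c'.appTop := by
        rw [Scheme.Hom.appLE]; simp
      rw [h7]
      rfl
  exact ⟨⟨d, c', h1, h2⟩, hd, hdX⟩

/-- The coordinate ring of the chart of a projective bundle. -/
theorem exists_ringEquiv (hO1 : IsInv O1) (hc : ChartCond π q e k) {D : P.Opens}
    (hD : genLocus (sg q e k) ≤ D) {y : Fin (n + 1) → Γ(P, D)} (hy : CoordOn q e k D y) :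
    IsAffineOpen D ∧ ∃ ψ : MvPolynomial (Fin n) Γ(X, U.1) ≃+* Γ(P, D),
      (∀ r, ψ (MvPolynomial.C r) = (π.appLE U.1 D hy.le).hom r) ∧
      ∀ i, ψ (MvPolynomial.X i) = y (k.succAbove i) := by
  obtain ⟨d, hd, hdX⟩ := exists_chart hO1 hc hD hy
  refine ⟨IsAffine.of_isIso d.hom, ?_⟩
  have hiso : IsIso (D.ι.appLE D ⊤ (top_le_ι D)) := inferInstance
  let θ : CommRingCat.of (MvPolynomial (Fin n) Γ(X, U.1)) ≅ Γ(P, D) :=
    (Scheme.ΓSpecIso _).symm ≪≫ Scheme.Γ.mapIso d.op ≪≫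
      (asIso (D.ι.appLE D ⊤ (top_le_ι D))).symm
  have hθ : ∀ z, (D.ι.appLE D ⊤ (top_le_ι D)).hom (θ.hom.hom z) =
      glob (A := MvPolynomial (Fin n) Γ(X, U.1)) d.hom z := by
    intro z
    have h1 : θ.hom ≫ D.ι.appLE D ⊤ (top_le_ι D) = (Scheme.ΓSpecIso _).inv ≫ d.hom.appTop := by
      have h2 : θ.hom = (Scheme.ΓSpecIso _).inv ≫ d.hom.appTop ≫
        inv (D.ι.appLE D ⊤ (top_le_ι D)) := rfl
      rw [h2, Category.assoc, Category.assoc, IsIso.inv_hom_id, Category.comp_id]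
    exact congr($h1 z)
  have hinj : Function.Injective (D.ι.appLE D ⊤ (top_le_ι D)).hom := appLE_ι_injective D
  refine ⟨θ.commRingCatIsoToRingEquiv, fun r => hinj ?_, fun i => hinj ?_⟩
  · refine (hθ _).trans ?_
    have hDU : (⊤ : (D : Scheme.{u}).Opens) ≤ (D.ι ≫ π) ⁻¹ᵁ U.1 := by
      rw [Scheme.Hom.comp_preimage]
      exact (top_le_ι D).trans (D.ι.preimage_mono hy.le)
    rw [glob_C d.hom hd hDU, ← Scheme.Hom.appLE_comp_appLE D.ι π U.1 D ⊤ hy.le (top_le_ι D)]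
    rfl
  · exact (hθ _).trans (hdX i)

end Chart

end K559.PBRing
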