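import Mathlib.RingTheory.Depth.Rees
import Mathlib.CategoryTheory.Abelian.Injective.Ext
import Mathlib.Algebra.Homology.DerivedCategory.Ext.ExactSequences
import Mathlib.Algebra.Homology.DerivedCategory.Ext.EnoughInjectives

/-!
# Vanishing of `Ext` by a weakly regular sequence and lifting to injective resolutions
-/

set_option autoImplicit false
universe w v u

open CategoryTheory CategoryTheory.Limits CategoryTheory.Abelian

namespace K559.ReesLift

section Rees

variable {R : Type u} [CommRing R] [Small.{v} R]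

open RingTheory.Sequence

/-- If `rs` is weakly `M`-regular and kills `N` then `Ext N M i = 0` for `i < rs.length`. -/
theorem subsingleton_ext (rs : List R) (N : ModuleCat.{v} R) (hN : ∀ r ∈ rs, ∀ n : N, r • n = 0)
    (M : ModuleCat.{v} R) (hM : IsWeaklyRegular M rs) :
    ∀ i < rs.length, Subsingleton (Ext N M i) := by
  induction rs generalizing M with
  | nil => simp
  | cons a rs ih =>
    intro i hi
    rw [isWeaklyRegular_cons_iff] at hM
    have ha : a ∈ Module.annihilator R N := Module.mem_annihilator.2 (hN a (by simp))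
    match i with
    | 0 =>
      have : Subsingleton (N →ₗ[R] M) := by
        refine ⟨fun f g => LinearMap.ext fun n => ?_⟩
        have key : ∀ f : N →ₗ[R] M, f n = 0 := by
          intro f
          apply hM.1
          change a • f n = a • (0 : M)
          rw [← map_smul, hN a (by simp), map_zero, smul_zero]
        rw [key f, key g]
      exact (Ext.addEquiv₀.trans ModuleCat.homAddEquiv).subsingleton
    | i + 1 =>
      let g := (AddCommGrpCat.ofHom ((Ext.mk₀ (ModuleCat.smulShortComplex M a).f).postcomp N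
        (add_zero (i + 1))))
      have mono_g : Mono g := by
        apply (Ext.covariant_sequence_exact₁' N hM.1.smulShortComplex_shortExact i (i + 1)
          rfl).mono_g ((AddCommGrpCat.isZero_of_iff_subsingleton.mpr ?_).eq_zero_of_src _)
        exact ih (fun r hr => hN r (by simp [hr])) (ModuleCat.of R (QuotSMulTop a M)) hM.2 i
          (by simpa using hi)
      have zero_g : g = 0 := by
        have := Ext.postcomp_smul_id_eq_zero_of_mem_annihilator (M := M) ha (i + 1)
        simp only [g, ModuleCat.smulShortComplex_f_eq_smul_id]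
        exact this
      exact AddCommGrpCat.subsingleton_of_isZero (IsZero.of_mono_eq_zero _ zero_g)

end Rees

section Lift

variable {C : Type u} [Category.{v} C] [Abelian C] [HasExt.{w} C]

/-- Lifting along a resolution by injectives, degrees `≥ 1`. -/
theorem exists_lift_succ (N : C) (q : ℕ) : ∀ (M : C) (K : ℕ → C) (d : ∀ p, K p ⟶ K (p + 1))
    (_ : ∀ p, Injective (K p)) (w : ∀ p, d p ≫ d (p + 1) = 0)
    (_ : ∀ p, (ShortComplex.mk (d p) (d (p + 1)) (w p)).Exact) (ε : M ⟶ K 0) (_ : Mono ε)
    (wε : ε ≫ d 0 = 0) (_ : (ShortComplex.mk ε (d 0) wε).Exact)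
    (_ : ∀ i, 1 ≤ i → i ≤ q + 1 → Subsingleton (Ext N M i)) (x : N ⟶ K (q + 1))
    (_ : x ≫ d (q + 1) = 0), ∃ y : N ⟶ K q, y ≫ d q = x := by
  induction q with
  | zero =>
    intro M K d hK w hd ε hε wε hex hM x hx
    let e : K 0 ⟶ kernel (d 1) := kernel.lift (d 1) (d 0) (w 0)
    have he : Epi e := (ShortComplex.exact_iff_epi_kernel_lift _).1 (hd 0)
    have he' : e ≫ kernel.ι (d 1) = d 0 := kernel.lift_ι _ _ _
    have w' : ε ≫ e = 0 := by
      rw [← cancel_mono (kernel.ι (d 1)), Category.assoc, he', wε, zero_comp]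
    have hS : (ShortComplex.mk ε e w').ShortExact := by
      refine { exact := ?_, mono_f := hε, epi_g := he }
      rw [ShortComplex.exact_iff_exact_up_to_refinements] at hex ⊢
      intro A a ha
      obtain ⟨A', π, hπ, b, hb⟩ := hex a (by
        change a ≫ d 0 = 0
        rw [← he', ← Category.assoc, show a ≫ e = 0 from ha, zero_comp])
      exact ⟨A', π, hπ, b, hb⟩
    let x' : N ⟶ kernel (d 1) := kernel.lift _ x hx
    have hx' : x' ≫ kernel.ι (d 1) = x := kernel.lift_ι _ _ _
    have h1 := Ext.covariant_sequence_exact₃ N hS (Ext.mk₀ x') (zero_add 1)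
      (@Subsingleton.elim _ (hM 1 le_rfl le_rfl) _ _)
    obtain ⟨y, hy⟩ := h1
    obtain ⟨y, rfl⟩ := Ext.homEquiv₀.symm.surjective y
    refine ⟨y, ?_⟩
    have h2 : (Ext.mk₀ y).comp (Ext.mk₀ e) (add_zero 0) = Ext.mk₀ x' := hy
    rw [Ext.mk₀_comp_mk₀] at h2
    have h3 : y ≫ e = x' := Ext.homEquiv₀.symm.injective h2
    rw [← hx', ← h3, Category.assoc, he']
  | succ q ih =>
    intro M K d hK w hd ε hε wε hex hM x hx
    let e : K 0 ⟶ kernel (d 1) := kernel.lift (d 1) (d 0) (w 0)
    have he : Epi e := (ShortComplex.exact_iff_epi_kernel_lift _).1 (hd 0)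
    have he' : e ≫ kernel.ι (d 1) = d 0 := kernel.lift_ι _ _ _
    have w' : ε ≫ e = 0 := by
      rw [← cancel_mono (kernel.ι (d 1)), Category.assoc, he', wε, zero_comp]
    have hS : (ShortComplex.mk ε e w').ShortExact := by
      refine { exact := ?_, mono_f := hε, epi_g := he }
      rw [ShortComplex.exact_iff_exact_up_to_refinements] at hex ⊢
      intro A a ha
      obtain ⟨A', π, hπ, b, hb⟩ := hex a (by
        change a ≫ d 0 = 0
        rw [← he', ← Category.assoc, show a ≫ e = 0 from ha, zero_comp])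
      exact ⟨A', π, hπ, b, hb⟩
    refine ih (kernel (d 1)) (fun p => K (p + 1)) (fun p => d (p + 1)) (fun p => hK _)
      (fun p => w _) (fun p => hd _) (kernel.ι (d 1)) inferInstance (kernel.condition _)
      (ShortComplex.exact_kernel _) ?_ x hx
    intro i h1 h2
    refine ⟨fun a b => ?_⟩
    have key : ∀ a : Ext N (kernel (d 1)) i, a = 0 := by
      intro a
      obtain ⟨b, hb⟩ := Ext.covariant_sequence_exact₃ N hS a rfl
        (@Subsingleton.elim _ (hM (i + 1) (by lia) (by lia)) _ _)
      obtain ⟨i, rfl⟩ : ∃ j, i = j + 1 := ⟨i - 1, by lia⟩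
      rw [← hb, Ext.eq_zero_of_injective b, Ext.zero_comp]
    rw [key a, key b]

/-- Degree zero. -/
theorem eq_zero_of_comp (N M K₀ K₁ : C) (d : K₀ ⟶ K₁) (ε : M ⟶ K₀) [Mono ε] (wε : ε ≫ d = 0)
    (hex : (ShortComplex.mk ε d wε).Exact) (hM : Subsingleton (Ext N M 0)) (x : N ⟶ K₀)
    (hx : x ≫ d = 0) : x = 0 := by
  have hm : Mono (ShortComplex.mk ε d wε).f := inferInstanceAs (Mono ε)
  have h1 : hex.lift x hx ≫ ε = x := hex.lift_f x hx
  have h2 : hex.lift x hx = 0 := by
    apply Ext.homEquiv₀.symm.injective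
    exact Subsingleton.elim _ _
  rw [← h1, h2, zero_comp]

/-- A complex of injectives which is exact in degrees `< c` is contractible in degrees `< c`. -/
theorem exists_lift_of_exact (K : ℕ → C) (d : ∀ p, K p ⟶ K (p + 1)) (hK : ∀ p, Injective (K p))
    (w : ∀ p, d p ≫ d (p + 1) = 0) (c : ℕ) (h0 : 0 < c → Mono (d 0))
    (hd : ∀ p, p + 1 < c → (ShortComplex.mk (d p) (d (p + 1)) (w p)).Exact) (q : ℕ)
    (hq : q + 1 < c) (F : C) (g : F ⟶ K (q + 1)) (hg : g ≫ d (q + 1) = 0) :
    ∃ h : F ⟶ K q, h ≫ d q = g := by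
  induction q generalizing F with
  | zero =>
    have hm := h0 (by lia)
    have hex := hd 0 hq
    have hmf : Mono (ShortComplex.mk (d 0) (d 1) (w 0)).f := hm
    exact ⟨hex.lift g hg, hex.lift_f g hg⟩
  | succ q ih =>
    -- a section of `K (q+1) → ker (d (q+2))`
    let Z := kernel (d (q + 2))
    let e : K (q + 1) ⟶ Z := kernel.lift (d (q + 2)) (d (q + 1)) (w (q + 1))
    have he : Epi e := (ShortComplex.exact_iff_epi_kernel_lift _).1 (hd (q + 1) hq)
    have he' : e ≫ kernel.ι (d (q + 2)) = d (q + 1) := kernel.lift_ι _ _ _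
    obtain ⟨h', hh'⟩ := ih (by lia) (kernel (d (q + 1))) (kernel.ι (d (q + 1)))
      (kernel.condition _)
    let r : K (q + 1) ⟶ K q := Injective.factorThru h' (kernel.ι (d (q + 1)))
    have hr : kernel.ι (d (q + 1)) ≫ r = h' := Injective.comp_factorThru _ _
    have h1 : kernel.ι (d (q + 1)) ≫ (𝟙 _ - r ≫ d q) = 0 := by
      rw [Preadditive.comp_sub, Category.comp_id, ← Category.assoc, hr, hh', sub_self]
    have h2 : kernel.ι e ≫ (𝟙 _ - r ≫ d q) = 0 := by
      have h3 : kernel.ι e ≫ d (q + 1) = 0 := by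
        rw [← he', ← Category.assoc, kernel.condition, zero_comp]
      have h4 : kernel.lift (d (q + 1)) (kernel.ι e) h3 ≫ kernel.ι (d (q + 1)) = kernel.ι e :=
        kernel.lift_ι _ _ _
      rw [← h4, Category.assoc, h1, comp_zero]
    let s : Z ⟶ K (q + 1) := Abelian.epiDesc e (𝟙 _ - r ≫ d q) h2
    have hs : e ≫ s = 𝟙 _ - r ≫ d q := Abelian.comp_epiDesc _ _ _
    have hs' : s ≫ d (q + 1) = kernel.ι (d (q + 2)) := by
      rw [← cancel_epi e, ← Category.assoc, hs, Preadditive.sub_comp, Category.id_comp,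
        Category.assoc, w, comp_zero, sub_zero, he']
    refine ⟨kernel.lift _ g hg ≫ s, ?_⟩
    rw [Category.assoc, hs', kernel.lift_ι]

end Lift

end K559.ReesLift
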