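import Groth.Agent.RegImm.K559.ConSplit
import Groth.Agent.RegImm.K559.Exchange

/-!
# Koszul-regularity of the second immersion from a locally split conormal sequence
-/

set_option autoImplicit false
universe u

open CategoryTheory CategoryTheory.Limits AlgebraicGeometry Opposite TopologicalSpace
open Groth.Agent.Sga67.KosStalk Groth.Agent.Sga67.KosImm Groth.Agent.Sga67.KosConormal
open Groth.Agent.Flat2H.KoszulWrap
open K559.ConSt K559.Koszul K559.StIdeal K559.ConSeq K559.ConSplit K559.Basic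

namespace K559.SplitReg

variable {X Y Z : Scheme.{u}}

/-- Local algebra: common affine neighbourhood with a good generating sequence. -/
theorem exists_local {i : Y ⟶ X} {j : Z ⟶ Y} [IsPreimmersion i] [IsPreimmersion j]
    {p q : ℕ → Prop} {z : Z}
    (hi : KAt p i (i (j z))) (hij : KAt q (j ≫ i) ((j ≫ i) z))
    (h : ∀ w : X.presheaf.stalk (i (j z)), w ∈ kr i (j z) →
      w ∈ IsLocalRing.maximalIdeal (X.presheaf.stalk (i (j z))) * krc i j z →
      w ∈ IsLocalRing.maximalIdeal (X.presheaf.stalk (i (j z))) * kr i (j z)) :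
    KAt (fun d => ∃ n, p n ∧ q (d + n)) j (j z) := by
  obtain ⟨U, hxU, hclU, gs₀, hq₀, hgs₀, hkerU⟩ := hij
  obtain ⟨V, hxV, hVU, hcli, fs, hp, hfs, hkeri⟩ := hi.exists_le U.1 hxU
  obtain ⟨hclij, gs, hq, hgs, hkerij⟩ := mono_aux U.2 hclU hq₀ hgs₀ hkerU V.2 hVU
  -- go to the local ring
  have hI : kr i (j z) = Ideal.ofList (fs.map (gO X hxV)) := by
    rw [ker_stalkMap V.2 hcli (j z) hxV, hkeri, Ideal.map_ofList]
  have hJ : krc i j z = Ideal.ofList (gs.map (gO X hxV)) := by
    rw [← kr_comp, ker_stalkMap V.2 hclij z hxV, hkerij, Ideal.map_ofList]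
    rfl
  have hIm : kr i (j z) ≤ IsLocalRing.maximalIdeal (X.presheaf.stalk (i (j z))) :=
    (kr_le_krc i j z).trans (krc_le_maximalIdeal z)
  have hfs' : LCI.IsKoszulRegularSeq (X.presheaf.stalk (i (j z))) (fs.map (gO X hxV)) :=
    Groth.Agent.Flat2H.KoszulBC.IsKoszulRegularSeq_map_of_flat hfs _ (flat_germ V.2 hxV)
  obtain ⟨hs, hlen, hJ', hsub⟩ := Exchange.exchange (gO X hxV) hJ (fs := fs) (fun f hf => by
      apply kr_le_krc
      rw [hI]
      exact Ideal.subset_span (List.mem_map_of_mem hf)) (by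
    rintro F f T rfl hmem
    obtain ⟨u, hu, v, hv, huv⟩ := Submodule.mem_sup.1 hmem
    have hfI : gO X hxV f ∈ kr i (j z) := by
      rw [hI]
      exact Ideal.subset_span (List.mem_map_of_mem (by simp))
    have huI : u ∈ kr i (j z) := by
      rw [hI, List.map_append, Ideal.ofList_append]
      exact Submodule.mem_sup_left hu
    have hvI : v ∈ kr i (j z) := by
      have : v = gO X hxV f - u := by rw [← huv]; ring
      rw [this]
      exact sub_mem hfI huI
    have hv' := h v hvI hv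
    rw [List.map_append, List.map_cons] at hfs' hI
    refine Exchange.not_mem_of_koszul hfs' (by rw [← hI]; exact hIm) ?_
    rw [← hI, ← huv]
    exact Submodule.add_mem_sup hu hv')
  -- spread out
  let N : Ideal Γ(X, V.1) := Ideal.ofList (hs ++ fs)
  have hNJ : N ≤ RingHom.ker ((j ≫ i).app V.1).hom := by
    have hIJ : RingHom.ker (i.app V.1).hom ≤ RingHom.ker ((j ≫ i).app V.1).hom := by
      rw [ker_comp_app]
      intro a ha
      rw [Ideal.mem_comap, RingHom.mem_ker.1 ha]
      exact Ideal.zero_mem _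
    change Ideal.ofList (hs ++ fs) ≤ _
    rw [Ideal.ofList_append]
    refine sup_le ?_ (by rw [← hkeri]; exact hIJ)
    rw [hkerij]
    exact Ideal.span_mono fun g hg => hsub g hg
  obtain ⟨a, ha, haN⟩ : ∃ a ∉ (V.2.primeIdealOf ⟨i (j z), hxV⟩).asIdeal, ∀ g ∈ gs, a * g ∈ N := by
    refine Exchange.exists_mul_mem (gO X hxV) _ N gs ?_ ?_
    · intro g hg
      let := TopCat.Presheaf.algebra_section_stalk X.presheaf ⟨i (j z), hxV⟩
      have hloc : IsLocalization.AtPrime (X.presheaf.stalk (i (j z)))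
        (V.2.primeIdealOf ⟨i (j z), hxV⟩).asIdeal := V.2.isLocalization_stalk ⟨i (j z), hxV⟩
      obtain ⟨a, ha, hag⟩ := (IsLocalization.algebraMap_mem_map_algebraMap_iff
        (V.2.primeIdealOf ⟨i (j z), hxV⟩).asIdeal.primeCompl (X.presheaf.stalk (i (j z))) N g).1 hg
      exact ⟨a, ha, hag⟩
    · intro g hg
      have h1 : gO X hxV g ∈ krc i j z := by
        rw [hJ]
        exact Ideal.subset_span (List.mem_map_of_mem hg)
      rw [hJ'] at h1
      have h2 : N.map (gO X hxV) = Ideal.ofList ((fs ++ hs).map (gO X hxV)) := by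
        rw [Ideal.map_ofList, List.map_append, List.map_append, Ideal.ofList_append,
          Ideal.ofList_append, sup_comm]
      rw [h2]
      exact h1
  have hxa : i (j z) ∈ X.basicOpen a := by
    rw [X.mem_basicOpen a (i (j z)) hxV]
    let := TopCat.Presheaf.algebra_section_stalk X.presheaf ⟨i (j z), hxV⟩
    have hloc : IsLocalization.AtPrime (X.presheaf.stalk (i (j z)))
        (V.2.primeIdealOf ⟨i (j z), hxV⟩).asIdeal := V.2.isLocalization_stalk ⟨i (j z), hxV⟩
    exact (IsLocalization.AtPrime.isUnit_to_map_iff (X.presheaf.stalk (i (j z)))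
      (V.2.primeIdealOf ⟨i (j z), hxV⟩).asIdeal a).2 ha
  let W : X.Opens := X.basicOpen a
  have hW : IsAffineOpen W := V.2.basicOpen a
  have hWV : W ≤ V.1 := X.basicOpen_le a
  let res : Γ(X, V.1) →+* Γ(X, W) := (X.presheaf.map (homOfLE hWV).op).hom
  have hua : IsUnit (res a) := RingedSpace.isUnit_res_basicOpen _ a
  have hclW : IsClosedImmersion (i ∣_ W) := isClosedImmersion_restrict_of_le hWV hcli
  have hclW' : IsClosedImmersion ((j ≫ i) ∣_ W) := isClosedImmersion_restrict_of_le hWV hclij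
  have hclj : IsClosedImmersion (j ∣_ i ⁻¹ᵁ W) := by
    rw [morphismRestrict_comp] at hclW'
    have h1 : IsClosedImmersion (j ∣_ i ⁻¹ᵁ W ≫ i ∣_ W) := hclW'
    exact IsClosedImmersion.of_comp_isClosedImmersion (j ∣_ i ⁻¹ᵁ W) (i ∣_ W)
  have hkerW : RingHom.ker ((j ≫ i).app W).hom = Ideal.ofList ((hs ++ fs).map res) := by
    rw [ker_app_of_le V.2 hW hWV hclij, ← Ideal.map_ofList]
    apply le_antisymm
    · rw [hkerij, Ideal.map_le_iff_le_comap, Ideal.ofList, Ideal.span_le]
      intro g hg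
      have h1 := Ideal.mem_map_of_mem res (haN g hg)
      rw [map_mul] at h1
      exact (Ideal.unit_mul_mem_iff_mem _ hua).1 h1
    · exact Ideal.map_mono hNJ
  have hkerW' : RingHom.ker (i.app W).hom = Ideal.ofList (fs.map res) := by
    rw [ker_app_of_le V.2 hW hWV hcli, hkeri, Ideal.map_ofList]
  have hkos : LCI.IsKoszulRegularSeq Γ(X, W) (fs.map res) :=
    Groth.Agent.Flat2H.KoszulBC.IsKoszulRegularSeq_map_of_flat hfs _ (flat_res V.2 hW hWV)
  have hkos' : LCI.IsKoszulRegularSeq Γ(X, W) ((hs ++ fs).map res) := by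
    have h1 : LCI.IsKoszulRegularSeq Γ(X, W) (gs.map res) :=
      Groth.Agent.Flat2H.KoszulBC.IsKoszulRegularSeq_map_of_flat hgs _ (flat_res V.2 hW hWV)
    refine Groth.Agent.Flat2H.KoszulSeq.isKoszulRegularSeq_of_ofList_eq h1 ?_ ?_
    · rw [← hkerW, ker_app_of_le V.2 hW hWV hclij, hkerij, Ideal.map_ofList]
    · simp [← hlen]
  rw [List.map_append] at hkos' hkerW
  have hsurj := app_surjective hW hclW
  refine ⟨⟨i ⁻¹ᵁ W, isAffineOpen_preimage hW hclW⟩, hxa, hclj, (hs.map res).map (i.app W).hom, ?_,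
    (isKoszulRegularSeq_append_iff_of_surjective _ hkos _ hsurj hkerW').1 hkos', ?_⟩
  · refine ⟨fs.length, hp, ?_⟩
    simp only [List.length_map]
    rw [hlen]
    exact hq
  · have h1 := congrArg (Ideal.map (i.app W).hom) hkerW
    rw [ker_comp_app, Ideal.map_comap_of_surjective _ hsurj, Ideal.ofList_append, Ideal.map_sup,
      ← hkerW', Ideal.map_ofList] at h1
    have h2 : Ideal.map (i.app W).hom (RingHom.ker (i.app W).hom) = ⊥ := by
      rw [Ideal.map_eq_bot_iff_le_ker]
    rw [h1, h2, sup_bot_eq]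

/-- If the conormal sequence is locally split and `i`, `j ≫ i` are Koszul-regular then so is `j`. -/
theorem isRegularImmersion {i : Y ⟶ X} {j : Z ⟶ Y} [QuasiCompact i] [QuasiCompact j]
    [IsImmersion i] [IsImmersion j]
    (hi : RegImm.IsRegularImmersion .koszul i) (hij : RegImm.IsRegularImmersion .koszul (j ≫ i))
    (φ₁ : (Scheme.Modules.pullback j).obj (Omega.conormal i) ⟶ Omega.conormal (j ≫ i))
    (hφ₁ : OmegaSh.IsConormalMap (j ≫ i) i (𝟙 X) j φ₁)
    (hsplit : ∀ z : Z, ∃ (U : Z.Opens) (ρ : (Scheme.Modules.restrictFunctor U.ι).obj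
        (Omega.conormal (j ≫ i)) ⟶ (Scheme.Modules.restrictFunctor U.ι).obj
          ((Scheme.Modules.pullback j).obj (Omega.conormal i))),
        z ∈ U ∧ (Scheme.Modules.restrictFunctor U.ι).map φ₁ ≫ ρ = 𝟙 _) :
    RegImm.IsRegularImmersion .koszul j := by
  rw [isRegularImmersion_iff] at hi hij ⊢
  refine ⟨inferInstance, fun z => ?_⟩
  obtain ⟨U, ρ, hz, hρ⟩ := hsplit z
  obtain ⟨r, hr, hrφ⟩ := exists_retraction φ₁ U z hz ρ hρ
  obtain ⟨V, h1, h2, rs, -, h3⟩ := exists_local (hi.2 (j z)) (hij.2 z)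
    (fun w hw hw' => mem_of_retraction hφ₁ z r hr hrφ w hw hw')
  exact ⟨V, h1, h2, rs, trivial, h3⟩

end K559.SplitReg
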