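import Groth.Agent.RegImm.K559.ConSt
import Groth.Agent.RegImm.K559.Koszul
import Groth.Agent.RegImm.K559.H1Inf
import Groth.Agent.Sga67.KoszulH1

/-!
# The ideal of an immersion at a point
-/

set_option autoImplicit false
universe u

open CategoryTheory CategoryTheory.Limits AlgebraicGeometry Opposite TopologicalSpace
open Groth.Agent.Sga67.KosStalk Groth.Agent.Sga67.KosImm Groth.Agent.Sga67.KosConormal
open K559.ConSt K559.Basic K559.Koszul

namespace K559.StIdeal

variable {X Y Z : Scheme.{u}}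

/-- Germs are flat. -/
theorem flat_germ {U : X.Opens} (hU : IsAffineOpen U) {x : X} (hx : x ∈ U) :
    (gO X hx).Flat := by
  let := TopCat.Presheaf.algebra_section_stalk X.presheaf ⟨x, hx⟩
  have : IsLocalization.AtPrime (X.presheaf.stalk x) (hU.primeIdealOf ⟨x, hx⟩).asIdeal :=
    hU.isLocalization_stalk ⟨x, hx⟩
  have h2 : Module.Flat Γ(X, U) (X.presheaf.stalk x) :=
    IsLocalization.flat (X.presheaf.stalk x) (hU.primeIdealOf ⟨x, hx⟩).asIdeal.primeCompl
  exact h2

/-- A function with vanishing germ on `Y` vanishes on `Y` over a smaller neighbourhood. -/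
theorem exists_app_eq_zero (i : Y ⟶ X) [IsPreimmersion i] (y : Y) (t : X.presheaf.stalk (i y))
    (ht : i.stalkMap y t = 0) (W₀ : X.Opens) (h₀ : i y ∈ W₀) :
    ∃ (W : X.Opens) (hW : i y ∈ W) (a : Γ(X, W)), W ≤ W₀ ∧ IsAffineOpen W ∧
      gO X hW a = t ∧ i.app W a = 0 := by
  obtain ⟨U, hU, a, rfl⟩ := TopCat.Presheaf.exists_germ_eq X.presheaf t
  have h1 : gO Y (show y ∈ i ⁻¹ᵁ U from hU) (i.app U a) = 0 := by
    rw [← stalkMap_gO i y hU a]
    exact ht
  obtain ⟨V, hyV, f1, f2, h2⟩ := TopCat.Presheaf.germ_eq Y.presheaf y (show y ∈ i ⁻¹ᵁ U from hU)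
    (show y ∈ i ⁻¹ᵁ U from hU) (i.app U a) 0 (h1.trans (map_zero _).symm)
  obtain ⟨W', hW', hWV⟩ := i.isEmbedding.isInducing.isOpen_iff.mp V.2
  obtain ⟨W, hW, hyW, hWs⟩ := exists_isAffineOpen_mem_and_subset (U := W₀ ⊓ U ⊓ ⟨W', hW'⟩) (x := i y)
    ⟨⟨h₀, hU⟩, by
      have : y ∈ (i.base ⁻¹' W' : Set Y) := by rw [hWV]; exact hyV
      exact this⟩
  have hWU : W ≤ U := fun x hx => (hWs hx).1.2
  have hWV' : i ⁻¹ᵁ W ≤ V := by
    intro x hx
    have : x ∈ (⇑i ⁻¹' W' : Set Y) := (hWs hx).2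
    rw [hWV] at this
    exact this
  refine ⟨W, hyW, X.presheaf.map (homOfLE hWU).op a, fun x hx => (hWs hx).1.1, hW, 
    X.presheaf.germ_res_apply _ _ _ _, ?_⟩
  have h4 : i.app W (X.presheaf.map (homOfLE hWU).op a) =
      Y.presheaf.map (homOfLE hWV').op (Y.presheaf.map f1.op (i.app U a)) := by
    have h5 := i.naturality (homOfLE hWU).op
    have h6 := congr($h5 a)
    refine h6.trans ?_
    rw [← CommRingCat.comp_apply, ← Functor.map_comp]
    rfl
  rw [h4, h2, map_zero, map_zero]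

/-- The kernel of the stalk map is generated by the kernel on an affine open. -/
theorem ker_stalkMap {i : Y ⟶ X} [IsPreimmersion i] {U : X.Opens} (hU : IsAffineOpen U)
    (hcl : IsClosedImmersion (i ∣_ U)) (y : Y) (hy : i y ∈ U) :
    kr i y = (RingHom.ker (i.app U).hom).map (gO X hy) := by
  apply le_antisymm
  · intro t ht
    obtain ⟨W, hyW, a, hWU, hW, rfl, ha⟩ := exists_app_eq_zero i y t ht U hy
    have h1 : a ∈ RingHom.ker (i.app W).hom := ha
    rw [ker_app_of_le hU hW hWU hcl] at h1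
    have h2 := Ideal.mem_map_of_mem (gO X hyW) h1
    rw [Ideal.map_map] at h2
    have h3 : (gO X hyW).comp (X.presheaf.map (homOfLE hWU).op).hom = gO X hy := by
      ext b
      exact X.presheaf.germ_res_apply _ _ _ _
    rwa [h3] at h2
  · rw [Ideal.map_le_iff_le_comap]
    intro a ha
    rw [Ideal.mem_comap, RingHom.mem_ker]
    have ha' : i.app U a = 0 := ha
    have := stalkMap_gO i y hy a
    rw [ha', map_zero] at this
    exact this

/-- A Koszul-regular immersion is given by a Koszul-regular sequence in the local rings. -/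
theorem exists_koszul {p : ℕ → Prop} {i : Y ⟶ X} [IsPreimmersion i] {y : Y} (h : KAt p i (i y)) :
    ∃ rs : List (X.presheaf.stalk (i y)), p rs.length ∧
      LCI.IsKoszulRegularSeq (X.presheaf.stalk (i y)) rs ∧ kr i y = Ideal.ofList rs := by
  obtain ⟨U, hyU, hcl, rs, hp, hrs, hker⟩ := h
  refine ⟨rs.map (gO X hyU), by simpa using hp, ?_, ?_⟩
  · exact Groth.Agent.Flat2H.KoszulBC.IsKoszulRegularSeq_map_of_flat hrs _ (flat_germ U.2 hyU)
  · rw [ker_stalkMap U.2 hcl y hyU, hker, Ideal.map_ofList]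

lemma stalkMap_comp_apply (i : Y ⟶ X) (j : Z ⟶ Y) (z : Z) (t : X.presheaf.stalk (i (j z))) :
    (j ≫ i).stalkMap z t = j.stalkMap z (i.stalkMap (j z) t) := by
  rw [Scheme.Hom.stalkMap_comp]
  rfl

/-- The ideal of `Z` in the local ring of `X`. -/
noncomputable abbrev krc (i : Y ⟶ X) (j : Z ⟶ Y) (z : Z) : Ideal (X.presheaf.stalk (i (j z))) :=
  (kr j z).comap (i.stalkMap (j z)).hom

lemma kr_comp (i : Y ⟶ X) (j : Z ⟶ Y) (z : Z) : kr (j ≫ i) z = krc i j z := by
  ext t
  exact iff_of_eq (congrArg (· = 0) (stalkMap_comp_apply i j z t))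

lemma kr_le_krc (i : Y ⟶ X) (j : Z ⟶ Y) (z : Z) : kr i (j z) ≤ krc i j z := by
  intro t ht
  rw [Ideal.mem_comap, RingHom.mem_ker.1 ht]
  exact Ideal.zero_mem _

/-- The intersection of the ideal of `Y` with the square of the ideal of `Z`. -/
theorem inf_le_mul {i : Y ⟶ X} {j : Z ⟶ Y} [IsPreimmersion i] [IsPreimmersion j] {p : ℕ → Prop}
    {z : Z} (h : KAt p j (j z)) :
    kr i (j z) ⊓ krc i j z * krc i j z ≤ kr i (j z) * krc i j z := by
  obtain ⟨rs, -, hrs, hk⟩ := exists_koszul h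
  refine K559.H1Inf.inf_le (i.stalkMap (j z)).hom (i.stalkMap_surjective (j z)) (krc i j z)
    (kr_le_krc i j z)
    rs.get (Groth.Agent.Sga67.KoszulH1.isH1Regular_of_isKoszulRegularSeq rs hrs) ?_
  rw [krc, Ideal.map_comap_of_surjective _ (i.stalkMap_surjective (j z)), hk, Ideal.ofList]
  congr 1
  ext x
  simp [List.mem_iff_get]

end K559.StIdeal
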